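import Cfsg.Agent.Lib.TypeM22.ConfigChecks

/-!
The decompositions of a product of two commuting transvections into three.
-/

set_option autoImplicit false
set_option Elab.async false
set_option maxRecDepth 100000
set_option maxHeartbeats 4000000

namespace CfsgLib.M22Recog

open CfsgLib.TypeM22 (perpB R act)

/-- the points orthogonal to the points 0 and 2, other than these -/
def cand02 : List ℕ :=
  (List.range 693).filter fun i => perpB i 0 && perpB i 2 && !(Nat.beq i 0) && !(Nat.beq i 2)

/-- the further points of the line through the points 0 and 2 -/
def line02 : List ℕ := [64, 669, 676]

/-- three orthogonal points with the action of the pair are the rest of the line -/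
theorem triad_ok : (cand02.all fun i => line02.any (Nat.beq i) || cand02.all fun j => !(perpB i j) ||
    Nat.beq i j || cand02.all fun k => !(Nat.blt j k && perpB i k && perpB j k) || Nat.beq i k ||
      (List.range 693).any fun z => !(Nat.beq (act [i, j, k] z) (act [0, 2] z))) = true := by
  decide +kernel

theorem line02_ok : (line02.all fun i => Nat.blt i 693 && line02.all fun j => perpB i j) = true := by
  decide +kernel

end CfsgLib.M22Recog
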