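import Cfsg.Agent.Lib.M22Recog.Swap
import Cfsg.Agent.Lib.M22Recog.TriadChecks

/-!
The members occurring in the decompositions of a product of three commuting members.
-/

set_option autoImplicit false
set_option linter.unusedSectionVars false

namespace CfsgLib.M22Recog

open CfsgLib.TypeM22
open CfsgLib.CosetEnum (prodW prodW_nil prodW_cons)
open CfsgLib.ThreeTransp.Relations (nbr)

variable {G : Type*} [Group G] [Finite G] {D : Set G}

namespace Triad

variable {a b c : G}

theorem swap12 (T : Triad D a b c) : Triad D b a c :=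
  ⟨T.mb, T.ma, T.mc, T.ab.symm, T.bc, T.ac, T.nab.symm, T.nbc, T.nac⟩

theorem swap23 (T : Triad D a b c) : Triad D a c b :=
  ⟨T.ma, T.mc, T.mb, T.ac, T.ab, T.bc.symm, T.nac, T.nab, T.nbc.symm⟩

theorem pick (T : Triad D a b c) {x : G} (hx : x ∈ [a, b, c]) :
    ∃ u v, Triad D x u v ∧ a * b * c = x * u * v ∧ ∀ y, y ∈ [x, u, v] ↔ y ∈ [a, b, c] := by
  simp only [List.mem_cons, List.not_mem_nil, or_false] at hx
  rcases hx with rfl | rfl | rfl
  · exact ⟨b, c, T, rfl, fun _ => Iff.rfl⟩
  · exact ⟨a, c, T.swap12, by rw [T.ab.eq], fun y => by simp only [List.mem_cons]; tauto⟩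
  · refine ⟨a, b, T.swap23.swap12, ?_, fun y => by simp only [List.mem_cons]; tauto⟩
    rw [(T.ac.mul_left T.bc).eq, mul_assoc]

theorem comm_all (T : Triad D a b c) : ∀ x ∈ [a, b, c], ∀ y ∈ [a, b, c], Commute x y := by
  simp [T.ab, T.ac, T.bc, T.ab.symm, T.ac.symm, T.bc.symm]

theorem comm_prod (T : Triad D a b c) {x : G} (hx : x ∈ [a, b, c]) : Commute x (a * b * c) :=
  ((T.comm_all x hx a (by simp)).mul_right (T.comm_all x hx b (by simp))).mul_right (T.comm_all x hx c (by simp))

theorem mem (T : Triad D a b c) : ∀ x ∈ [a, b, c], x ∈ D := by simp [T.ma, T.mb, T.mc]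

theorem nodup (T : Triad D a b c) : [a, b, c].Nodup := by simp [T.nab, T.nac, T.nbc]

theorem map (hD : ∀ g : G, ∀ y ∈ D, g * y * g⁻¹ ∈ D) (g : G) (T : Triad D a b c) :
    Triad D (g * a * g⁻¹) (g * b * g⁻¹) (g * c * g⁻¹) where
  ma := hD g a T.ma
  mb := hD g b T.mb
  mc := hD g c T.mc
  ab := T.ab.map (MulAut.conj g)
  ac := T.ac.map (MulAut.conj g)
  bc := T.bc.map (MulAut.conj g)
  nab e := T.nab (mul_left_cancel (mul_right_cancel e))
  nac e := T.nac (mul_left_cancel (mul_right_cancel e))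
  nbc e := T.nbc (mul_left_cancel (mul_right_cancel e))

end Triad

/-- a member of a decomposition of `t` -/
def Single (D : Set G) (t f : G) : Prop := ∃ a b, Triad D f a b ∧ t = f * a * b

namespace Hyp

variable (H : Hyp D)
include H

theorem single_conj {t f g : G} (hf : Single D t f) (hg : Commute g t) : Single D t (g * f * g⁻¹) := by
  obtain ⟨a, b, T, rfl⟩ := hf
  refine ⟨_, _, T.map H.conj g, ?_⟩
  rw [show g * f * g⁻¹ * (g * a * g⁻¹) * (g * b * g⁻¹) = g * (f * a * b) * g⁻¹ by group, hg.eq,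
    mul_inv_cancel_right]

/-- commuting with the product and one factor -/
theorem step {r p q x : G} (T : Triad D r p q) (hx : x ∈ D) (ht : Commute x (r * p * q)) (hr : Commute x r) :
    ∀ y ∈ [r, p, q], Commute x y := by
  have h := hr.mul_right ht
  rw [mul_assoc r p, ← mul_assoc, H.sq r T.ma, one_mul] at h
  obtain ⟨h1, h2⟩ := H.comm_pair T.mb T.mc T.bc T.nbc hx h
  simp [hr, h1, h2]

theorem six_comm {f a b r p q : G} (T : Triad D f a b) (U : Triad D r p q) (e : f * a * b = r * p * q)
    (hfr : Commute f r) : ∀ x ∈ [f, a, b], ∀ y ∈ [r, p, q], Commute x y := fun x hx => by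
  refine H.step U (T.mem x hx) (e ▸ T.comm_prod hx) ?_
  exact (H.step T U.ma (e ▸ U.comm_prod (List.mem_cons_self ..)) hfr.symm x hx).symm

theorem same {f a b p q : G} (T : Triad D f a b) (U : Triad D f p q) (e : f * a * b = f * p * q) :
    ∀ y, y ∈ [f, a, b] ↔ y ∈ [f, p, q] := fun y => by
  rw [mul_assoc, mul_assoc] at e
  rcases H.pair_unique T.mb T.mc U.mb U.mc T.bc U.bc U.nbc (mul_left_cancel e) with ⟨rfl, rfl⟩ | ⟨rfl, rfl⟩
  · rfl
  · simp only [List.mem_cons]; tauto

theorem disjoint {f a b r p q : G} (T : Triad D f a b) (U : Triad D r p q) (e : f * a * b = r * p * q)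
    (hf : f ∉ [r, p, q]) : ∀ x ∈ [f, a, b], x ∉ [r, p, q] := fun x hx hx' => by
  obtain ⟨a', b', T', e1, h1⟩ := T.pick hx
  obtain ⟨p', q', U', e2, h2⟩ := U.pick hx'
  exact hf ((h2 f).1 ((H.same T' U' (e1.symm.trans (e.trans e2)) f).1 ((h1 f).2 (List.mem_cons_self ..))))

/-- the other decompositions lie on the line -/
theorem line_mem {f a b r p q : G} (T : Triad D f a b) (U : Triad D r p q) (e : f * a * b = r * p * q)
    (hfr : Commute f r) (hf : f ∉ [r, p, q]) {ψ : ℕ → G} (P : Pts D r ψ) (h0 : ψ 0 = p) (h2 : ψ 2 = q) :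
    ∃ i ∈ line02, ψ i = f := by
  have h0' : (0 : ℕ) < 693 := by norm_num
  have h2' : (2 : ℕ) < 693 := by norm_num
  have key : ∀ x ∈ [f, a, b], ∃ i ∈ cand02, i < 693 ∧ ψ i = x := fun x hx => by
    have hd := H.disjoint T U e hf x hx
    have hc := H.six_comm T U e hfr x hx
    simp only [List.mem_cons, List.not_mem_nil, or_false, not_or] at hd
    obtain ⟨i, hi, ei⟩ := P.surj (show x ∈ nbr D r from ⟨T.mem x hx, hd.1, (hc r (by simp)).symm⟩)
    refine ⟨i, ?_, hi, ei⟩
    simp only [cand02, List.mem_filter, List.mem_range, Bool.and_eq_true, Bool.not_eq_true']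
    refine ⟨hi, ⟨⟨(P.comm hi h0').1 (by rw [ei, h0]; exact hc p (by simp)),
      (P.comm hi h2').1 (by rw [ei, h2]; exact hc q (by simp))⟩,
      Bool.eq_false_iff.2 fun e' => hd.2.1 ?_⟩, Bool.eq_false_iff.2 fun e' => hd.2.2 ?_⟩
    · rw [← ei, Nat.eq_of_beq_eq_true e', h0]
    · rw [← ei, Nat.eq_of_beq_eq_true e', h2]
  obtain ⟨i, hic, hi, ei⟩ := key f (by simp)
  obtain ⟨j, hjc, hj, ej⟩ := key a (by simp)
  obtain ⟨k, hkc, hk, ek⟩ := key b (by simp)
  by_contra hno
  have h := List.all_eq_true.1 triad_ok i hic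
  have hnl : line02.any (Nat.beq i) = false := Bool.eq_false_iff.2 fun h => by
    obtain ⟨m, hm, e'⟩ := List.any_eq_true.1 h
    exact hno ⟨m, hm, by rw [← Nat.eq_of_beq_eq_true e']; exact ei⟩
  rw [hnl, Bool.false_or, List.all_eq_true] at h
  have bad : ∀ {a b : G} {j k : ℕ}, Triad D f a b → f * a * b = r * p * q → j ∈ cand02 → j < 693 → ψ j = a →
      k ∈ cand02 → k < 693 → ψ k = b → j < k → False := by
    intro a b j k T e hjc hj ej hkc hk ek hjk
    have pij : perpB i j = true := (P.comm hi hj).1 (by rw [ei, ej]; exact T.ab)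
    have pik : perpB i k = true := (P.comm hi hk).1 (by rw [ei, ek]; exact T.ac)
    have pjk : perpB j k = true := (P.comm hj hk).1 (by rw [ej, ek]; exact T.bc)
    have nij : Nat.beq i j = false := Bool.eq_false_iff.2 fun e' => T.nab (by
      rw [← ei, ← ej, Nat.eq_of_beq_eq_true e'])
    have nik : Nat.beq i k = false := Bool.eq_false_iff.2 fun e' => T.nac (by
      rw [← ei, ← ek, Nat.eq_of_beq_eq_true e'])
    have h' := h j hjc
    rw [pij, nij] at h'
    simp only [Bool.not_true, Bool.false_or, List.all_eq_true] at h'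
    have h'' := h' k hkc
    rw [show Nat.blt j k = true by rw [Nat.blt_eq]; exact hjk, pik, pjk, nik] at h''
    simp only [Bool.and_self, Bool.not_true, Bool.false_or, List.any_eq_true, List.mem_range,
      Bool.not_eq_true'] at h''
    obtain ⟨z, hz, hne⟩ := h''
    have hw : ∀ m ∈ [i, j, k], m < 693 := by simp [hi, hj, hk]
    have hv : ∀ m ∈ [0, 2], m < 693 := by simp
    refine Nat.ne_of_beq_eq_false hne (P.inj (act_lt hw hz) (act_lt hv hz) ?_)
    have hr : Commute r (ψ (act [0, 2] z)) := (P.mem (act_lt hv hz)).2.2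
    rw [P.conj_act hw hz, ← mul_inv_cancel_right (ψ (act [0, 2] z)) r, ← hr.eq, P.conj_act hv hz]
    simp only [prodW_cons, prodW_nil, mul_one, ei, ej, ek, h0, h2]
    rw [show f * (a * b) = r * (p * q) by simpa only [mul_assoc] using e]
    group
  rcases lt_trichotomy j k with h | rfl | h
  · exact bad T e hjc hj ej hkc hk ek h
  · exact T.nbc (ej.symm.trans ek)
  · exact bad T.swap23 (by rw [mul_assoc, T.bc.symm.eq, ← mul_assoc, e]) hkc hk ek hjc hj ej h

theorem exists_line_pts {r p q : G} (U : Triad D r p q) : ∃ ψ, Pts D r ψ ∧ ψ 0 = p ∧ ψ 2 = q :=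
  H.pts_commuting U.ma ⟨U.mb, U.nab.symm, U.ab⟩ ⟨U.mc, U.nac.symm, U.ac⟩ U.bc U.nbc

/-- commuting is transitive on the members of decompositions -/
theorem trans {t f r s : G} (hf : Single D t f) (hr : Single D t r) (hs : Single D t s) (hfr : Commute f r)
    (hrs : Commute r s) : Commute f s := by
  obtain ⟨p, q, U, et⟩ := hr
  obtain ⟨a, b, T, et1⟩ := hf
  obtain ⟨u, v, V, et2⟩ := hs
  have e1 : f * a * b = r * p * q := et1.symm.trans et
  have e2 : s * u * v = r * p * q := et2.symm.trans et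
  by_cases hf' : f ∈ [r, p, q]
  · exact (H.six_comm V U e2 hrs.symm s (by simp) f hf').symm
  by_cases hs' : s ∈ [r, p, q]
  · exact H.six_comm T U e1 hfr f (by simp) s hs'
  obtain ⟨ψ, P, h0, h2⟩ := H.exists_line_pts U
  obtain ⟨i, hi, rfl⟩ := H.line_mem T U e1 hfr hf' P h0 h2
  obtain ⟨j, hj, rfl⟩ := H.line_mem V U e2 hrs.symm hs' P h0 h2
  have hl := line02_ok
  simp only [List.all_eq_true, Bool.and_eq_true, Nat.blt_eq] at hl
  exact (P.comm (hl i hi).1 (hl j hj).1).2 ((hl i hi).2 j hj)

/-- there are at most two decompositions within one set of commuting members -/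
theorem two_triads {r p q s u v x a b : G} (U : Triad D r p q) (V : Triad D s u v) (T : Triad D x a b)
    (e : s * u * v = r * p * q) (e' : x * a * b = r * p * q) (hsr : Commute s r) (hs : s ∉ [r, p, q])
    (hxr : Commute x r) (hx : x ∉ [r, p, q]) : x ∈ [s, u, v] := by
  by_contra hno
  obtain ⟨ψ, P, h0, h2⟩ := H.exists_line_pts U
  have hsub : [x, s, u, v] ⊆ line02.map ψ := fun y hy => by
    rw [List.mem_map]
    rcases List.mem_cons.1 hy with rfl | hy
    · exact H.line_mem T U e' hxr hx P h0 h2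
    · obtain ⟨c, d, V', e2, -⟩ := V.pick hy
      exact H.line_mem V' U (e2.symm.trans e) (H.six_comm V U e hsr y hy r (by simp))
        (H.disjoint V U e hs y hy) P h0 h2
  have := ((List.nodup_cons.2 ⟨hno, V.nodup⟩).subperm hsub).length_le
  simp [line02] at this

/-- a second decomposition -/
theorem exists_cross {t r p q : G} (U : Triad D r p q) (et : t = r * p * q) :
    ∃ s, Single D t s ∧ Commute r s ∧ s ∉ [r, p, q] := by
  obtain ⟨ι, L, hall⟩ := H.exists_frame (Δ := {y | y ∈ [r, p, q]}) (fun y hy => U.mem y hy)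
    (fun y hy y' hy' => U.comm_all y hy y' hy') (x := r) (by simp)
  obtain ⟨i, hi, ei⟩ := hall r (by simp)
  obtain ⟨j, hj, ej⟩ := hall p (by simp)
  obtain ⟨k, hk, ek⟩ := hall q (by simp)
  obtain ⟨l, hn, hlen, hl, hp, -⟩ := six_of hi hj hk (fun e => U.nab (by rw [ei, ej, e]))
    (fun e => U.nac (by rw [ei, ek, e])) (fun e => U.nbc (by rw [ej, ek, e]))
  match l, hlen, hn, hl, hp with
  | [a, b, c], _, hn, hl, hp =>
    simp only [List.nodup_cons, List.mem_cons, List.not_mem_nil, or_false, not_or] at hn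
    obtain ⟨la, a1, a2, a3⟩ := hl a (by simp)
    obtain ⟨lb, -⟩ := hl b (by simp)
    obtain ⟨lc, -⟩ := hl c (by simp)
    have e : ([a, b, c].map (tG ι)).prod = ([i, j, k].map (tG ι)).prod := by
      rw [tG_prod, tG_prod, hp]
      rfl
    simp only [List.map_cons, List.map_nil, List.prod_cons, List.prod_nil, mul_one, ← mul_assoc,
      ← ei, ← ej, ← ek] at e
    have cm : ∀ m n, Commute (tG ι m) (tG ι n) := fun m n => frameGrp_comm (tG_mem ι m) (tG_mem ι n)
    refine ⟨tG ι a, ⟨tG ι b, tG ι c, ⟨L.frame a la, L.frame b lb, L.frame c lc, cm _ _, cm _ _, cm _ _,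
      fun e => hn.1.1 (L.frame_inj la lb e), fun e => hn.1.2 (L.frame_inj la lc e),
      fun e => hn.2.1 (L.frame_inj lb lc e)⟩, et.trans e.symm⟩, ei ▸ cm i a, ?_⟩
    simp only [List.mem_cons, List.not_mem_nil, or_false, not_or]
    exact ⟨fun e => a1 (L.frame_inj la hi (e.trans ei)), fun e => a2 (L.frame_inj la hj (e.trans ej)),
      fun e => a3 (L.frame_inj la hk (e.trans ek))⟩

/-- the crossing pair does not move `f` to a commuting member -/
theorem cross_swap {t f r p q s : G} (hf : Single D t f) (U : Triad D r p q) (et : t = r * p * q)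
    (hs : Single D t s) (hrs : Commute r s) (hns : s ∉ [r, p, q]) (hfr : ¬ Commute f r)
    (hc : Commute f (r * s * f * (r * s))) : False := by
  have hne : r ≠ s := fun e => hns (by simp [e])
  have hsD : s ∈ D := by obtain ⟨u, v, V, -⟩ := hs; exact V.ma
  have hu2 : r * s * (r * s) = 1 := by rw [hrs.symm.mul_mul_mul_comm, H.sq r U.ma, H.sq s hsD, one_mul]
  have hut : Commute (r * s) t := by
    obtain ⟨u, v, V, e⟩ := hs
    exact (et ▸ U.comm_prod (List.mem_cons_self ..)).mul_left (e ▸ V.comm_prod (List.mem_cons_self ..))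
  have hinv : (r * s)⁻¹ = r * s := inv_eq_of_mul_eq_one_right hu2
  have hr : Single D t r := ⟨p, q, U, et⟩
  obtain ⟨a, b, T, et'⟩ := hf
  have hsing : ∀ x ∈ [f, a, b], Single D t x := fun x hx => by
    obtain ⟨c, d, T', e, -⟩ := T.pick hx; exact ⟨c, d, T', et'.trans e⟩
  have hnr : ∀ x ∈ [f, a, b], ¬ Commute x r := fun x hx hxr =>
    hfr (H.trans ⟨a, b, T, et'⟩ (hsing x hx) hr (T.comm_all f (by simp) x hx) hxr)
  -- no member of the triad is fixed
  have hfix : ∀ x ∈ [f, a, b], r * s * x * (r * s) ≠ x := fun x hx e => by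
    refine hnr x hx (H.comm_pair U.ma hsD hrs hne (T.mem x hx) ?_).1
    show x * (r * s) = r * s * x
    conv_lhs => rw [← e]
    rw [mul_assoc, hu2, mul_one]
  have himg : ∀ {x y : G}, r * s * x * (r * s) = y → r * s * y * (r * s) = x := fun {x y} e => by
    rw [← e, show r * s * (r * s * x * (r * s)) * (r * s) = r * s * (r * s) * x * (r * s * (r * s)) by group,
      hu2, one_mul, mul_one]
  have U' := T.map H.conj (r * s)
  rw [hinv] at U'
  have e' : f * a * b = r * s * f * (r * s) * (r * s * a * (r * s)) * (r * s * b * (r * s)) := by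
    have : r * s * f * (r * s) * (r * s * a * (r * s)) * (r * s * b * (r * s)) =
        r * s * f * (r * s * (r * s)) * a * (r * s * (r * s)) * b * (r * s) := by group
    rw [this, hu2, mul_one, mul_one, show r * s * f * a * b * (r * s) = r * s * (f * a * b) * (r * s) by group,
      ← et', hut.eq, mul_assoc t, hu2, mul_one]
  by_cases hmem : r * s * f * (r * s) ∈ [f, a, b]
  · -- then another member is fixed
    simp only [List.mem_cons, List.not_mem_nil, or_false] at hmem
    rcases hmem with h | h | h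
    · exact hfix f (by simp) h
    · refine hfix b (by simp) ?_
      rw [h, himg h, T.ab.symm.eq] at e'
      exact (mul_left_cancel e').symm
    · refine hfix a (by simp) ?_
      have h1 : Commute b (r * s * a * (r * s)) := h ▸ U'.ab
      rw [h, himg h] at e'
      have h2 : a * (b * f) = r * s * a * (r * s) * (b * f) := by
        rw [← mul_assoc, ← (T.ab.mul_right T.ac).eq, ← mul_assoc, e', h1.eq, mul_assoc]
      exact (mul_right_cancel h2).symm
  have hdis := H.disjoint U' T e'.symm hmem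
  have hcross := H.six_comm T U' e' hc
  set g := fun x => r * s * x * (r * s) with hg
  have hlist : ∀ x, x ∈ [f, a, b, g f, g a, g b] ↔ x ∈ [f, a, b] ∨ x ∈ [g f, g a, g b] := fun x => by
    simp only [List.mem_cons, List.not_mem_nil, or_false, or_assoc]
  have hcl : ∀ x ∈ [f, a, b, g f, g a, g b], ∀ y ∈ [f, a, b, g f, g a, g b], Commute x y := fun x hx y hy => by
    rcases (hlist x).1 hx with hx | hx <;> rcases (hlist y).1 hy with hy | hy
    · exact T.comm_all x hx y hy
    · exact hcross x hx y hy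
    · exact (hcross y hy x hx).symm
    · exact U'.comm_all x hx y hy
  have hnd : [f, a, b, g f, g a, g b].Nodup := by
    show ([f, a, b] ++ [g f, g a, g b]).Nodup
    exact List.nodup_append.2 ⟨T.nodup, U'.nodup, fun x hx y hy e => hdis y hy (e ▸ hx)⟩
  have hD : ∀ x ∈ [f, a, b, g f, g a, g b], x ∈ D := fun x hx => by
    rcases (hlist x).1 hx with hx | hx
    · exact T.mem x hx
    · exact U'.mem x hx
  have hperm : ∀ x ∈ [f, a, b, g f, g a, g b], g x ∈ [f, a, b, g f, g a, g b] := fun x hx => by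
    simp only [List.mem_cons, List.not_mem_nil, or_false] at hx ⊢
    rcases hx with rfl | rfl | rfl | rfl | rfl | rfl <;> simp [hg, himg rfl]
  obtain ⟨z, hz, hzu, hzx⟩ := H.exists_fixed (Δ := {y | y ∈ [f, a, b, g f, g a, g b]}) hD hcl
    ⟨f, by simp⟩ hu2 hperm
  obtain ⟨hzr, hzs⟩ := H.comm_pair U.ma hsD hrs hne hz hzu.symm
  have hfz := hzx f (by simp)
  have haz := hzx a (by simp)
  have hbz := hzx b (by simp)
  refine H.no_swap hz ⟨U.ma, ?_, hzr⟩ ⟨hsD, ?_, hzs⟩ hrs hne ⟨T.ma, ?_, hfz.symm⟩ ⟨T.mb, ?_, haz.symm⟩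
    ⟨T.mc, ?_, hbz.symm⟩ hnd hcl e'
  · rintro rfl; exact hfr hfz
  · rintro rfl; exact hfr (H.trans ⟨a, b, T, et'⟩ hs hr hfz hrs.symm)
  · rintro rfl; exact hnr f (by simp) hzr
  · rintro rfl; exact hnr a (by simp) hzr
  · rintro rfl; exact hnr b (by simp) hzr

/-- the crossing pair times a central factor is not in a decomposition -/
theorem no_odd {t f r p q s c : G} (hf : Single D t f) (U : Triad D r p q) (et : t = r * p * q)
    (hs : Single D t s) (hrs : Commute r s) (hns : s ∉ [r, p, q]) (hfr : ¬ Commute f r)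
    (hcf : Commute c f) (hcu : Commute c (r * s)) (hx : Single D t (c * (r * s))) : False := by
  have hne : r ≠ s := fun e => hns (by simp [e])
  obtain ⟨u, v, V, ets⟩ := hs
  obtain ⟨a, b, T, etf⟩ := hf
  obtain ⟨a', b', X, etx⟩ := hx
  have hr : Single D t r := ⟨p, q, U, et⟩
  have hf : Single D t f := ⟨a, b, T, etf⟩
  have hft : Commute f t := etf ▸ T.comm_prod (List.mem_cons_self ..)
  have hu2 : r * s * (r * s) = 1 := by rw [hrs.symm.mul_mul_mul_comm, H.sq r U.ma, H.sq s V.ma, one_mul]
  generalize hx' : c * (r * s) = x at X etx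
  have hc : c = x * (r * s) := by rw [← hx', mul_assoc, hu2, mul_one]
  have hxu : Commute x (r * s) := hx' ▸ hcu.mul_left (Commute.refl _)
  obtain ⟨hxr, hxs⟩ := H.comm_pair U.ma V.ma hrs hne X.ma hxu
  -- commuting with a pair from both triads is impossible
  have bad : ∀ {m n : G}, m ∈ [r, p, q] → n ∈ [s, u, v] → c = t * (m * n) → False := fun {m n} hm hn e => by
    have hmn : Commute m n := (H.six_comm V U (ets.symm.trans et) hrs.symm n hn m hm).symm
    have hne' : m ≠ n := fun e => H.disjoint V U (ets.symm.trans et) hns n hn (e ▸ hm)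
    have h := hft.inv_right.mul_right hcf.symm
    rw [e, inv_mul_cancel_left] at h
    obtain ⟨hfm, -⟩ := H.comm_pair (U.mem m hm) (V.mem n hn) hmn hne' T.ma h
    obtain ⟨m1, m2, M, em, -⟩ := U.pick hm
    exact hfr (H.trans hf ⟨m1, m2, M, et.trans em⟩ hr hfm (U.comm_all m hm r (by simp)))
  have hcr : ∀ {w : G}, c = w → Commute f w := fun e => e ▸ hcf.symm
  have hxu' : x * (r * s) = x * r * s := (mul_assoc _ _ _).symm
  have hcomm1 := U.comm_all
  by_cases h1 : x ∈ [r, p, q]
  · simp only [List.mem_cons, List.not_mem_nil, or_false] at h1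
    rcases h1 with rfl | rfl | rfl
    · have : c = s := by rw [hc, ← mul_assoc, H.sq x U.ma, one_mul]
      exact hfr (H.trans hf ⟨u, v, V, ets⟩ hr (hcr this) hrs.symm)
    · refine bad (m := q) (n := s) (by simp) (by simp) ?_
      rw [hc, et, show r * x * q * (q * s) = r * x * (q * q) * s by group, H.sq q U.mc, mul_one,
        ← mul_assoc, hxr.eq]
    · refine bad (m := p) (n := s) (by simp) (by simp) ?_
      rw [hc, et, show r * p * x * (p * s) = r * (p * (x * p)) * s by group, U.bc.symm.eq, ← mul_assoc p,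
        H.sq p U.mb, one_mul, ← hxr.eq, mul_assoc]
  · have hin := H.two_triads U V X (ets.symm.trans et) (etx.symm.trans et) hrs.symm hns hxr h1
    simp only [List.mem_cons, List.not_mem_nil, or_false] at hin
    rcases hin with rfl | rfl | rfl
    · have : c = r := by rw [hc, hrs.eq, ← mul_assoc, H.sq x V.ma, one_mul]
      exact hfr (hcr this)
    · refine bad (m := r) (n := v) (by simp) (by simp) ?_
      have h : t * v = s * x := by rw [ets, mul_assoc, H.sq v V.mc, mul_one]
      have hrv : Commute r v := (H.six_comm V U (ets.symm.trans et) hrs.symm v (by simp) r (by simp)).symm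
      rw [hc, hrv.eq, ← mul_assoc t, h, ← mul_assoc, hxr.eq, mul_assoc r, hxs.eq, (hrs.mul_right hxr.symm).eq]
    · refine bad (m := r) (n := u) (by simp) (by simp) ?_
      have h : t * u = s * x := by rw [ets, mul_assoc, V.bc.symm.eq, ← mul_assoc, mul_assoc s u u, H.sq u V.mb, mul_one]
      have hru : Commute r u := (H.six_comm V U (ets.symm.trans et) hrs.symm u (by simp) r (by simp)).symm
      rw [hc, hru.eq, ← mul_assoc t, h, ← mul_assoc, hxr.eq, mul_assoc r, hxs.eq, (hrs.mul_right hxr.symm).eq]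

/-- members of decompositions commute -/
theorem single_commute {t f r : G} (hf : Single D t f) (hr : Single D t r) : Commute f r := by
  by_contra hfr
  obtain ⟨p, q, U, et⟩ := hr
  obtain ⟨a, b, T, etf⟩ := id hf
  obtain ⟨s, hs, hrs, hns⟩ := H.exists_cross U et
  obtain ⟨u, v, V, ets⟩ := id hs
  have hne : r ≠ s := fun e => hns (by simp [e])
  have hf2 := H.sq f T.ma
  have hu2 : r * s * (r * s) = 1 := by rw [hrs.symm.mul_mul_mul_comm, H.sq r U.ma, H.sq s V.ma, one_mul]
  have hwt : Commute (f * (r * s)) t := (etf ▸ T.comm_prod (List.mem_cons_self ..)).mul_left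
    ((et ▸ U.comm_prod (List.mem_cons_self ..)).mul_left (ets ▸ V.comm_prod (List.mem_cons_self ..)))
  obtain ⟨w, hw⟩ : ∃ w, w = f * (r * s) := ⟨_, rfl⟩
  rw [← hw] at hwt
  have hwf : f * w = r * s := by rw [hw, ← mul_assoc, hf2, one_mul]
  have hwi : w⁻¹ = r * s * f := by
    refine inv_eq_of_mul_eq_one_right ?_
    rw [hw, show f * (r * s) * (r * s * f) = f * (r * s * (r * s)) * f by group, hu2, mul_one, hf2]
  have hrefl : ∀ k : ℕ, w ^ k * f = f * (w ^ k)⁻¹ := fun k => by
    have h : SemiconjBy f w⁻¹ w := by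
      show f * w⁻¹ = w * f
      rw [hwi, hw]; group
    have := h.pow_right k
    rw [inv_pow] at this
    exact this.symm
  have hconj : ∀ k : ℕ, w ^ k * f * (w ^ k)⁻¹ = w ^ (2 * k) * f := fun k => by
    rw [two_mul, pow_add, mul_assoc, mul_assoc (w ^ k) (w ^ k), hrefl]
  have hsing : ∀ k : ℕ, Single D t (w ^ (2 * k) * f) := fun k => hconj k ▸ H.single_conj hf (hwt.pow_left k)
  have hn : w ^ orderOf w = 1 := pow_orderOf_eq_one w
  rcases Nat.even_or_odd' (orderOf w) with ⟨m, hm | hm⟩
  · have hj : w ^ m * w ^ m = 1 := by rw [← pow_add, ← two_mul, ← hm, hn]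
    have hji : (w ^ m)⁻¹ = w ^ m := inv_eq_of_mul_eq_one_right hj
    have hjf : Commute (w ^ m) f := by
      have := hrefl m; rw [hji] at this; exact this
    have hju : Commute (w ^ m) (r * s) := hwf ▸ hjf.mul_right ((Commute.refl w).pow_left m)
    rcases Nat.even_or_odd' m with ⟨l, rfl | rfl⟩
    · obtain ⟨a', b', X, etx⟩ := hsing l
      generalize hx : w ^ (2 * l) * f = x at X etx
      have hj' : x * f = w ^ (2 * l) := by rw [← hx, mul_assoc, hf2, mul_one]
      have hne' : x ≠ f := fun e => by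
        rw [e, hf2] at hj'
        have h1 := Nat.le_of_dvd (Nat.pos_of_ne_zero fun h => by
          have := orderOf_pos w; omega) (orderOf_dvd_of_pow_eq_one hj'.symm)
        have := orderOf_pos w
        omega
      have hxf : Commute x f := hx ▸ hjf.mul_left (Commute.refl f)
      refine H.cross_swap hf U et hs hrs hns hfr ?_
      rcases H.pair_map X.ma T.ma hxf hne' (g := r * s) (hj' ▸ hju.symm) with ⟨-, h⟩ | ⟨-, h⟩
      · rw [inv_eq_of_mul_eq_one_right hu2] at h
        rw [h]
      · rw [inv_eq_of_mul_eq_one_right hu2] at h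
        rw [h]; exact hxf.symm
    · refine H.no_odd hf U et hs hrs hns hfr (c := w ^ (2 * l + 1)) hjf hju ?_
      have : w ^ (2 * l) * f = w ^ (2 * l + 1) * (r * s) := by
        rw [pow_succ, mul_assoc, hw, mul_assoc f, hu2, mul_one]
      exact this ▸ hsing l
  · refine H.no_odd hf U et hs hrs hns hfr (c := 1) (Commute.one_left _) (Commute.one_left _) ?_
    have : w ^ (2 * m) * f = 1 * (r * s) := by
      rw [hm, pow_succ] at hn
      rw [mul_eq_one_iff_eq_inv.1 hn, hwi, mul_assoc, hf2, mul_one, one_mul]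
    exact this ▸ hsing m

/-- a member commuting with a product of three commuting ones commutes with the factors -/
theorem triple_comm {a b c y : G} (T : Triad D a b c) (hy : y ∈ D) (h : Commute y (a * b * c)) :
    ∀ x ∈ [a, b, c], Commute y x := fun x hx => by
  obtain ⟨u, v, T', e, -⟩ := T.pick hx
  have hs : Single D (a * b * c) x := ⟨u, v, T', e⟩
  have := H.single_commute hs (H.single_conj hs h)
  rw [H.inv hy] at this
  exact (H.no_exchange T'.ma hy this).symm

end Hyp

end CfsgLib.M22Recog
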