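import Cfsg.Agent.Lib.M22Recog.Class

/-!
The class is primitive under conjugation.
-/

set_option autoImplicit false
set_option linter.unusedSectionVars false

namespace CfsgLib.M22Recog

open CfsgLib.TypeM22
open CfsgLib.CosetEnum (prodW)
open CfsgLib.ThreeTransp.Relations (nbr)

variable {G : Type*} [Group G] [Finite G] {D : Set G}

namespace Hyp

variable (H : Hyp D)
include H

/-- the centralizer of a member is transitive on its neighbours -/
theorem conj_nbr_fix {a y z : G} (ha : a ∈ D) (hy : y ∈ nbr D a) (hz : z ∈ nbr D a) :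
    ∃ g : G, Commute g a ∧ g * y * g⁻¹ = z := by
  obtain ⟨φ, P⟩ := H.exists_pts ha
  have key : ∀ p < 693, ∃ g : G, Commute g a ∧ g * φ 0 * g⁻¹ = φ p := fun p hp => by
    have e : (pathTree.take 1).map Prod.fst = [[]] := by decide +kernel
    have hfit : fits ((pathTree.take 1).map Prod.fst) [] [p] = true := by rw [e]; simp [fits, fitB]
    obtain ⟨w, hw, hmem⟩ := norm (pre := []) one_leaf.2 (List.mem_singleton_self _) (by simp [hp]) hfit
    rw [one_leaf.1, List.mem_singleton] at hmem
    simp only [List.nil_append, List.map_cons, List.map_nil, List.cons.injEq, and_true] at hmem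
    refine ⟨(prodW φ w)⁻¹, (P.commute_prodW hw).inv_left, ?_⟩
    rw [← hmem, P.conj_act hw hp]; group
  obtain ⟨p, hp, rfl⟩ := P.surj hy
  obtain ⟨q, hq, rfl⟩ := P.surj hz
  obtain ⟨g, hg, eg⟩ := key p hp
  obtain ⟨k, hk, ek⟩ := key q hq
  exact ⟨k * g⁻¹, hk.mul_left hg.inv_left, by rw [← ek, ← eg]; group⟩

/-- a block through two members contains every member -/
theorem primitive {d : G} (hd : d ∈ D) : Cfsg.IsPrimitiveUnderConj D := by
  refine ⟨fun a ha b hb => ?_, ?_, fun B hBD hblk => ?_⟩
  · obtain ⟨g, -, e⟩ := H.transitive ha hb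
    exact ⟨g, e⟩
  · obtain ⟨φ, P⟩ := H.exists_pts hd
    exact ⟨_, (P.mem (i := 0) (by norm_num)).1, d, hd, (P.mem (i := 0) (by norm_num)).2.1⟩
  by_contra hne
  push Not at hne
  obtain ⟨hns, hBD'⟩ := hne
  obtain ⟨a, ha, b, hb, hab⟩ := hns
  -- an element moving a point of the block to a point of the block preserves it
  have move : ∀ g : G, ∀ x ∈ B, g * x * g⁻¹ ∈ B → ∀ y ∈ B, g * y * g⁻¹ ∈ B := by
    intro g x hx hgx y hy
    rcases hblk g with h | h
    · exact h ▸ ⟨y, hy, rfl⟩
    · exact absurd hgx (Set.disjoint_left.mp h ⟨x, hx, rfl⟩)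
  have fix : ∀ g : G, ∀ x ∈ B, Commute g x → ∀ y ∈ B, g * y * g⁻¹ ∈ B := fun g x hx h =>
    move g x hx (by rwa [h.eq, mul_inv_cancel_right])
  -- a commuting pair in the block spreads
  have spread : ∀ x ∈ B, ∀ y ∈ B, x ≠ y → Commute x y → ∀ z ∈ D, Commute x z → z ∈ B := by
    intro x hx y hy hxy hc z hz hxz
    by_cases e : z = x
    · exact e ▸ hx
    obtain ⟨g, hg, rfl⟩ := H.conj_nbr_fix (hBD hx) ⟨hBD hy, hxy.symm, hc⟩ ⟨hz, e, hxz⟩
    exact fix g x hx hg y hy
  obtain ⟨x, hx, y, hy, hxy, hc⟩ : ∃ x ∈ B, ∃ y ∈ B, x ≠ y ∧ Commute x y := by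
    by_cases hab' : Commute a b
    · exact ⟨a, ha, b, hb, hab, hab'⟩
    have haD := hBD ha
    have hbD := hBD hb
    obtain ⟨z, hz, hbz⟩ : ∃ z ∈ nbr D a, ¬ Commute z b := by
      by_contra hcon
      push Not at hcon
      obtain ⟨ι, L⟩ := H.loc a haD
      have haR : a ∈ ι.range := (L.range a).2 (Commute.refl a)
      rw [← L.closure_perp H.conj H.sq] at haR
      have hle : Subgroup.closure (nbr D a) ≤ Subgroup.centralizer ({b} : Set G) :=
        (Subgroup.closure_le _).2 fun z hz => Subgroup.mem_centralizer_singleton_iff.2 (hcon z hz).eq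
      exact hab' (Subgroup.mem_centralizer_singleton_iff.1 (hle haR))
    obtain ⟨hzD, hza, haz⟩ := hz
    have h1 := fix z a ha haz.symm b hb
    rw [H.inv hzD] at h1
    have h3 : (z * b) * (z * b) * (z * b) = 1 := by
      rcases H.three_transp.2 z hzD b hbD with h | h
      · exact absurd (H.commute_of_perm hzD hbD h) hbz
      · rw [pow_succ, pow_two] at h; exact h
    have hbraid : z * b * z = b * z * b := by
      have := congrArg (fun t => t * (b * z * b)) h3
      simp only [one_mul, mul_assoc] at this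
      simpa [← mul_assoc, mul_assoc _ b b, H.sq b hbD, mul_assoc _ z z, H.sq z hzD] using this
    have h2 := fix b b hb (Commute.refl b) _ h1
    rw [H.inv hbD, hbraid, show b * (b * z * b) * b = (b * b) * z * (b * b) by group, H.sq b hbD, one_mul,
      mul_one] at h2
    exact ⟨a, ha, z, h2, hza.symm, haz⟩
  have hxD := hBD hx
  refine hBD' (Set.Subset.antisymm hBD fun w hw => ?_)
  obtain ⟨u, hu, hwu, hux⟩ := H.near_two hxD hw
  have huB := spread x hx y hy hxy hc u hu hux.symm
  by_cases e : u = x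
  · exact spread x hx y hy hxy hc w hw (e ▸ hwu.symm)
  · exact spread u huB x hx e hux w hw hwu.symm

end Hyp

end CfsgLib.M22Recog
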