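import Cfsg.Agent.Lib.TypeM22.ConfigChecks

/-!
The members of the final sets are points.
-/

set_option autoImplicit false
set_option Elab.async false
set_option maxRecDepth 100000
set_option maxHeartbeats 4000000

namespace CfsgLib.M22Recog

theorem finalsLt_ok : (CfsgLib.TypeM22.finals.all fun c => c.2.all fun j => Nat.blt j 693) = true := by
  decide +kernel

end CfsgLib.M22Recog
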