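import Cfsg.Agent.Lib.M22Recog.Class
import Cfsg.Agent.Lib.M22Recog.TypeChecks
import Cfsg.Agent.Lib.FischerTypes.TypeTwentyTwo

/-!
The group with its class is of type M(22).
-/

set_option autoImplicit false
set_option linter.unusedSectionVars false
set_option maxHeartbeats 1000000

namespace CfsgLib.M22Recog

open Cfsg Cfsg.Spor
open CfsgLib.TypeM22
open CfsgLib.CosetEnum (prodW prodW_nil prodW_cons prodW_append)
open CfsgLib.ThreeTransp.Relations (nbr perpGroup)
open CfsgLib.Fi22Pres (gen subA)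
open CfsgLib.Fi22USix (transClass)
open CfsgLib.USixFusion (exists_pts22 E22 E22_le)

variable {G : Type*} [Group G] [Finite G] {D : Set G}

/-- the words in the list acting trivially on the points give the identity -/
def Good (φ : ℕ → G) (L : List ℕ) : Prop :=
  ∀ w, (∀ m ∈ w, m < 693 ∧ m ∈ L) → fixAllB w = true → prodW φ w = 1

/-- the first final set of an orbit -/
def repSet (r : ℕ) : List ℕ := (finals.getD r ([], [])).2

theorem cliqueB_iff : ∀ {l : List ℕ}, (∀ x ∈ l, x < 693) → cliqueB l = true → ∀ x ∈ l, ∀ y ∈ l, perpB x y = true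
  | [], _, _, x, hx, _, _ => absurd hx (List.not_mem_nil)
  | a :: l, hlt, h, x, hx, y, hy => by
    simp only [cliqueB, Bool.and_eq_true, List.all_eq_true] at h
    rcases List.mem_cons.1 hx with e | hx' <;> rcases List.mem_cons.1 hy with e' | hy'
    · rw [e, e']; exact perpB_self (hlt _ (List.mem_cons_self ..))
    · rw [e]; exact h.1 y hy'
    · rw [e', perpB_symm (hlt x hx) (hlt _ (List.mem_cons_self ..))]
      exact h.1 x hx'
    · exact cliqueB_iff (fun z hz => hlt z (List.mem_cons_of_mem _ hz)) h.2 x hx' y hy'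

theorem to_rep {a c : G} {φ : ℕ → G} (P : Pts D a φ) {s : List ℕ × List ℕ} (hs : s ∈ finals)
    (h : ∀ i, Sc φ c i ↔ i ∈ s.2) :
    ∃ g : G, Commute g a ∧ ∃ r < 3, ∀ i, Sc φ (g * c * g⁻¹) i ↔ i ∈ repSet r := by
  obtain ⟨n, hn, rfl⟩ := List.getElem_of_mem hs
  have hn6 : n < 6 := finalWords_ok.1 ▸ hn
  have hk := List.all_eq_true.1 finalWords_ok.2.2 n (List.mem_range.2 hn6)
  generalize finalWords.getD n (0, []) = q at hk
  obtain ⟨r, w⟩ := q
  simp only [Bool.and_eq_true, carryB, List.all_eq_true, List.any_eq_true, Nat.blt_eq] at hk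
  obtain ⟨hr, ⟨hw, hto⟩, hfrom⟩ := hk
  rw [List.getD_eq_getElem (hn := hn)] at hto hfrom
  refine ⟨(prodW φ w)⁻¹, (P.commute_prodW hw).inv_left, r, hr, fun i => ?_⟩
  have hL : ∀ j ∈ repSet r, j < 693 := fun j hj => by
    have hm : finals.getD r ([], []) ∈ finals := by
      rw [List.getD_eq_getElem (hn := by rw [finalWords_ok.1]; omega)]; exact List.getElem_mem _
    simpa [Nat.blt_eq] using List.all_eq_true.1 (List.all_eq_true.1 finalsLt_ok _ hm) j hj
  have e : prodW φ w * ((prodW φ w)⁻¹ * c * (prodW φ w)⁻¹⁻¹) * (prodW φ w)⁻¹ = c := by group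
  constructor
  · intro hi
    have := (P.sc_act hw hi.1).2 hi
    rw [e, h] at this
    obtain ⟨j, hj, ej⟩ := hfrom _ this
    have ej' : act w i = act w j := (Nat.eq_of_beq_eq_true ej).symm
    have := congrArg φ ej'
    rw [P.conj_act hw hi.1, P.conj_act hw (hL j hj)] at this
    rw [P.inj hi.1 (hL j hj) (mul_left_cancel (mul_right_cancel this))]
    exact hj
  · intro hi
    refine (P.sc_act hw (hL i hi)).1 ?_
    rw [e, h]
    obtain ⟨j, hj, ej⟩ := hto i hi
    rw [Nat.eq_of_beq_eq_true ej]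
    exact hj

theorem pair_eq {a c : G} {φ : ℕ → G} (P : Pts D a φ) {L : List ℕ} (h : ∀ i, Sc φ c i ↔ i ∈ L)
    (hac : ¬ Commute a c) : nbr D a ∩ nbr D c = φ '' {i | i ∈ L} := by
  ext y
  constructor
  · rintro ⟨h1, h2⟩
    obtain ⟨i, hi, rfl⟩ := P.surj h1
    exact ⟨i, (h i).1 ⟨hi, h2.2.2.symm⟩, rfl⟩
  · rintro ⟨i, hi, rfl⟩
    have hs := (h i).2 hi
    exact ⟨P.mem hs.1, (P.mem hs.1).1, fun e => hac (e ▸ (P.mem hs.1).2.2), hs.2.symm⟩

theorem commute_of_fix {a : G} {φ : ℕ → G} (P : Pts D a φ) {w : List ℕ} (hw : ∀ m ∈ w, m < 693)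
    (hfix : fixAllB w = true) : ∀ y ∈ nbr D a, Commute (prodW φ w) y := fun y hy => by
  obtain ⟨i, hi, rfl⟩ := P.surj hy
  have e : act w i = i := Nat.eq_of_beq_eq_true (List.all_eq_true.1 hfix i (List.mem_range.2 hi))
  have := P.conj_act hw hi
  rw [e] at this
  show prodW φ w * φ i = φ i * prodW φ w
  conv_rhs => rw [this]
  group

namespace Hyp

variable (H : Hyp D)
include H

theorem good_of_sc {d c : G} {φ : ℕ → G} (P : Pts D d φ) (hd : d ∈ D) {L : List ℕ} (hdc : ¬ Commute d c)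
    (h : ∀ i, Sc φ c i ↔ i ∈ L) : Good φ L := fun w hw hfix => by
  obtain ⟨ι, L'⟩ := H.loc d hd
  have hw' : ∀ m ∈ w, m < 693 := fun m hm => (hw m hm).1
  rcases L'.central_of_commute H.conj H.sq (P.commute_prodW hw') (commute_of_fix P hw' hfix) with e | e
  · exact e
  · exfalso
    refine hdc (e ▸ ?_)
    exact (CfsgLib.TypeM22.commute_prodW fun i hi => ((h i).2 (hw i hi).2).2.symm).symm

theorem apart {d : G} {φ : ℕ → G} (P : Pts D d φ) {r r' : ℕ} (hr : r < r') (hr' : r' < 3)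
    (g1 : Good φ (repSet r)) (g2 : Good φ (repSet r')) : False := by
  have hmem : (r, r') ∈ finalApart.map Prod.fst := by
    rw [finalApart_ok.1]
    obtain ⟨rfl, rfl⟩ | ⟨rfl, rfl⟩ | ⟨rfl, rfl⟩ :
      r = 0 ∧ r' = 1 ∨ r = 0 ∧ r' = 2 ∨ r = 1 ∧ r' = 2 := by omega
    all_goals simp
  obtain ⟨⟨⟨i, j⟩, s, a, b⟩, hp, heq⟩ := List.mem_map.1 hmem
  simp only [Prod.mk.injEq] at heq
  obtain ⟨rfl, rfl⟩ := heq
  have hk := List.all_eq_true.1 finalApart_ok.2 _ hp
  simp only [apartB, Bool.and_eq_true, Nat.beq_eq, List.all_eq_true, List.any_eq_true] at hk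
  obtain ⟨⟨⟨⟨⟨⟨⟨⟨hd', hcl⟩, f1⟩, f2⟩, ls⟩, la⟩, lb⟩, hsa⟩, hsb⟩ := hk
  have hin : ∀ {L : List ℕ}, (∀ x ∈ L, ∀ k < 3, (∀ y ∈ L, ∃ z ∈ repSet k, y = z) → x < 693) := by
    intro L x hx k hk hall
    obtain ⟨z, hz, e⟩ := hall x hx
    have hm : finals.getD k ([], []) ∈ finals := by
      rw [List.getD_eq_getElem (hn := by rw [finalWords_ok.1]; omega)]; exact List.getElem_mem _
    rw [e]
    simpa [Nat.blt_eq] using List.all_eq_true.1 (List.all_eq_true.1 finalsLt_ok _ hm) z hz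
  have la' : ∀ m ∈ s ++ a, m < 693 := fun m hm => hin m hm i (by omega) hsa
  have lb' : ∀ m ∈ s ++ b, m < 693 := fun m hm => hin m hm j hr' hsb
  have e1 := g1 (s ++ a) (fun m hm => ⟨la' m hm, by
    obtain ⟨z, hz, e⟩ := hsa m hm; rw [e]; exact hz⟩) f1
  have e2 := g2 (s ++ b) (fun m hm => ⟨lb' m hm, by
    obtain ⟨z, hz, e⟩ := hsb m hm; rw [e]; exact hz⟩) f2
  have hlt : ∀ m ∈ s ++ a ++ b, m < 693 := fun m hm => by
    rcases List.mem_append.1 hm with h | h
    · exact la' m h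
    · exact lb' m (List.mem_append_right _ h)
  have hperp : ∀ x ∈ s ++ a ++ b, ∀ y ∈ s ++ a ++ b, perpB x y = true := cliqueB_iff hlt hcl
  have hnd := distB_iff.1 hd'
  obtain ⟨x0, hx0⟩ : ∃ x0, x0 ∈ s := List.exists_mem_of_ne_nil _ (fun e => by simp [e] at ls)
  obtain ⟨ι, L, hall⟩ := H.exists_frame (Δ := φ '' {m | m ∈ s ++ a ++ b})
    (by rintro - ⟨m, hm, rfl⟩; exact (P.mem (hlt m hm)).1)
    (by rintro - ⟨m, hm, rfl⟩ - ⟨n, hn, rfl⟩; exact (P.comm (hlt m hm) (hlt n hn)).2 (hperp m hm n hn))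
    (x := φ x0) ⟨x0, List.mem_append_left _ (List.mem_append_left _ hx0), rfl⟩
  replace hall : ∀ m ∈ s ++ a ++ b, ∃ k < 22, φ m = tG ι k := fun m hm => hall _ ⟨m, hm, rfl⟩
  choose! f hf hfe using hall
  have hpw : ∀ {l : List ℕ}, (∀ m ∈ l, m ∈ s ++ a ++ b) → prodW φ l = ι (Subgroup.inclusion E22_le ((l.map f).map tE).prod) := by
    intro l
    induction l with
    | nil => intro _; simp [prodW_nil]
    | cons m l ih =>
      intro hl
      rw [prodW_cons, ih fun k hk => hl k (List.mem_cons_of_mem _ hk), hfe m (hl m (List.mem_cons_self ..))]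
      simp [tG, tA]
  have hs' : ∀ m ∈ s, m ∈ s ++ a ++ b := fun m hm => List.mem_append_left _ (List.mem_append_left _ hm)
  have ha' : ∀ m ∈ a, m ∈ s ++ a ++ b := fun m hm => List.mem_append_left _ (List.mem_append_right _ hm)
  have hb' : ∀ m ∈ b, m ∈ s ++ a ++ b := fun m hm => List.mem_append_right _ hm
  have heq : ∀ {l : List ℕ}, (∀ m ∈ l, m ∈ s ++ a ++ b) → prodW φ (s ++ l) = 1 →
      ((s.map f).map tE).prod = ((l.map f).map tE).prod := by
    intro l hl e
    rw [prodW_append, hpw hs', hpw hl, ← map_mul, ← map_mul, ← map_one ι] at e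
    have e' := L.inj e
    rw [← map_one (Subgroup.inclusion E22_le)] at e'
    replace e' := Subgroup.inclusion_injective _ e'
    have h2 : ((s.map f).map tE).prod * ((s.map f).map tE).prod = 1 := Subtype.ext (by
      rw [← pow_two, Subgroup.coe_pow, Subgroup.coe_one]
      exact CfsgLib.USixFusion.E22_elem.2 _ (((s.map f).map tE).prod).2)
    exact mul_left_cancel (h2.trans e'.symm)
  have h1 := heq ha' e1
  have h2 := heq hb' e2
  have hnd' : ((s ++ a ++ b).map f).Nodup := List.Nodup.map_on (fun x hx y hy e =>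
    P.inj (hlt x hx) (hlt y hy) (by rw [hfe x hx, hfe y hy, e])) hnd
  have hf22 : ∀ k ∈ (s ++ a ++ b).map f, k < 22 := fun k hk => by
    obtain ⟨m, hm, rfl⟩ := List.mem_map.1 hk; exact hf m hm
  obtain ⟨s1, s2, s3, rfl⟩ := List.length_eq_three.1 ls
  obtain ⟨a1, a2, a3, rfl⟩ := List.length_eq_three.1 la
  obtain ⟨b1, b2, b3, rfl⟩ := List.length_eq_three.1 lb
  exact no_three hnd' hf22 rfl h1 h2

/-- the pair of members and the set -/
theorem exists_rep {d c : G} {φ : ℕ → G} (P : Pts D d φ) (hd : d ∈ D) (hc : c ∈ D) (hdc : ¬ Commute d c) :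
    ∃ c' ∈ D, ¬ Commute d c' ∧ ∃ r < 3, ∀ i, Sc φ c' i ↔ i ∈ repSet r := by
  obtain ⟨x, hx, hcx, hxd⟩ := H.near_two hd hc
  obtain ⟨i, hi, ei⟩ := P.surj (show x ∈ nbr D d from ⟨hx, fun e => hdc (e ▸ hcx).symm, hxd.symm⟩)
  obtain ⟨p, hp, hfit⟩ := sc_path H P hd hc hdc ⟨i, hi, ei ▸ hcx.symm⟩
  obtain ⟨g, hg, s, hs, hL⟩ := sc_normal H P hd hc hdc hp hfit
  obtain ⟨k, hk, r, hr, hL'⟩ := to_rep P hs hL
  refine ⟨_, H.conj k _ (H.conj g c hc), fun h => hdc ?_, r, hr, hL'⟩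
  have hd' : k * (g * d * g⁻¹) * k⁻¹ = d := by
    rw [hg.eq, mul_inv_cancel_right, hk.eq, mul_inv_cancel_right]
  rw [← hd', TypeM22.Pts.commute_iff_conj, TypeM22.Pts.commute_iff_conj] at h
  exact h

theorem exists_noncommute {d : G} (hd : d ∈ D) : ∃ c ∈ D, ¬ Commute d c := by
  obtain ⟨φ, P⟩ := H.exists_pts hd
  have h0 := P.mem (i := 0) (by norm_num)
  have h1 := P.mem (i := 1) (by norm_num)
  obtain ⟨g, -, e⟩ := H.transitive h0.1 hd
  refine ⟨_, H.conj g _ h1.1, fun h => ?_⟩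
  rw [← e, TypeM22.Pts.commute_iff_conj, P.comm (by norm_num) (by norm_num)] at h
  revert h; decide +kernel

end Hyp

/-- Fi22 has a pair with a first final set as common neighbours, and its group is a projective
reflection group -/
theorem exists_rep22 {φ : ℕ → Fi22} (P : Pts transClass (gen 0) φ) :
    ∃ B, ¬ Commute (gen 0) B ∧ ∃ r < 3, (∀ i, Sc φ B i ↔ i ∈ repSet r) ∧
      ∃ c₃ : ZMod 3, c₃ ≠ 0 ∧ IsProjReflectionGroupModThree
        (↥(Subgroup.closure (φ '' {i | i ∈ repSet r})) ⧸ Subgroup.center ↥(Subgroup.closure (φ '' {i | i ∈ repSet r}))) 6 1 c₃ := by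
  haveI : Finite Fi22 := Fi22Pres.finite_and_card.1
  have hcl := Fi22USix.transClass_three
  have hD : IsThreeTranspositionGroup transClass :=
    ⟨hcl.1, ThreeTransp.class_conjClosed hcl, hcl.2.2⟩
  have X : Ctx transClass := ⟨hD, FischerTypes.fi22_primitive, FischerTypes.fi22_type⟩
  open FischerTypes in
  have e : mdl22.pairK = Subgroup.closure (nbr transClass mdl22.A ∩ nbr transClass mdl22.B) := by
    rw [mdl22.pairK_eq, pairSet_eq]
  have hnc := FischerTypes.mdl22.pair_nc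
  have hB := FischerTypes.mdl22.t_mem
  rw [FischerTypes.mdl22_A] at hnc e
  have hA : gen 0 ∈ transClass := IsConj.refl _
  have hBm : FischerTypes.mdl22.B ∈ transClass := FischerTypes.mdl22.t_mem _
  obtain ⟨p, hp, hfit⟩ := TypeM22.sc_path X P hA hBm hnc
  obtain ⟨g, hg, ns, hns, n, hn, hlow, -, hL⟩ := TypeM22.sc_normal X P hA hBm hnc hp hfit
  have hs : ((nodeAt ns 0).seed, n.L) ∈ finals := by
    simp only [finals, List.mem_flatMap, List.mem_map, List.mem_filter]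
    exact ⟨ns, hns, n, ⟨hn, by simp [hlow]⟩, rfl⟩
  obtain ⟨k, hk, r, hr, hL'⟩ := to_rep P hs hL
  obtain ⟨u, hu⟩ : ∃ u, u = k * g := ⟨_, rfl⟩
  have hu0 : u * gen 0 * u⁻¹ = gen 0 := by rw [hu, (hk.mul_left hg).eq, mul_inv_cancel_right]
  have hBe : k * (g * FischerTypes.mdl22.B * g⁻¹) * k⁻¹ = u * FischerTypes.mdl22.B * u⁻¹ := by rw [hu]; group
  rw [hBe] at hL'
  have hnc' : ¬ Commute (gen 0) (u * FischerTypes.mdl22.B * u⁻¹) := by
    rw [← hu0, TypeM22.Pts.commute_iff_conj]; exact hnc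
  refine ⟨_, hnc', r, hr, hL', 1, one_ne_zero, ?_⟩
  have hset : (MulAut.conj u).toMonoidHom '' (nbr transClass (gen 0) ∩ nbr transClass FischerTypes.mdl22.B) =
      φ '' {i | i ∈ repSet r} := by
    rw [← pair_eq P hL' hnc']
    show (fun y => u * y * u⁻¹) '' _ = _
    rw [Set.image_inter (f := fun y => u * y * u⁻¹) fun _ _ e => mul_left_cancel (mul_right_cancel e)]
    rw [ThreeTransp.Relations.image_nbr hD.2.1, ThreeTransp.Relations.image_nbr hD.2.1, hu0]
  have e2 : Subgroup.map (MulAut.conj u).toMonoidHom FischerTypes.mdl22.pairK =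
      Subgroup.closure (φ '' {i | i ∈ repSet r}) := by
    rw [e, MonoidHom.map_closure, hset]
  refine FischerTypes.proj_transport ?_ FischerTypes.mdl22.pairK_proj
  exact (QuotientGroup.quotientBot.symm.trans
    (QuotientGroup.quotientMulEquivOfEq FischerTypes.mdl22.pairK_center.symm)).trans
    (FischerTypes.centreQuotEquiv ((Subgroup.equivMapOfInjective _ _ (MulAut.conj u).injective).trans
      (MulEquiv.subgroupCongr e2)))

namespace Hyp

variable (H : Hyp D)
include H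

/-- the numbering transported from Fi22 -/
theorem exists_pts_map {d : G} (hd : d ∈ D) : ∃ (φ' : ℕ → Fi22) (φ : ℕ → G) (ι : subA →* G), Loc D d ι ∧
    Pts transClass (gen 0) φ' ∧ Pts D d φ ∧ ∀ i < 693, ∃ y : subA, (y : Fi22) = φ' i ∧ ι y = φ i := by
  obtain ⟨ι, L⟩ := H.loc d hd
  obtain ⟨φ, -, P, -, -⟩ := exists_pts22
  have hsub : ∀ {i}, i < 693 → φ i ∈ subA := fun hi => perp22_le (Subgroup.subset_closure (P.mem hi))
  refine ⟨φ, fun i => if h : i < 693 then ι ⟨φ i, hsub h⟩ else 1, ι, L, P,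
    ⟨fun hi => ?_, fun hi hj e => ?_, fun {y} hy => ?_, fun {i j} hi hj => ?_, fun {i j} hi hj => ?_⟩,
    fun i hi => ⟨⟨φ i, hsub hi⟩, rfl, by simp [hi]⟩⟩
  · rw [dif_pos hi]
    exact (L.perp_iff H.conj H.sq).2 ⟨_, P.mem hi, rfl⟩
  · rw [dif_pos hi, dif_pos hj] at e
    exact P.inj hi hj (congrArg Subtype.val (L.inj e))
  · obtain ⟨u, hu, rfl⟩ := (L.perp_iff H.conj H.sq).1 hy
    obtain ⟨i, hi, e⟩ := P.surj hu
    exact ⟨i, hi, by rw [dif_pos hi]; exact congrArg ι (Subtype.ext e)⟩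
  · rw [dif_pos hi, dif_pos hj, ← P.comm hi hj]
    exact ⟨fun h => (congrArg Subtype.val (L.inj (a₁ := ⟨φ i, hsub hi⟩ * ⟨φ j, hsub hj⟩)
        (a₂ := ⟨φ j, hsub hj⟩ * ⟨φ i, hsub hi⟩) (by rw [map_mul, map_mul]; exact h.eq)) :),
      fun h => (show Commute (⟨φ i, hsub hi⟩ : subA) ⟨φ j, hsub hj⟩ from Subtype.ext h.eq).map ι⟩
  · rw [dif_pos hi, dif_pos hj, dif_pos (R_lt hi hj), ← map_inv, ← map_mul, ← map_mul]
    exact congrArg ι (Subtype.ext (P.conj hi hj))

/-- the group with its class is of type M(22) -/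
theorem type22 {d : G} (hd : d ∈ D) : IsOfTypeM22 G D := by
  obtain ⟨φ', φ, ι, L, P', P, hφ⟩ := H.exists_pts_map hd
  obtain ⟨c₀, hc₀, hdc₀⟩ := H.exists_noncommute hd
  obtain ⟨c, hc, hdc, r, hr, hL⟩ := H.exists_rep P hd hc₀ hdc₀
  obtain ⟨B, hB, r', hr', hL', c₃, hc₃, hproj⟩ := exists_rep22 P'
  -- words in the two numberings
  have hword : ∀ {w : List ℕ}, (∀ m ∈ w, m < 693) → ∃ y : subA, (y : Fi22) = prodW φ' w ∧ ι y = prodW φ w := by
    intro w hw
    induction w with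
    | nil => exact ⟨1, by simp [prodW_nil], by simp [prodW_nil]⟩
    | cons m w ih =>
      obtain ⟨y, hy, hy'⟩ := ih fun n hn => hw n (List.mem_cons_of_mem _ hn)
      obtain ⟨x, hx, hx'⟩ := hφ m (hw m (List.mem_cons_self ..))
      exact ⟨x * y, by rw [Subgroup.coe_mul, hx, hy, prodW_cons], by rw [map_mul, hx', hy', prodW_cons]⟩
  have g1 : Good φ (repSet r) := H.good_of_sc P hd hdc hL
  have g2 : Good φ (repSet r') := fun w hw hfix => by
    have hw' : ∀ m ∈ w, m < 693 := fun m hm => (hw m hm).1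
    obtain ⟨y, hy, hy'⟩ := hword hw'
    rcases L.central_of_commute H.conj H.sq (P.commute_prodW hw') (commute_of_fix P hw' hfix) with e | e
    · exact e
    · exfalso
      have hy0 : prodW φ' w = gen 0 := by
        rw [← hy, ← tA_zero]
        exact congrArg Subtype.val (L.inj (hy'.trans (e.trans L.frame_zero.symm)))
      refine hB (hy0 ▸ ?_)
      exact (CfsgLib.TypeM22.commute_prodW fun i hi => ((hL' i).2 (hw i hi).2).2.symm).symm
  obtain rfl : r = r' := by
    rcases lt_trichotomy r r' with h | h | h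
    · exact (H.apart P h hr' g1 g2).elim
    · exact h
    · exact (H.apart P h hr g2 g1).elim
  refine ⟨H.center_bot hd, d, hd, c, hc, hdc, ⟨HePres.K4, inferInstance, inferInstance, HePres.K4.card_eq, ?_⟩,
    c₃, hc₃, ?_⟩
  · obtain ⟨-, ⟨q⟩, -⟩ := Fi22USix.subA_cover
    exact ⟨(FischerTypes.centreQuotEquiv ((MulEquiv.subgroupCongr (L.closure_perp H.conj H.sq)).trans
      (MonoidHom.ofInjective L.inj).symm)).trans q⟩
  · have hlt : ∀ i ∈ repSet r, i < 693 := fun i hi => ((hL i).2 hi).1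
    let K : Subgroup subA := Subgroup.closure {y : subA | (y : Fi22) ∈ φ' '' {i | i ∈ repSet r}}
    have k1 : K.map subA.subtype = Subgroup.closure (φ' '' {i | i ∈ repSet r}) := by
      rw [MonoidHom.map_closure]
      congr 1
      ext y
      refine ⟨fun ⟨u, hu, h⟩ => h ▸ hu, fun hy => ?_⟩
      obtain ⟨i, hi, rfl⟩ := hy
      obtain ⟨u, hu, -⟩ := hφ i (hlt i hi)
      exact ⟨u, ⟨i, hi, hu.symm⟩, hu⟩
    have k2 : K.map ι = Subgroup.closure (nbr D d ∩ nbr D c) := by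
      rw [MonoidHom.map_closure, pair_eq P hL hdc]
      congr 1
      ext y
      constructor
      · rintro ⟨u, ⟨i, hi, e⟩, rfl⟩
        obtain ⟨v, hv, hv'⟩ := hφ i (hlt i hi)
        exact ⟨i, hi, by rw [← hv', show v = u from Subtype.ext (hv.trans e)]⟩
      · rintro ⟨i, hi, rfl⟩
        obtain ⟨v, hv, hv'⟩ := hφ i (hlt i hi)
        exact ⟨v, ⟨i, hi, hv.symm⟩, hv'⟩
    refine FischerTypes.proj_transport ?_ hproj
    exact FischerTypes.centreQuotEquiv ((MulEquiv.subgroupCongr k1).symm.trans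
      (((Subgroup.equivMapOfInjective _ _ subA.subtype_injective).symm.trans
      (Subgroup.equivMapOfInjective _ _ L.inj)).trans (MulEquiv.subgroupCongr k2)))

end Hyp

end CfsgLib.M22Recog
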