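import Cfsg.Agent.Lib.TypeM22.Checks

/-!
Two facts on the numbering used for transitivity.
-/

set_option autoImplicit false
set_option Elab.async false
set_option maxRecDepth 100000
set_option maxHeartbeats 4000000

namespace CfsgLib.M22Recog

open CfsgLib.TypeM22

theorem one_leaf : leaves (pathTree.take 1) [[]] = [[0]] ∧ treeChk (pathTree.take 1) [[]] = true := by
  decide +kernel

theorem nbr_ok : ((List.range 693).all fun p => (List.range 693).any fun q =>
    perpB p q && !(Nat.beq p q)) = true := by decide +kernel

end CfsgLib.M22Recog
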