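import Cfsg.Agent.Lib.M22Recog.Numbering
import Cfsg.Agent.Lib.TypeM22.ConfigChecks

/-!
The points commuting with a member outside the perp, from the identification of the centralizers alone.
-/

set_option autoImplicit false
set_option linter.unusedSectionVars false

namespace CfsgLib.M22Recog

open CfsgLib.TypeM22
open CfsgLib.CosetEnum (prodW prodW_nil prodW_cons prodW_append)
open CfsgLib.ThreeTransp.Relations (nbr)

variable {G : Type*} [Group G] [Finite G] {D : Set G} {a : G} {φ : ℕ → G}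

variable (H : Hyp D) (P : Pts D a φ)
include H P

theorem sc_regular (ha : a ∈ D) {c : G} (hc : c ∈ D) (hac : ¬ Commute a c) : Regular (Sc φ c) where
  toClosed := P.closed c
  reg := fun {i} hi => by
    classical
    have hm := P.mem hi.1
    have hca : c ∈ nbr D (φ i) := ⟨hc, fun e => hac (e ▸ hm.2.2), hi.2⟩
    obtain ⟨ψ, Q, h0, h1⟩ := H.pts_two hm.1 (y := a) ⟨ha, hm.2.1.symm, hm.2.2.symm⟩ hca hac
    have e : φ '' {j | Sc φ c j ∧ j ≠ i ∧ perpB i j = true} = ψ '' (↑common.toFinset : Set ℕ) := by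
      ext y
      constructor
      · rintro ⟨j, ⟨hj, hji, hp⟩, rfl⟩
        have hmj := P.mem hj.1
        obtain ⟨k, hk, e⟩ := Q.surj (y := φ j)
          ⟨hmj.1, fun e => hji (P.inj hj.1 hi.1 e), (P.comm hi.1 hj.1).2 hp⟩
        refine ⟨k, ?_, e⟩
        simp only [List.coe_toFinset, Set.mem_ofPred_eq, common, List.mem_filter, List.mem_range,
          Bool.and_eq_true]
        refine ⟨hk, (Q.comm hk (by norm_num)).1 ?_, (Q.comm hk (by norm_num)).1 ?_⟩
        · rw [e, h0]; exact hmj.2.2.symm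
        · rw [e, h1]; exact hj.2
      · rintro ⟨k, hk, rfl⟩
        simp only [List.coe_toFinset, Set.mem_ofPred_eq, common, List.mem_filter, List.mem_range,
          Bool.and_eq_true] at hk
        have hmk := Q.mem hk.1
        have hka : Commute (ψ k) a := h0 ▸ (Q.comm hk.1 (by norm_num)).2 hk.2.1
        have hkc : Commute (ψ k) c := h1 ▸ (Q.comm hk.1 (by norm_num)).2 hk.2.2
        obtain ⟨j, hj, e⟩ := P.surj (y := ψ k) ⟨hmk.1, fun e => hac (e ▸ hkc), hka.symm⟩
        exact ⟨j, ⟨⟨hj, e ▸ hkc⟩, fun e' => hmk.2.1 (e ▸ congrArg φ e'),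
          (P.comm hi.1 hj).1 (e ▸ hmk.2.2)⟩, e⟩
    have hl : ∀ x ∈ (↑common.toFinset : Set ℕ), x < 693 := fun x hx => by
      simp only [List.coe_toFinset, Set.mem_ofPred_eq, common, List.mem_filter, List.mem_range] at hx
      exact hx.1
    have hn := congrArg Set.ncard e
    rw [Set.InjOn.ncard_image fun x hx y hy => P.inj hx.1.1 hy.1.1,
      Set.InjOn.ncard_image fun x hx y hy => Q.inj (hl x hx) (hl y hy), Set.ncard_coe_finset,
      List.toFinset_card_of_nodup (show common.Nodup from List.nodup_range.filter _)] at hn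
    exact hn.trans common_card

theorem sc_path (ha : a ∈ D) {c : G} (hc : c ∈ D) (hac : ¬ Commute a c)
    (hne : ∃ i, Sc φ c i) :
    ∃ p, (∀ u ∈ p, Sc φ c u) ∧ fits pathBits [] p = true := by
  classical
  obtain ⟨i0, hi0⟩ := hne
  have hm := P.mem hi0.1
  have hca : c ∈ nbr D (φ i0) := ⟨hc, fun e => hac (e ▸ hm.2.2), hi0.2⟩
  obtain ⟨ψ, Q, h0, h1⟩ := H.pts_two hm.1 (y := a) ⟨ha, hm.2.1.symm, hm.2.2.symm⟩ hca hac
  have hfive : ∀ u ∈ five, u < 693 ∧ Commute (ψ u) a ∧ Commute (ψ u) c := fun u hu => by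
    have h := List.all_eq_true.1 five_ok.1 u hu
    simp only [Bool.and_eq_true, Nat.blt_eq] at h
    exact ⟨h.2, h0 ▸ (Q.comm h.2 (by norm_num)).2 h.1.1, h1 ▸ (Q.comm h.2 (by norm_num)).2 h.1.2⟩
  have hex : ∀ u ∈ five, ∃ j < 693, φ j = ψ u := fun u hu =>
    P.surj ⟨(Q.mem (hfive u hu).1).1, fun e => hac (e ▸ (hfive u hu).2.2), (hfive u hu).2.1.symm⟩
  choose! f hf hfe using hex
  have hfit : fits (alevTree.map Prod.fst) [] (i0 :: five.map f) = true := by
    have hb : alevTree.map Prod.fst =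
        [] :: ((alevTree.drop 1).map fun l => l.1.drop 1).map (false :: ·) := by decide +kernel
    rw [hb]
    simp only [fits, fitB, List.zip_nil_left, List.all_nil, Bool.true_and, List.nil_append]
    refine fits_cons ?_ (fits_congr (f := f) (pre := []) ?_ five_ok.2)
    · intro v hv
      obtain ⟨u, hu, rfl⟩ := List.mem_map.1 hv
      refine ⟨fun e => (Q.mem (hfive u hu).1).2.1 (by rw [← hfe u hu, e]), ?_⟩
      rw [perpB_symm (hf u hu) hi0.1]
      exact (P.comm hi0.1 (hf u hu)).1 (hfe u hu ▸ (Q.mem (hfive u hu).1).2.2)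
    · intro x hx y hy
      rw [List.nil_append] at hx hy
      refine ⟨?_, fun e => Q.inj (hfive x hx).1 (hfive y hy).1 (by rw [← hfe x hx, ← hfe y hy, e])⟩
      rw [Bool.eq_iff_iff, ← P.comm (hf x hx) (hf y hy), ← Q.comm (hfive x hx).1 (hfive y hy).1,
        hfe x hx, hfe y hy]
  have hall : ∀ u ∈ i0 :: five.map f, Sc φ c u := fun u hu => by
    rcases List.mem_cons.1 hu with rfl | hu
    · exact hi0
    · obtain ⟨v, hv, rfl⟩ := List.mem_map.1 hu
      exact ⟨hf v hv, hfe v hv ▸ (hfive v hv).2.2⟩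
  obtain ⟨w, hw, hmem⟩ := norm (pre := []) alevTree_ok (List.mem_singleton_self _)
    (fun u hu => (hall u hu).1) hfit
  rw [alev_leaves, List.nil_append, List.mem_map] at hmem
  obtain ⟨ns, hns, hseed⟩ := hmem
  obtain ⟨g, hg⟩ : ∃ g, g = prodW φ w := ⟨_, rfl⟩
  have hga : g * a * g⁻¹ = a := by rw [hg, (P.commute_prodW hw).eq, mul_inv_cancel_right]
  have hac' : ¬ Commute a (g * c * g⁻¹) := by
    rw [← hga, TypeM22.Pts.commute_iff_conj]; exact hac
  have hok : ∀ i < ns.length, nodeChk pathBits ns i = true := by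
    intro i hi
    simp only [alevAll, List.mem_cons, List.not_mem_nil, or_false] at hns
    rcases hns with rfl | rfl | rfl | rfl
    exacts [List.all_eq_true.1 alev0_ok i (List.mem_range.2 hi),
      List.all_eq_true.1 alev1_ok i (List.mem_range.2 hi),
      List.all_eq_true.1 alev2_ok i (List.mem_range.2 hi),
      List.all_eq_true.1 alev3_ok i (List.mem_range.2 hi)]
  have hlen : 0 < ns.length := by
    rw [Nat.pos_iff_ne_zero]
    intro e
    rw [List.length_eq_zero_iff.1 e] at hseed
    simp [nodeAt] at hseed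
  rcases classify hok (sc_regular H P ha (H.conj g c hc) hac') ns.length 0 hlen (by omega)
      (fun u hu => by
        rw [hseed] at hu
        obtain ⟨v, hv, rfl⟩ := List.mem_map.1 hu
        rw [hg]; exact (P.sc_act hw (hall v hv).1).2 (hall v hv)) with ⟨-, p, hp, hfp⟩ | ⟨n, hn, hlow, -⟩
  · refine ⟨p.map (act w.reverse), fun u hu => ?_, ?_⟩
    · obtain ⟨v, hv, rfl⟩ := List.mem_map.1 hu
      have hlt := act_lt (w := w.reverse) (fun m hm => hw m (List.mem_reverse.1 hm)) (hp v hv).1
      have hh := hp v hv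
      rw [hg, ← act_rev hw hh.1] at hh
      exact (P.sc_act hw hlt).1 hh
    · exact fits_map (fun m hm => hw m (List.mem_reverse.1 hm)) (pre := [])
        (fun u hu => (hp u (by simpa using hu)).1) hfp
  · have := List.all_eq_true.1 (List.all_eq_true.1 alev_no_final ns hns) n hn
    simp [hlow] at this

/-- a normal form in which the set of points is known -/
theorem sc_normal (ha : a ∈ D) {c : G} (hc : c ∈ D) (hac : ¬ Commute a c) {p : List ℕ}
    (hp : ∀ u ∈ p, Sc φ c u) (hfit : fits pathBits [] p = true) :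
    ∃ g : G, Commute g a ∧ ∃ s ∈ finals, ∀ i, Sc φ (g * c * g⁻¹) i ↔ i ∈ s.2 := by
  obtain ⟨w, hw, hmem⟩ := norm (pre := []) pathTree_ok (List.mem_singleton_self _)
    (fun u hu => (hp u (by simpa using hu)).1) hfit
  rw [path_leaves, List.nil_append, List.mem_map] at hmem
  obtain ⟨ns, hns, hseed⟩ := hmem
  have hga : prodW φ w * a * (prodW φ w)⁻¹ = a := by rw [(P.commute_prodW hw).eq, mul_inv_cancel_right]
  have hac' : ¬ Commute a (prodW φ w * c * (prodW φ w)⁻¹) := by
    conv => enter [1, 1]; rw [← hga]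
    rw [TypeM22.Pts.commute_iff_conj]; exact hac
  have hlen : 0 < ns.length := by
    rw [Nat.pos_iff_ne_zero]
    intro e
    rw [List.length_eq_zero_iff.1 e] at hseed
    have : p = [] := by simpa [nodeAt] using hseed.symm
    subst this
    revert hfit
    decide +kernel
  have hok : ∀ i < ns.length, nodeChk [] ns i = true := by
    intro i hi
    simp only [pathAll, List.mem_cons, List.not_mem_nil, or_false] at hns
    rcases hns with rfl | rfl | rfl
    exacts [List.all_eq_true.1 path0_ok i (List.mem_range.2 hi),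
      List.all_eq_true.1 path1_ok i (List.mem_range.2 hi),
      List.all_eq_true.1 path2_ok i (List.mem_range.2 hi)]
  rcases classify hok (sc_regular H P ha (H.conj _ c hc) hac') ns.length 0 hlen (by omega)
      (fun u hu => by
        rw [hseed] at hu
        obtain ⟨v, hv, rfl⟩ := List.mem_map.1 hu
        exact (P.sc_act hw (hp v hv).1).2 (hp v hv)) with ⟨h, -⟩ | ⟨n, hn, hlow, hn'⟩
  · exact absurd rfl h
  · refine ⟨_, P.commute_prodW hw, ((nodeAt ns 0).seed, n.L), ?_, hn'⟩
    simp only [finals, List.mem_flatMap, List.mem_map, List.mem_filter]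
    exact ⟨ns, hns, n, ⟨hn, by simp [hlow]⟩, rfl⟩

end CfsgLib.M22Recog
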