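import Cfsg.Agent.Lib.M22Recog.Connect
import Cfsg.Agent.Lib.M22Recog.Sets
import Cfsg.Agent.Lib.M22Recog.ClassChecks

/-!
The members form a class of 3-transpositions generating the group.
-/

set_option autoImplicit false
set_option linter.unusedSectionVars false

namespace CfsgLib.M22Recog

open CfsgLib.TypeM22
open CfsgLib.CosetEnum (prodW)
open CfsgLib.ThreeTransp.Relations (nbr)

variable {G : Type*} [Group G] [Finite G] {D : Set G}

namespace Hyp

variable (H : Hyp D)
include H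

/-- two steps suffice -/
theorem near_two {d y : G} (hd : d ∈ D) (hy : y ∈ D) : ∃ x ∈ D, Commute y x ∧ Commute x d := by
  obtain ⟨a, ha, x, hx, hya, hax, hxd⟩ := H.near hd hy
  by_cases had : Commute a d
  · exact ⟨a, ha, hya, had⟩
  rcases eq_or_ne y a with rfl | hne
  · exact ⟨x, hx, hax, hxd⟩
  obtain ⟨φ, P⟩ := H.exists_pts ha
  obtain ⟨i, hi, ei⟩ := P.surj (show x ∈ nbr D a from ⟨hx, fun e => had (e ▸ hxd), hax⟩)
  have hne' : ∃ i, Sc φ d i := ⟨i, hi, ei ▸ hxd⟩
  obtain ⟨p, hp, hfit⟩ := sc_path H P ha hd had hne'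
  obtain ⟨g, hga, s, hs, hL⟩ := sc_normal H P ha hd had hp hfit
  have hgy : g * y * g⁻¹ ∈ nbr D a := by
    refine ⟨H.conj g y hy, fun e => hne ?_, ?_⟩
    · exact mul_left_cancel (mul_right_cancel (e.trans (by rw [hga.eq, mul_inv_cancel_right] : a = g * a * g⁻¹)))
    · have := hya.symm.map (MulAut.conj g)
      simpa [hga.eq] using this
  obtain ⟨k, hk, ek⟩ := P.surj hgy
  obtain ⟨j, hj, hjk⟩ := List.any_eq_true.1
    (List.all_eq_true.1 (List.all_eq_true.1 final_meet_ok s hs) k (List.mem_range.2 hk))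
  obtain ⟨hj', hjd⟩ := (hL j).2 hj
  have hc : Commute (φ j) (g * y * g⁻¹) := ek ▸ (P.comm hj' hk).2 hjk
  refine ⟨g⁻¹ * φ j * g⁻¹⁻¹, H.conj g⁻¹ _ (P.mem hj').1, ?_, ?_⟩
  · have := hc.map (MulAut.conj g⁻¹)
    simpa [mul_assoc] using this.symm
  · have := hjd.map (MulAut.conj g⁻¹)
    simpa [mul_assoc] using this

theorem three_transp : Cfsg.IsThreeTranspositionSet D := by
  refine ⟨fun d hd => orderOf_eq_prime (by rw [pow_two, H.sq d hd]) (H.ne_one d hd), fun d hd e he => ?_⟩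
  obtain ⟨x, hx, hex, hxd⟩ := H.near_two hd he
  rcases H.three hx hd he hxd.symm hex with h | h
  · exact Or.inl (by rw [pow_two, h.symm.mul_mul_mul_comm, H.sq d hd, H.sq e he, one_mul])
  · exact Or.inr h

/-- the neighbours of a member are conjugate in the subgroup generated -/
theorem conj_nbr {a y z : G} (ha : a ∈ D) (hy : y ∈ nbr D a) (hz : z ∈ nbr D a) :
    ∃ g ∈ Subgroup.closure D, g * y * g⁻¹ = z := by
  obtain ⟨φ, P⟩ := H.exists_pts ha
  have key : ∀ p < 693, ∃ g ∈ Subgroup.closure D, g * φ 0 * g⁻¹ = φ p := fun p hp => by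
    have e : (pathTree.take 1).map Prod.fst = [[]] := by decide +kernel
    have hfit : fits ((pathTree.take 1).map Prod.fst) [] [p] = true := by rw [e]; simp [fits, fitB]
    obtain ⟨w, hw, hmem⟩ := norm (pre := []) one_leaf.2 (List.mem_singleton_self _) (by simp [hp]) hfit
    rw [one_leaf.1, List.mem_singleton] at hmem
    simp only [List.nil_append, List.map_cons, List.map_nil, List.cons.injEq, and_true] at hmem
    have hmemW : prodW φ w ∈ Subgroup.closure D := by
      clear hmem hfit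
      induction w with
      | nil => exact one_mem _
      | cons m w ih =>
        rw [CfsgLib.CosetEnum.prodW_cons]
        exact mul_mem (Subgroup.subset_closure (P.mem (hw m (List.mem_cons_self ..))).1)
          (ih fun n hn => hw n (List.mem_cons_of_mem _ hn))
    refine ⟨(prodW φ w)⁻¹, inv_mem hmemW, ?_⟩
    rw [← hmem, P.conj_act hw hp]; group
  obtain ⟨p, hp, rfl⟩ := P.surj hy
  obtain ⟨q, hq, rfl⟩ := P.surj hz
  obtain ⟨g, hg, eg⟩ := key p hp
  obtain ⟨k, hk, ek⟩ := key q hq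
  exact ⟨k * g⁻¹, mul_mem hk (inv_mem hg), by rw [← ek, ← eg]; group⟩

theorem transitive {x y : G} (hx : x ∈ D) (hy : y ∈ D) : ∃ g ∈ Subgroup.closure D, g * x * g⁻¹ = y := by
  have step : ∀ {x y : G}, x ∈ D → y ∈ D → Commute x y → ∃ g ∈ Subgroup.closure D, g * x * g⁻¹ = y := by
    intro x y hx hy h
    rcases eq_or_ne y x with rfl | hne
    · exact ⟨1, one_mem _, by group⟩
    obtain ⟨φ, P⟩ := H.exists_pts hx
    obtain ⟨p, hp, rfl⟩ := P.surj ⟨hy, hne, h⟩
    obtain ⟨q, hq, hpq, hqp⟩ : ∃ q < 693, perpB p q = true ∧ Nat.beq p q = false := by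
      have h := List.all_eq_true.1 nbr_ok p (List.mem_range.2 hp)
      simp only [List.any_eq_true, List.mem_range, Bool.and_eq_true, Bool.not_eq_true'] at h
      exact h
    have hm := P.mem hq
    exact H.conj_nbr hm.1 ⟨hx, hm.2.1.symm, hm.2.2.symm⟩
      ⟨(P.mem hp).1, fun e => Nat.ne_of_beq_eq_false hqp (P.inj hp hq e),
        ((P.comm hp hq).2 hpq).symm⟩
  obtain ⟨z, hz, hyz, hzx⟩ := H.near_two hx hy
  obtain ⟨g, hg, eg⟩ := step hx hz hzx.symm
  obtain ⟨k, hk, ek⟩ := step hz hy hyz.symm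
  exact ⟨k * g, mul_mem hk hg, by rw [← ek, ← eg]; group⟩

theorem cent_le {d : G} (hd : d ∈ D) {c : G} (hc : Commute c d) : c ∈ Subgroup.closure D := by
  obtain ⟨ι, L⟩ := H.loc d hd
  have := (L.range c).2 hc
  rw [← L.closure_perp H.conj H.sq] at this
  exact Subgroup.closure_mono (fun y hy => hy.1) this

theorem generate {d : G} (hd : d ∈ D) : Subgroup.closure D = ⊤ := by
  refine (Subgroup.eq_top_iff' _).2 fun g => ?_
  obtain ⟨h, hh, e⟩ := H.transitive hd (H.conj g d hd)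
  have hc : Commute (h⁻¹ * g) d := by
    show h⁻¹ * g * d = d * (h⁻¹ * g)
    rw [show h⁻¹ * g * d = h⁻¹ * (g * d * g⁻¹) * g by group, ← e]; group
  have := mul_mem hh (H.cent_le hd hc)
  rwa [mul_inv_cancel_left] at this

theorem conjugates_eq {d : G} (hd : d ∈ D) : D = conjugatesOf d := by
  ext y
  show _ ↔ IsConj d y
  rw [isConj_iff]
  refine ⟨fun hy => ?_, fun ⟨g, e⟩ => e ▸ H.conj g d hd⟩
  obtain ⟨g, -, e⟩ := H.transitive hd hy
  exact ⟨g, e⟩

theorem class_three {d : G} (hd : d ∈ D) : Cfsg.IsThreeTranspositionClass D :=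
  ⟨H.three_transp, ⟨d, hd, H.conjugates_eq hd⟩, H.generate hd⟩

theorem center_bot {d : G} (hd : d ∈ D) : Subgroup.center G = ⊥ := by
  refine eq_bot_iff.2 fun c hc => ?_
  have hcc : ∀ y, Commute c y := fun y => (Subgroup.mem_center_iff.1 hc y).symm
  obtain ⟨ι, L⟩ := H.loc d hd
  rcases L.central_of_commute H.conj H.sq (hcc d) (fun y _ => hcc y) with rfl | rfl
  · exact one_mem _
  · exfalso
    obtain ⟨φ, P⟩ := H.exists_pts hd
    have hm := P.mem (i := 0) (by norm_num)
    obtain ⟨g, -, e⟩ := H.transitive hd hm.1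
    refine hm.2.1 ?_
    rw [← e, (hcc g).symm.eq, mul_inv_cancel_right]

end Hyp

end CfsgLib.M22Recog
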