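import Cfsg.Agent.Lib.M22Recog.Triple

/-!
Any two members are joined by a path of three commuting steps.
-/

set_option autoImplicit false
set_option linter.unusedSectionVars false

namespace CfsgLib.M22Recog

open CfsgLib.TypeM22 (Pts)
open CfsgLib.ThreeTransp.Relations (nbr)

variable {G : Type*} [Group G] [Finite G] {D : Set G}

namespace Hyp

variable (H : Hyp D)
include H

theorem near {d y : G} (hd : d ∈ D) (hy : y ∈ D) :
    ∃ a ∈ D, ∃ x ∈ D, Commute y a ∧ Commute a x ∧ Commute x d := by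
  obtain ⟨φ, P⟩ := H.exists_pts hd
  obtain ⟨he, hne, hde⟩ := P.mem (i := 0) (by norm_num)
  generalize φ 0 = e at he hne hde
  have hd2 := H.sq d hd
  have hw2 : d * e * (d * e) = 1 := by rw [hde.symm.mul_mul_mul_comm, hd2, H.sq e he, one_mul]
  have hwD : d * e ∉ D := fun h => by
    have hdw : Commute d (d * e) := (Commute.refl d).mul_right hde
    have hew : Commute e (d * e) := hde.symm.mul_right (Commute.refl e)
    refine H.three_ne hd he h hde hdw hew hne.symm (fun h' => H.ne_one e he ?_) (fun h' => H.ne_one d hd ?_) rfl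
    · exact mul_left_cancel (a := d) (by rw [mul_one]; exact h'.symm)
    · exact mul_right_cancel (b := e) (by rw [one_mul]; exact h'.symm)
  obtain ⟨u, hu⟩ : ∃ u, u = y * (d * e) := ⟨_, rfl⟩
  have hyu : y * u = d * e := by rw [hu, ← mul_assoc, H.sq y hy, one_mul]
  have hui : u⁻¹ = d * e * y := by
    refine inv_eq_of_mul_eq_one_right ?_
    rw [hu, show y * (d * e) * (d * e * y) = y * (d * e * (d * e)) * y by group, hw2, mul_one, H.sq y hy]
  have hrefl : ∀ k : ℕ, u ^ k * y = y * (u ^ k)⁻¹ := fun k => by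
    have h : SemiconjBy y u⁻¹ u := by
      show y * u⁻¹ = u * y
      rw [hui, hu]; group
    have := h.pow_right k
    rw [inv_pow] at this
    exact this.symm
  rcases Nat.even_or_odd' (orderOf u) with ⟨m, hm | hm⟩
  swap
  · exfalso
    refine hwD ?_
    have h := H.conj (u ^ m) y hy
    rw [mul_assoc, show y * (u ^ m)⁻¹ = u ^ m * y from (hrefl m).symm, ← mul_assoc, ← pow_add, ← two_mul] at h
    have hn : u ^ (2 * m) * u = 1 := by rw [← pow_succ, ← hm, pow_orderOf_eq_one]
    rwa [mul_eq_one_iff_eq_inv.1 hn, hui, mul_assoc, H.sq y hy, mul_one] at h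
  obtain ⟨i, hi⟩ : ∃ i, i = u ^ m := ⟨_, rfl⟩
  have hi2 : i * i = 1 := by rw [hi, ← pow_add, ← two_mul, ← hm, pow_orderOf_eq_one]
  have hii : i⁻¹ = i := inv_eq_of_mul_eq_one_right hi2
  have hi1 : i ≠ 1 := fun h => by
    have hpos := orderOf_pos u
    exact pow_ne_one_of_lt_orderOf (by omega) (by omega) (hi ▸ h)
  have hiy : Commute i y := by
    have := hrefl m
    rw [← hi, hii] at this
    exact this
  have hiw : Commute i (d * e) := hyu ▸ hiy.mul_right (hi ▸ (Commute.refl u).pow_left m)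
  obtain ⟨x, hx, hix, hall⟩ := H.exists_fixed (Δ := {d, e}) (by rintro a (rfl | rfl) <;> assumption)
    (by rintro a (rfl | rfl) b (rfl | rfl) <;> first | exact Commute.refl _ | exact hde | exact hde.symm)
    ⟨d, Or.inl rfl⟩ hi2 (by
      have h := H.pair_map hd he hde hne.symm hiw
      rw [hii] at h
      rintro a (rfl | rfl) <;> rcases h with ⟨h1, h2⟩ | ⟨h1, h2⟩ <;> simp [h1, h2])
  have hxd := (hall d (Or.inl rfl)).symm
  rcases H.invol_cases hi2 hi1 hx hix with h | ⟨a, b, ha, hb, hab, hne', hax, -, rfl⟩ |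
      ⟨a, b, c, T, hax, -, -, rfl⟩
  · exact ⟨i, h, x, hx, hiy.symm, hix, hxd⟩
  · exact ⟨a, ha, x, hx, (H.comm_pair ha hb hab hne' hy hiy.symm).1, hax, hxd⟩
  · exact ⟨a, T.ma, x, hx, H.triple_comm T hy hiy.symm a (by simp), hax, hxd⟩

end Hyp

end CfsgLib.M22Recog
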