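import Cfsg.Agent.Lib.M22Recog.Frame

/-!
The permutations of the frame induced by the normalizer are even.
-/

set_option autoImplicit false

namespace CfsgLib.M22Recog

open CfsgLib.CosetEnum CfsgLib.Fi23Syl Cfsg.Spor
open CfsgLib.Fi22Syl (zVec)
open CfsgLib.Fi22Fusion (el el_inj nAct nlin K K_map K_word L L_mem L_le card_K card_step bp nLevels
  trans_lt memB_iff nTrans)

section Index

variable {M X : Type*} [Group M] [MulAction M X] {n : ℕ} (t : Fin n → X)

/-- the permutation of the indices of an invariant family -/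
noncomputable def indexHom (ht : Function.Injective t) (h : ∀ (m : M) i, ∃ j, m • t i = t j) :
    M →* Equiv.Perm (Fin n) :=
  MonoidHom.mk'
    (fun m => Equiv.ofBijective (fun i => (h m i).choose) (Finite.injective_iff_bijective.1 fun i j e =>
      ht (MulAction.injective m (((h m i).choose_spec).trans ((congrArg t e).trans (h m j).choose_spec.symm)))))
    fun a b => Equiv.ext fun i => ht (by
      show t (h (a * b) i).choose = t (h a (h b i).choose).choose
      rw [← (h (a * b) i).choose_spec, ← (h a (h b i).choose).choose_spec, ← (h b i).choose_spec, mul_smul])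

theorem indexHom_spec (ht : Function.Injective t) (h : ∀ (m : M) i, ∃ j, m • t i = t j) (m : M) (i : Fin n) :
    t (indexHom t ht h m i) = m • t i := ((h m i).choose_spec).symm

end Index

/-- an index from a number -/
def fi (i : ℕ) : Fin 22 := ⟨i % 22, Nat.mod_lt _ (by norm_num)⟩

/-- the permutation of the frame of one word -/
def permOf (l : List (ℕ × ℕ)) : Equiv.Perm (Fin 22) := (l.map fun p => Equiv.swap (fi p.1) (fi p.2)).prod

theorem fi_val {i : ℕ} (h : i < 22) : (fi i : ℕ) = i := Nat.mod_eq_of_lt h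

theorem beq_ne {a b : ℕ} (h : a ≠ b) : Nat.beq a b = false :=
  Bool.eq_false_iff.2 fun e => h (Nat.eq_of_beq_eq_true e)

theorem permOf_spec : ∀ (l : List (ℕ × ℕ)), (∀ p ∈ l, p.1 < 22 ∧ p.2 < 22 ∧ p.1 ≠ p.2) →
    Equiv.Perm.sign (permOf l) = (-1) ^ l.length ∧ ∀ i : Fin 22, (permOf l i : ℕ) = swapAct l i
  | [], _ => ⟨by simp [permOf], fun i => rfl⟩
  | p :: l, h => by
    obtain ⟨hs, hv⟩ := permOf_spec l fun q hq => h q (List.mem_cons_of_mem _ hq)
    obtain ⟨h1, h2, h3⟩ := h p (List.mem_cons_self ..)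
    have hne : fi p.1 ≠ fi p.2 := fun e => h3 (by rw [← fi_val h1, ← fi_val h2, e])
    have e : permOf (p :: l) = Equiv.swap (fi p.1) (fi p.2) * permOf l := rfl
    refine ⟨by rw [e, map_mul, hs, Equiv.Perm.sign_swap hne, List.length_cons, pow_succ'], fun i => ?_⟩
    rw [e, Equiv.Perm.mul_apply]
    show ((Equiv.swap (fi p.1) (fi p.2)) (permOf l i) : ℕ) =
      bif Nat.beq (swapAct l i) p.1 then p.2 else bif Nat.beq (swapAct l i) p.2 then p.1 else swapAct l i
    rw [← hv i]
    by_cases a : permOf l i = fi p.1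
    · simp [a, fi_val h1, fi_val h2]
    · have a' : ¬ ((permOf l i : ℕ) = p.1) := fun e => a (Fin.ext (e.trans (fi_val h1).symm))
      by_cases b : permOf l i = fi p.2
      · rw [b] at a'
        simp [b, fi_val h1, fi_val h2, Equiv.swap_apply_right, show Nat.beq p.2 p.1 = false from
          beq_ne (Ne.symm h3)]
      · have b' : ¬ ((permOf l i : ℕ) = p.2) := fun e => b (Fin.ext (e.trans (fi_val h2).symm))
        rw [Equiv.swap_apply_of_ne_of_ne a b, show Nat.beq (permOf l i : ℕ) p.1 = false from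
          beq_ne a', show Nat.beq (permOf l i : ℕ) p.2 = false from
          beq_ne b']
        rfl

/-- the permutation of a word -/
def permW : List ℕ → Equiv.Perm (Fin 22)
  | [] => 1
  | k :: w => permW w * permOf (gPerm.getD k [])

theorem permW_spec : ∀ (w : List ℕ), (∀ k ∈ w, k < 5) →
    Equiv.Perm.sign (permW w) = 1 ∧ ∀ i : Fin 22, tv (permW w i) = nAct w (tv i)
  | [], _ => ⟨map_one _, fun _ => rfl⟩
  | k :: w, h => by
    obtain ⟨hs, hv⟩ := permW_spec w fun q hq => h q (List.mem_cons_of_mem _ hq)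
    have hg := allBelow_spec gPerm_ok.2 k (h k (List.mem_cons_self ..))
    simp only [Bool.and_eq_true, List.all_eq_true, Nat.blt_eq, Bool.not_eq_true', Nat.beq_eq] at hg
    obtain ⟨⟨hl, heven⟩, hact⟩ := hg
    obtain ⟨hs', hv'⟩ := permOf_spec (gPerm.getD k []) fun p hp =>
      ⟨(hl p hp).1.1, (hl p hp).1.2, Nat.ne_of_beq_eq_false (hl p hp).2⟩
    refine ⟨?_, fun i => ?_⟩
    · show Equiv.Perm.sign (permW w * permOf _) = 1
      rw [map_mul, hs, hs', one_mul, Even.neg_one_pow (Nat.even_iff.2 heven)]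
    · show tv ((permW w * permOf _) i) = nAct w (nlin k (tv i))
      rw [Equiv.Perm.mul_apply, hv, hv' i, Nat.eq_of_beq_eq_true (allBelow_spec hact i i.2)]

theorem elT_inj : Function.Injective fun i : Fin 22 => el (tv i) := fun i j e => by
  have e' := el_inj (tv_lt i.2) (tv_lt j.2) e
  exact Fin.ext (tE_inj i.2 j.2 (congrArg CfsgLib.USixFusion.eu e'))

theorem K_frame (κ : K) (i : Fin 22) : ∃ j : Fin 22, κ • el (tv i) = el (tv j) := by
  obtain ⟨f, hf, -, -, hT⟩ := K_map κ.2
  have := hT _ (tv_mem i.2)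
  rw [tv_list, List.mem_map] at this
  obtain ⟨j, hj, e⟩ := this
  exact ⟨⟨j, List.mem_range.1 hj⟩, ((hf _).2).trans (congrArg el e.symm)⟩

/-- the permutations of the frame -/
noncomputable def permK : K →* Equiv.Perm (Fin 22) := indexHom _ elT_inj K_frame

theorem permK_spec (κ : K) (i : Fin 22) : el (tv (permK κ i)) = (κ : MulAut baseSub) (el (tv i)) :=
  indexHom_spec _ elT_inj K_frame κ i

/-- the maps inducing even permutations -/
noncomputable def evenK : Subgroup (MulAut baseSub) := (Equiv.Perm.sign.comp permK).ker.map K.subtype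

theorem word_even {w : List ℕ} (hw : ∀ k ∈ w, k < 5) :
    ∃ κ ∈ evenK, ∀ v, κ (el v) = el (nAct w v) := by
  obtain ⟨κ, hκ, h⟩ := K_word hw
  obtain ⟨hs, hv⟩ := permW_spec w hw
  refine ⟨κ, Subgroup.mem_map.2 ⟨⟨κ, hκ⟩, ?_, rfl⟩, h⟩
  have e : permK ⟨κ, hκ⟩ = permW w := Equiv.ext fun i => elT_inj (by
    show el (tv (permK ⟨κ, hκ⟩ i)) = el (tv (permW w i))
    rw [permK_spec, hv, h])
  rw [MonoidHom.mem_ker, MonoidHom.comp_apply, e, hs]

theorem orbit_ge {i : ℕ} (ps : List (ℕ × List ℕ)) (hnd : (ps.map Prod.fst).Nodup)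
    (h : ∀ p ∈ ps, (∀ k ∈ p.2, k < 5) ∧ (∀ j < i, nAct p.2 (bp j) = bp j) ∧ nAct p.2 (bp i) = p.1 ∧ p.1 < 2048) :
    ps.length ≤ Nat.card (MulAction.orbit (L i ⊓ evenK : Subgroup (MulAut baseSub)) (el (bp i))) := by
  classical
  have hsub : ↑((ps.map Prod.fst).toFinset.image el) ⊆
      MulAction.orbit (L i ⊓ evenK : Subgroup (MulAut baseSub)) (el (bp i)) := by
    intro x hx
    obtain ⟨y, hy, rfl⟩ := Finset.mem_image.mp (Finset.mem_coe.mp hx)
    obtain ⟨p, hp, rfl⟩ := List.mem_map.mp (List.mem_toFinset.mp hy)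
    obtain ⟨hw, hfix, hi, -⟩ := h p hp
    obtain ⟨κ, hκ, hκv⟩ := word_even hw
    have hκK : κ ∈ K := by
      obtain ⟨q, -, rfl⟩ := Subgroup.mem_map.1 hκ
      exact q.2
    refine ⟨⟨κ, L_mem hκK fun j hj => ?_, hκ⟩, ?_⟩
    · rw [hκv, hfix j hj]
    · show κ (el (bp i)) = el p.1
      rw [hκv, hi]
  refine le_trans (le_of_eq ?_) (Nat.card_mono (Set.toFinite _) hsub)
  simp only [Finset.coe_sort_coe, Nat.card_eq_fintype_card, Fintype.card_coe]
  rw [Finset.card_image_of_injOn, List.toFinset_card_of_nodup hnd, List.length_map]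
  intro a ha b hb e
  have hlt : ∀ a ∈ (ps.map Prod.fst).toFinset, a < 2048 := fun a ha => by
    obtain ⟨p, hp, rfl⟩ := List.mem_map.mp (List.mem_toFinset.mp ha)
    exact (h p hp).2.2.2
  exact el_inj (hlt a ha) (hlt b hb) e

theorem K_even : K ≤ evenK := by
  have hle : evenK ≤ K := fun κ hκ => by
    obtain ⟨q, -, rfl⟩ := Subgroup.mem_map.1 hκ
    exact q.2
  have step : ∀ i, Nat.card (L i ⊓ evenK : Subgroup (MulAut baseSub)) =
      Nat.card (MulAction.orbit (L i ⊓ evenK : Subgroup (MulAut baseSub)) (el (bp i))) *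
        Nat.card (L (i + 1) ⊓ evenK : Subgroup (MulAut baseSub)) := fun i => by
    rw [card_step (L i ⊓ evenK) (el (bp i)), inf_right_comm]
    rfl
  have low : ∀ i < 4, [22, 21, 20, 3].getD i 0 ≤
      Nat.card (MulAction.orbit (L i ⊓ evenK : Subgroup (MulAut baseSub)) (el (bp i))) := fun i hi => by
    have hsz : (nLevels.getD i []).length = [22, 21, 20, 3].getD i 0 := by
      have e2 := congrArg (fun l => l.getD i 0) CfsgLib.Fi22Fusion.level_size
      simp only [List.getD_eq_getElem?_getD, List.getElem?_map, List.getElem?_range hi, Option.map_some,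
        Option.getD_some] at e2 ⊢
      exact e2
    have hok := allBelow_spec CfsgLib.Fi22Fusion.level_ok i hi
    have hall := allBelow_spec CfsgLib.Fi22Fusion.level_allowed i hi
    rw [List.all_eq_true] at hok hall
    refine hsz ▸ orbit_ge _ (noDup_nodup (allBelow_spec CfsgLib.Fi22Fusion.level_nodup i hi)) fun p hp => ?_
    have h := hok p hp
    simp only [CfsgLib.Fi22Fusion.levelOK, Bool.and_eq_true, List.all_eq_true, Nat.blt_eq, Nat.beq_eq] at h
    exact ⟨h.1.1, fun j hj => Nat.eq_of_beq_eq_true (allBelow_spec h.1.2 j hj), h.2,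
      trans_lt (List.mem_of_mem_filter (memB_iff.mp (hall p hp)))⟩
  have low5 : 16 ≤ Nat.card (MulAction.orbit (L 5 ⊓ evenK : Subgroup (MulAut baseSub)) (el (bp 5))) := by
    have h := fifth_ok
    refine h.1 ▸ orbit_ge _ (noDup_nodup h.2.1) fun p hp => ?_
    have hh := List.all_eq_true.1 h.2.2 p hp
    simp only [Bool.and_eq_true, List.all_eq_true, Nat.blt_eq, Nat.beq_eq] at hh
    exact ⟨hh.1.1.1, fun j hj => Nat.eq_of_beq_eq_true (allBelow_spec hh.1.1.2 j hj), hh.1.2, hh.2⟩
  have pos : ∀ i, 1 ≤ Nat.card (MulAction.orbit (L i ⊓ evenK : Subgroup (MulAut baseSub)) (el (bp i))) := fun i =>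
    Nat.card_pos_iff.2 ⟨⟨⟨_, MulAction.mem_orbit_self _⟩⟩, inferInstance⟩
  have hcard : 443520 ≤ Nat.card evenK := by
    have h0 : (L 0 ⊓ evenK : Subgroup (MulAut baseSub)) = evenK := inf_eq_right.2 hle
    have h6 : 1 ≤ Nat.card (L 6 ⊓ evenK : Subgroup (MulAut baseSub)) := Nat.card_pos
    rw [← h0, step 0, step 1, step 2, step 3, step 4, step 5]
    exact le_trans (by norm_num) (Nat.mul_le_mul (low 0 (by norm_num)) (Nat.mul_le_mul (low 1 (by norm_num))
      (Nat.mul_le_mul (low 2 (by norm_num)) (Nat.mul_le_mul (low 3 (by norm_num))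
        (Nat.mul_le_mul (pos 4) (Nat.mul_le_mul low5 h6))))))
  exact (Subgroup.eq_of_le_of_card_ge hle (card_K.le.trans hcard)).ge

theorem sign_permK (κ : K) : Equiv.Perm.sign (permK κ) = 1 := by
  obtain ⟨q, hq, e⟩ := Subgroup.mem_map.1 (K_even κ.2)
  obtain rfl : q = κ := Subtype.ext e
  exact hq

end CfsgLib.M22Recog
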