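import Cfsg.Agent.Lib.M22Recog.FrameChecks
import Cfsg.Agent.Lib.USixFusion.Main

/-!
The twenty-two commuting transpositions of Fi22 in the elementary abelian subgroup of order 2^10.
-/

set_option autoImplicit false
set_option maxRecDepth 10000

namespace CfsgLib.M22Recog

open CfsgLib.CosetEnum CfsgLib.Fi23Syl Cfsg.Spor
open CfsgLib.ThreeTransp CfsgLib.ThreeTransp.Relations
open CfsgLib.Fi22Syl (zVec aG_z)
open CfsgLib.Fi22Fusion (el el_inj el_surj el_xor z_lt trans_iff nTrans memB_iff)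
open CfsgLib.USixFusion (E22 eu eu_xor eu_one eu_inj eu_surj eu_qn qn qn_flip E22_le E22_comm pr_val)
open CfsgLib.Fi22USix (transClass)
open CfsgLib.Fi22Pres (gen subA)

/-- a member of the frame in the elementary abelian group -/
noncomputable def tE (i : ℕ) : E22 := eu (tv i)

/-- the same in the centralizer -/
noncomputable def tA (i : ℕ) : subA := Subgroup.inclusion E22_le (tE i)

theorem tv_mem {i : ℕ} (hi : i < 22) : tv i ∈ nTrans :=
  tv_list ▸ List.mem_map_of_mem (List.mem_range.2 hi)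

theorem tv_lt {i : ℕ} (hi : i < 22) : tv i < 2048 := CfsgLib.Fi22Fusion.trans_lt (tv_mem hi)

theorem tE_zero : (tE 0 : Fi22) = gen 0 := by rw [tE, tv_zero, eu_one]

theorem eu_zero : eu 0 = 1 := by rw [eu, show el 0 = 1 from Subtype.ext aG_zero, map_one]

theorem tE_inj {i j : ℕ} (hi : i < 22) (hj : j < 22) (h : tE i = tE j) : i = j := by
  have hnd := noDup_nodup tv_qn
  have e : qn (tv i) = qn (tv j) := by
    rcases eu_inj (tv_lt hi) (tv_lt hj) h with e | e
    · rw [e]
    · rw [e, qn_flip]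
  exact List.inj_on_of_nodup_map hnd (List.mem_range.2 hi) (List.mem_range.2 hj) e

theorem tE_class {i : ℕ} (hi : i < 22) : (tE i : Fi22) ∈ transClass := by
  obtain ⟨h1, h2⟩ := (trans_iff (tv_lt hi)).2 (tv_mem hi)
  have hne : aG (tv i) ≠ Fi23Pres.coverZ := fun e =>
    h2 (aG_inj (tv_lt hi) z_lt (e.trans aG_z.symm))
  have hc : Commute Fi23Pres.coverZ (aG (tv i)) := by rw [← aG_z]; exact aG_comm _ _
  have hp : aG (tv i) ∈ CfsgLib.M23.perp Fi23Pres.transClass Fi23Pres.coverZ := ⟨h1, hne, hc⟩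
  rw [tE, eu, pr_val]
  exact CfsgLib.M23.toFi22_perp hp

theorem tE_nbr {i : ℕ} (hi : i < 22) (h0 : i ≠ 0) : (tE i : Fi22) ∈ nbr transClass (gen 0) :=
  ⟨tE_class hi, fun e => h0 (tE_inj hi (by norm_num) (Subtype.ext (e.trans tE_zero.symm))),
    E22_comm (tE_zero ▸ (tE 0).2) (tE i).2⟩

theorem eu_val : ∀ l : List ℕ, eu (val l) = (l.map tE).prod
  | [] => eu_zero
  | i :: l => by rw [val, eu_xor, eu_val l]; rfl

theorem val_perm : ∀ {l l' : List ℕ}, l.Perm l' → val l = val l' := by
  intro l l' h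
  induction h with
  | nil => rfl
  | cons x _ ih => rw [val, val, ih]
  | swap x y l => simp only [val, ← Nat.xor_assoc, Nat.xor_comm (tv x) (tv y)]
  | trans _ _ a b => exact a.trans b

theorem val_lt : ∀ {l : List ℕ}, (∀ i ∈ l, i < 22) → val l < 2048
  | [], _ => by norm_num [val]
  | i :: l, h => Nat.xor_lt_two_pow (n := 11) (tv_lt (h i (List.mem_cons_self ..)))
      (val_lt fun j hj => h j (List.mem_cons_of_mem _ hj))

theorem zeroB_of_eu {v : ℕ} (hv : v < 2048) (h : eu v = 1) : zeroB v = true := by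
  rcases eu_inj hv (by norm_num) (h.trans eu_zero.symm) with e | e
  · simp [zeroB, e]
  · simp [zeroB, e]

theorem noRel_spec : ∀ (k : ℕ) (L : List ℕ) (a : ℕ), noRel k L a = true →
    ∀ s : List ℕ, s.Sublist L → s ≠ [] → s.length ≤ k → zeroB (s.foldl (· ^^^ ·) a) = false
  | 0, _, _, _, s, _, h1, h2 => absurd (List.length_eq_zero_iff.1 (Nat.le_zero.1 h2)) h1
  | k + 1, [], _, _, s, hs, h1, _ => absurd (List.sublist_nil.1 hs) h1
  | k + 1, x :: xs, a, h, s, hs, h1, h2 => by
    simp only [noRel, Bool.and_eq_true, Bool.not_eq_true'] at h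
    cases hs with
    | cons _ hs => exact noRel_spec (k + 1) xs a h.2 s hs h1 h2
    | cons_cons _ hs =>
      rename_i s'
      rcases eq_or_ne s' [] with rfl | hne
      · exact h.1.1
      · exact noRel_spec k xs (a ^^^ x) h.1.2 s' hs hne (by simpa using h2)

theorem foldl_val : ∀ (l : List ℕ) (a : ℕ), (l.map tv).foldl (· ^^^ ·) a = a ^^^ val l
  | [], a => (Nat.xor_zero a).symm
  | i :: l, a => by rw [List.map_cons, List.foldl_cons, foldl_val l, val, Nat.xor_assoc]

/-- the sorted form of a list of indices -/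
theorem perm_filter {l : List ℕ} (hn : l.Nodup) (hl : ∀ i ∈ l, i < 22) :
    l.Perm ((List.range 22).filter fun i => decide (i ∈ l)) :=
  (List.perm_ext_iff_of_nodup hn (List.nodup_range.filter _)).2 fun i => by
    simp only [List.mem_filter, List.mem_range, decide_eq_true_eq]
    exact ⟨fun h => ⟨hl i h, h⟩, fun h => h.2⟩

theorem short {l : List ℕ} (hn : l.Nodup) (hl : ∀ i ∈ l, i < 22) (h0 : l ≠ []) (h5 : l.length ≤ 5) :
    (l.map tE).prod ≠ 1 := by
  intro h
  have hp := perm_filter hn hl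
  have hz := zeroB_of_eu (val_lt hl) ((eu_val l).trans h)
  rw [val_perm hp] at hz
  have := noRel_spec 5 nTrans 0 short_ok ((((List.range 22).filter fun i => decide (i ∈ l))).map tv)
    (tv_list ▸ List.filter_sublist.map tv)
    (by
      intro e
      rw [List.map_eq_nil_iff] at e
      exact h0 (List.perm_nil.1 (e ▸ hp)))
    (by rw [List.length_map, ← hp.length_eq]; exact h5)
  rw [foldl_val, Nat.zero_xor] at this
  rw [this] at hz
  exact Bool.noConfusion hz

theorem triple_perm {i j k : ℕ} (hij : i ≠ j) (hik : i ≠ k) (hjk : j ≠ k) :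
    ∃ a b c, c < b ∧ b < a ∧ [i, j, k].Perm [a, b, c] := by
  have key : ∀ {a b c : ℕ}, c < b → b < a → [i, j, k].Perm [a, b, c] →
      ∃ a b c, c < b ∧ b < a ∧ [i, j, k].Perm [a, b, c] := fun h1 h2 h => ⟨_, _, _, h1, h2, h⟩
  have hp : ∀ {a b c : ℕ}, [a, b, c].Nodup → (∀ x, x ∈ [i, j, k] ↔ x ∈ [a, b, c]) → [i, j, k].Perm [a, b, c] :=
    fun hn h => (List.perm_ext_iff_of_nodup (by simp [hij, hik, hjk]) hn).2 h
  have pr : ∀ {a b c : ℕ}, (a = i ∨ a = j ∨ a = k) → (b = i ∨ b = j ∨ b = k) → (c = i ∨ c = j ∨ c = k) →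
      c < b → b < a → ∃ a b c, c < b ∧ b < a ∧ [i, j, k].Perm [a, b, c] := fun {a b c} p q r h1 h2 =>
    key h1 h2 (hp (by simp; omega) fun x => by simp only [List.mem_cons, List.not_mem_nil, or_false]; omega)
  rcases Nat.lt_or_gt_of_ne hij with h1 | h1 <;> rcases Nat.lt_or_gt_of_ne hik with h2 | h2 <;>
    rcases Nat.lt_or_gt_of_ne hjk with h3 | h3
  · exact pr (a := k) (b := j) (c := i) (by simp) (by simp) (by simp) h1 h3
  · exact pr (a := j) (b := k) (c := i) (by simp) (by simp) (by simp) h2 h3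
  · omega
  · exact pr (a := j) (b := i) (c := k) (by simp) (by simp) (by simp) h2 h1
  · exact pr (a := k) (b := i) (c := j) (by simp) (by simp) (by simp) h1 h2
  · omega
  · exact pr (a := i) (b := k) (c := j) (by simp) (by simp) (by simp) h3 h2
  · exact pr (a := i) (b := j) (c := k) (by simp) (by simp) (by simp) h3 h1

theorem bitsOf_mem {m i : ℕ} : i ∈ bitsOf m ↔ i < 22 ∧ m.testBit i = true := by
  simp [bitsOf]

theorem qn_eq_of_eu {v w : ℕ} (hv : v < 2048) (hw : w < 2048) (h : eu v = eu w) : qn v = qn w := by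
  rcases eu_inj hv hw h with e | e
  · rw [e]
  · rw [e, qn_flip]

/-- the six of a triple -/
theorem six_of {i j k : ℕ} (hi : i < 22) (hj : j < 22) (hk : k < 22) (hij : i ≠ j) (hik : i ≠ k) (hjk : j ≠ k) :
    ∃ s : List ℕ, s.Nodup ∧ s.length = 3 ∧ (∀ x ∈ s, x < 22 ∧ x ≠ i ∧ x ≠ j ∧ x ≠ k) ∧
      (s.map tE).prod = [tE i, tE j, tE k].prod ∧
      ∀ v < 2048, qn v = qn (val [i, j, k]) → ∀ x ∈ [i, j, k] ++ s, (entry sixW (qn v)).testBit x = true := by
  obtain ⟨a, b, c, hcb, hba, hp⟩ := triple_perm hij hik hjk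
  have hlt : ∀ x ∈ [i, j, k], x < 22 := by simp [hi, hj, hk]
  have ha : a < 22 := hlt a (hp.mem_iff.2 (by simp))
  have h := allBelow_spec (allBelow_spec (allBelow_spec six_ok a ha) b hba) c hcb
  simp only [sixB, Bool.and_eq_true, Nat.beq_eq] at h
  rw [← val_perm hp] at h
  obtain ⟨⟨hm, hlen⟩, hval⟩ := h
  set S := entry sixW (qn (val [i, j, k])) with hS
  set m := (1 <<< a) ||| (1 <<< b) ||| (1 <<< c) with hmdef
  have hmb : ∀ x, m.testBit x = true ↔ x ∈ [i, j, k] := fun x => by
    rw [hp.mem_iff, hmdef]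
    simp only [Nat.one_shiftLeft, Nat.testBit_or, Nat.testBit_two_pow, Bool.or_eq_true, decide_eq_true_eq,
      List.mem_cons, List.not_mem_nil, or_false, or_assoc]
    constructor <;> rintro (h | h | h) <;> simp [h]
  have hsub : ∀ x ∈ [i, j, k], S.testBit x = true := fun x hx => by
    have := congrArg (fun n => n.testBit x) hm
    simp only [Nat.testBit_and, (hmb x).2 hx, Bool.and_true] at this
    exact this
  refine ⟨bitsOf (S ^^^ m), List.nodup_range.filter _, ?_, fun x hx => ?_, ?_, ?_⟩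
  · have e : (bitsOf S).Perm ([i, j, k] ++ bitsOf (S ^^^ m)) := by
      refine (List.perm_ext_iff_of_nodup (List.nodup_range.filter _) (List.nodup_append.2
        ⟨by simp [hij, hik, hjk], List.nodup_range.filter _, ?_⟩)).2 fun x => ?_
      · intro x hx y hy e
        subst e
        have hy' := (bitsOf_mem.1 (show x ∈ bitsOf (S ^^^ m) from hy)).2
        rw [Nat.testBit_xor, hsub x hx, (hmb x).2 hx] at hy'
        simp at hy'
      · show x ∈ bitsOf S ↔ _ ∈ [i, j, k] ++ bitsOf (S ^^^ m)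
        rw [List.mem_append, bitsOf_mem, bitsOf_mem, Nat.testBit_xor]
        by_cases hx : x ∈ [i, j, k]
        · simp [hx, hsub x hx, hlt x hx]
        · have : m.testBit x = false := Bool.eq_false_iff.2 fun e => hx ((hmb x).1 e)
          simp [hx, this]
    have := e.length_eq
    rw [hlen, List.length_append] at this
    simp only [List.length_cons, List.length_nil] at this
    omega
  · rw [bitsOf_mem, Nat.testBit_xor] at hx
    have hn : x ∉ [i, j, k] := fun e => by rw [hsub x e, (hmb x).2 e] at hx; simp at hx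
    simp only [List.mem_cons, List.not_mem_nil, or_false, not_or] at hn
    exact ⟨hx.1, hn⟩
  · rw [← eu_val, ← eu_qn, hval, eu_qn, eu_val]
    rfl
  · intro v _ e x hx
    rw [e, ← hS]
    rcases List.mem_append.1 hx with h | h
    · exact hsub x h
    · rw [bitsOf_mem, Nat.testBit_xor] at h
      by_cases hx' : x ∈ [i, j, k]
      · exact hsub x hx'
      · rw [Bool.eq_false_iff.2 fun e => hx' ((hmb x).1 e)] at h
        simpa using h.2

/-- there are no three disjoint triples with one product -/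
theorem no_three {l : List ℕ} (hn : l.Nodup) (hl : ∀ i ∈ l, i < 22) {a b c d e f g h k : ℕ}
    (hL : l = [a, b, c, d, e, f, g, h, k]) (h1 : [tE a, tE b, tE c].prod = [tE d, tE e, tE f].prod)
    (h2 : [tE a, tE b, tE c].prod = [tE g, tE h, tE k].prod) : False := by
  subst hL
  simp only [List.nodup_cons, List.mem_cons, List.not_mem_nil, or_false, not_or, List.nodup_nil, and_true] at hn
  simp only [List.mem_cons, List.not_mem_nil, or_false, forall_eq_or_imp, forall_eq] at hl
  obtain ⟨ha, hb, hc, hd, he, hf, hg, hh, hk⟩ := hl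
  obtain ⟨s1, -, -, -, -, m1⟩ := six_of ha hb hc hn.1.1 hn.1.2.1 hn.2.1.1
  obtain ⟨s2, -, -, -, -, m2⟩ := six_of hd he hf hn.2.2.2.1.1 hn.2.2.2.1.2.1 hn.2.2.2.2.1.1
  obtain ⟨s3, -, -, -, -, m3⟩ := six_of hg hh hk hn.2.2.2.2.2.2.1.1 hn.2.2.2.2.2.2.1.2 hn.2.2.2.2.2.2.2.1
  have hv : val [a, b, c] < 2048 := val_lt (by simp [ha, hb, hc])
  have hsz : ∀ x ∈ [a, b, c, d, e, f, g, h, k], x ∈ bitsOf (entry sixW (qn (val [a, b, c]))) := by
    have q2 : qn (val [a, b, c]) = qn (val [d, e, f]) :=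
      qn_eq_of_eu hv (val_lt (by simp [hd, he, hf])) (by rw [eu_val, eu_val]; exact h1)
    have q3 : qn (val [a, b, c]) = qn (val [g, h, k]) :=
      qn_eq_of_eu hv (val_lt (by simp [hg, hh, hk])) (by rw [eu_val, eu_val]; exact h2)
    have hx1 : ∀ x ∈ [a, b, c], (entry sixW (qn (val [a, b, c]))).testBit x = true := fun x hx =>
      m1 _ hv rfl x (List.mem_append_left _ hx)
    have hx2 : ∀ x ∈ [d, e, f], (entry sixW (qn (val [a, b, c]))).testBit x = true := fun x hx =>
      m2 _ hv q2 x (List.mem_append_left _ hx)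
    have hx3 : ∀ x ∈ [g, h, k], (entry sixW (qn (val [a, b, c]))).testBit x = true := fun x hx =>
      m3 _ hv q3 x (List.mem_append_left _ hx)
    simp only [List.mem_cons, List.not_mem_nil, or_false, forall_eq_or_imp, forall_eq] at hx1 hx2 hx3 ⊢
    simp only [bitsOf_mem, ha, hb, hc, hd, he, hf, hg, hh, hk, hx1, hx2, hx3, and_self]
  obtain ⟨x, y, z, hzy, hyx, hp⟩ := triple_perm hn.1.1 hn.1.2.1 hn.2.1.1
  have hlt : ∀ u ∈ [a, b, c], u < 22 := by simp [ha, hb, hc]
  have hS := allBelow_spec (allBelow_spec (allBelow_spec six_ok x (hlt x (hp.mem_iff.2 (by simp)))) y hyx) z hzy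
  simp only [sixB, Bool.and_eq_true, Nat.beq_eq] at hS
  rw [← val_perm hp] at hS
  have hnd : [a, b, c, d, e, f, g, h, k].Nodup := by
    simp only [List.nodup_cons, List.mem_cons, List.not_mem_nil, or_false, not_or, List.nodup_nil, and_true]
    exact hn
  have := (List.subperm_of_subset hnd hsz).length_le
  rw [hS.1.2] at this
  simp at this

/-- every member of the subgroup is a product of at most three of the frame -/
theorem exists_decomp (a : E22) : ∃ l : List ℕ, l.Nodup ∧ (∀ i ∈ l, i < 22) ∧ l.length ≤ 3 ∧ a = (l.map tE).prod := by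
  obtain ⟨v, hv, rfl⟩ := eu_surj a
  have h := allBelow_spec dec_ok v hv
  rw [Bool.or_eq_true, Bool.and_eq_true, Nat.ble_eq, Nat.beq_eq, Nat.beq_eq] at h
  rcases h with h | ⟨hl, hv'⟩
  · exact ⟨[], List.nodup_nil, by simp, by simp, by rw [← eu_qn, h, eu_zero]; rfl⟩
  · exact ⟨_, List.nodup_range.filter _, fun i hi => (bitsOf_mem.1 hi).1, hl,
      (eu_qn v).symm.trans ((congrArg eu hv'.symm).trans ((eu_qn _).trans (eu_val _)))⟩

end CfsgLib.M22Recog
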