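import Cfsg.Agent.Lib.M22Recog.Data
import Cfsg.Agent.Lib.USixFusion.Checks

/-!
Checks on the twenty-two members of the frame and on the maps permuting them.
-/

set_option autoImplicit false
set_option maxRecDepth 100000

namespace CfsgLib.M22Recog

open CfsgLib.CosetEnum CfsgLib.Fi23Syl
open CfsgLib.Fi22Syl (zVec)
open CfsgLib.Fi22Fusion (nAct nlin nTrans memB nBase bp)
open CfsgLib.USixFusion (qn uMem uW uMasks)

/-- a member of the frame -/
noncomputable def tv (i : ℕ) : ℕ := nth nTrans i 0

/-- the sum of some members -/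
noncomputable def val : List ℕ → ℕ
  | [] => 0
  | i :: l => tv i ^^^ val l

/-- the numbers with a bit in a mask -/
def bitsOf (m : ℕ) : List ℕ := (List.range 22).filter fun i => m.testBit i

/-- an entry of a packed table -/
def entry (W v : ℕ) : ℕ := (W >>> (22 * v)) &&& 4194303

/-- trivial modulo the fixed kernel -/
noncomputable def zeroB (v : ℕ) : Bool := Nat.beq v 0 || Nat.beq v zVec

/-- no short sublist has trivial sum -/
noncomputable def noRel : ℕ → List ℕ → ℕ → Bool
  | 0, _, _ => true
  | _ + 1, [], _ => true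
  | k + 1, x :: xs, a => !(zeroB (a ^^^ x)) && noRel k xs (a ^^^ x) && noRel (k + 1) xs a

/-- the six of a triple -/
noncomputable def sixB (i j k : ℕ) : Bool :=
  Nat.beq (entry sixW (qn (val [i, j, k])) &&& ((1 <<< i) ||| (1 <<< j) ||| (1 <<< k)))
      ((1 <<< i) ||| (1 <<< j) ||| (1 <<< k)) &&
    Nat.beq (bitsOf (entry sixW (qn (val [i, j, k])))).length 6 &&
    Nat.beq (qn (val (bitsOf (entry sixW (qn (val [i, j, k])) ^^^ ((1 <<< i) ||| (1 <<< j) ||| (1 <<< k))))))
      (qn (val [i, j, k]))

/-- the permutation of the frame given by swaps -/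
def swapAct (l : List (ℕ × ℕ)) (i : ℕ) : ℕ :=
  l.foldr (fun p x => bif Nat.beq x p.1 then p.2 else bif Nat.beq x p.2 then p.1 else x) i

theorem tv_list : nTrans = (List.range 22).map tv := by decide +kernel
theorem tv_zero : tv 0 = 1 := by decide +kernel
theorem tv_qn : noDup ((List.range 22).map fun i => qn (tv i)) = true := by decide +kernel
theorem short_ok : noRel 5 nTrans 0 = true := by decide +kernel
theorem six_ok : allBelow 22 (fun i => allBelow i fun j => allBelow j fun k => sixB i j k) = true := by decide +kernel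
theorem dec_ok : allBelow 2048 (fun v => Nat.beq (qn v) 0 ||
    (Nat.ble (bitsOf (entry decW (qn v))).length 3 && Nat.beq (qn (val (bitsOf (entry decW (qn v))))) (qn v))) = true := by
  decide +kernel
theorem gPerm_ok : gPerm.length = 5 ∧ allBelow 5 (fun k =>
    ((gPerm.getD k []).all fun p => Nat.blt p.1 22 && Nat.blt p.2 22 && !(Nat.beq p.1 p.2)) &&
      Nat.beq ((gPerm.getD k []).length % 2) 0 &&
      allBelow 22 fun i => Nat.beq (nlin k (tv i)) (tv (swapAct (gPerm.getD k []) i))) = true := by decide +kernel
theorem fifth_ok : fifth.length = 16 ∧ noDup (fifth.map Prod.fst) = true ∧ fifth.all (fun p =>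
    (p.2.all fun k => Nat.blt k 5) && (allBelow 5 fun j => Nat.beq (nAct p.2 (bp j)) (bp j)) &&
      Nat.beq (nAct p.2 (bp 5)) p.1 && Nat.blt p.1 2048) = true := by decide +kernel
/-- the members of the second option besides the fixed one -/
def optTwo : List ℕ :=
  [3, 5, 9, 17, 33, 65, 127, 129, 182, 257, 346, 412, 497, 1025, 1122, 1197, 1272, 1303, 1326, 1476, 1483]

theorem optTwo_ok : noRel 4 optTwo 1 = true ∧ zeroB (3 ^^^ 5 ^^^ 9 ^^^ 1476 ^^^ 1483) = true ∧
    allBelow 2048 (fun v => !(uMem 2 v) || Nat.beq (qn v) 1 || memB (qn v) optTwo) = true ∧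
    optTwo.all (fun v => uMem 2 v && Nat.beq (qn v) v) = true := by decide +kernel

/-- the first option is the frame -/
theorem optOne_ok : allBelow 22 (fun i => uMem 1 (tv i) && Nat.blt (tv i) 2048) = true ∧
    allBelow 2048 (fun v => !(uMem 1 v) || (List.range 22).any fun i => Nat.beq (qn (tv i)) (qn v)) = true := by
  decide +kernel

/-- the members other than the first are one orbit -/
theorem optOne_orbit : allBelow 22 (fun i => Nat.beq i 0 || (nth uMasks 1 0).testBit (qn (tv i))) = true := by
  decide +kernel

/-- the other orbits are too large -/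
theorem big_ok : allBelow 3 (fun c => Nat.ble 22
    ((List.range 2048).filter fun v => Nat.beq (qn v) v && (nth uMasks (c + 3) 0).testBit v).length) = true ∧
    allBelow 2048 (fun v => !((nth uMasks 0 0).testBit (qn v)) || Nat.beq (qn v) 1) = true := by decide +kernel

end CfsgLib.M22Recog
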