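import Cfsg.Agent.Lib.M22Recog.EvenK

/-!
The conjugates of a transposition in the elementary abelian subgroup of order 2^10, and a fixed one for
each involution normalizing the subgroup.
-/

set_option autoImplicit false
set_option linter.unusedSectionVars false
set_option maxHeartbeats 1000000
set_option maxRecDepth 10000

namespace CfsgLib.M22Recog

open CfsgLib.CosetEnum CfsgLib.Fi23Syl Cfsg.Spor
open CfsgLib.Fi22Syl (zVec)
open CfsgLib.Fi22Fusion (el memB_iff)
open CfsgLib.USixFusion (E22 eu eu_xor eu_one eu_inj eu_surj eu_qn qn qn_qn qn_lt E22_le K22 K22_mk K22_spec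
  mask_reach down down_pr down_surj pr uReps uMasks uReps_ok uCover uMem)
open CfsgLib.Fi22Pres (gen subA)

theorem K22_frame {κ' : MulAut E22} (h : κ' ∈ K22) :
    ∃ σ : Equiv.Perm (Fin 22), Equiv.Perm.sign σ = 1 ∧ ∀ i : Fin 22, κ' (tE i) = tE (σ i) := by
  obtain ⟨κ, rfl⟩ := down_surj κ' h
  refine ⟨permK ⟨κ.1, CfsgLib.Fi22Fusion.L_le 1 κ.2⟩, sign_permK _, fun i => ?_⟩
  rw [tE, eu, down_pr, tE, eu]
  exact congrArg pr (permK_spec ⟨κ.1, CfsgLib.Fi22Fusion.L_le 1 κ.2⟩ i).symm

theorem rep_one : eu (nth uReps 0 0) = eu 1 := by rw [uReps_ok.2]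

/-- the members other than the first are one orbit -/
theorem K22_trans {i j : ℕ} (hi : i < 22) (hj : j < 22) (h0 : i ≠ 0) (h1 : j ≠ 0) :
    ∃ κ ∈ K22, κ (tE i) = tE j := by
  have key : ∀ {k}, k < 22 → k ≠ 0 → ∃ κ ∈ K22, κ (eu (nth uReps 1 0)) = tE k := fun {k} hk hk0 => by
    have h := allBelow_spec optOne_orbit k hk
    rw [Bool.or_eq_true, Nat.beq_eq] at h
    obtain ⟨κ, hκ, e⟩ := mask_reach (h.resolve_left hk0)
    exact ⟨κ, hκ, e.trans (eu_qn _)⟩
  obtain ⟨a, ha, ea⟩ := key hi h0
  obtain ⟨b, hb, eb⟩ := key hj h1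
  exact ⟨b * a⁻¹, mul_mem hb (inv_mem ha), by
    show b (a.symm (tE i)) = tE j
    rw [← ea, MulEquiv.symm_apply_apply, eb]⟩

theorem sign_fixed {σ : Equiv.Perm (Fin 22)} (h2 : σ * σ = 1) (hs : Equiv.Perm.sign σ = 1) : ∃ i, σ i = i := by
  classical
  by_contra! hne
  have h1 : σ ≠ 1 := fun e => hne 0 (by rw [e]; rfl)
  have ho : orderOf σ = 2 := orderOf_eq_prime (by rw [pow_two, h2]) h1
  obtain ⟨n, hn⟩ := Equiv.Perm.cycleType_prime_order (σ := σ) (ho ▸ Nat.prime_two)
  have hsum := Equiv.Perm.sum_cycleType σ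
  have hsup : σ.support = Finset.univ := Finset.eq_univ_of_forall fun i => Equiv.Perm.mem_support.2 (hne i)
  rw [hn, hsup, ho, Multiset.sum_replicate, Finset.card_univ, Fintype.card_fin, smul_eq_mul] at hsum
  rw [Equiv.Perm.sign_of_cycleType, hn, ho, Multiset.sum_replicate, Multiset.card_replicate, smul_eq_mul,
    hsum, show n + 1 = 11 by omega] at hs
  exact absurd hs (by decide)

variable {G : Type*} [Group G] [Finite G] {d : G}

section

variable {C : Subgroup G} (ι : subA →* G)

/-- the member of the frame in the group -/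
noncomputable def tG (i : ℕ) : G := ι (tA i)

theorem tG_zero (hz : ∀ x : subA, (x : Fi22) = gen 0 → ι x = d) : tG ι 0 = d := hz _ tE_zero

variable (hd : orderOf d = 2) (hC : ∀ c, c ∈ C ↔ Commute c d) (hι : Function.Injective ι) (hr : ι.range = C)
  (hz : ∀ x : subA, (x : Fi22) = gen 0 → ι x = d) (hnwc : ∃ g : G, g * d * g⁻¹ ∈ C ∧ g * d * g⁻¹ ≠ d)

include hd hC hι hr hz hnwc

theorem j_inj : Function.Injective fun a : E22 => ι (Subgroup.inclusion E22_le a) :=
  hι.comp (Subgroup.inclusion_injective _)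

omit hd hnwc in
/-- maps of the centralizer act on the conjugates -/
theorem K22_conj {κ : MulAut E22} (h : κ ∈ K22) :
    ∃ c ∈ C, ∀ a : E22, ι (Subgroup.inclusion E22_le (κ a)) = c * ι (Subgroup.inclusion E22_le a) * c⁻¹ := by
  obtain ⟨n, hn, e⟩ := K22_spec h
  refine ⟨ι ⟨n, hn⟩, hr ▸ ⟨_, rfl⟩, fun a => ?_⟩
  rw [← map_inv, ← map_mul, ← map_mul]
  exact congrArg ι (Subtype.ext (e a))

theorem frame_conj_all : ∀ a : E22, IsConj d (ι (Subgroup.inclusion E22_le a)) ↔ ∃ i < 22, a = tE i := by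
  classical
  obtain ⟨-, -, h22, htrans⟩ := CfsgLib.USixFusion.fusion hd hC ι hι hr hz hnwc _ rfl
  let j : E22 → G := fun a => ι (Subgroup.inclusion E22_le a)
  have hj : Function.Injective j := j_inj ι hd hC hι hr hz hnwc
  have hjA : ∀ a, j a ∈ (E22.subgroupOf subA).map ι := fun a =>
    Subgroup.mem_map_of_mem ι (show Subgroup.inclusion E22_le a ∈ E22.subgroupOf subA from a.2)
  let X : Set E22 := {a | IsConj d (j a)}
  have hX22 : X.ncard = 22 := by
    rw [← h22, ← Set.ncard_image_of_injective X hj]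
    congr 1
    ext x
    constructor
    · rintro ⟨a, ha, rfl⟩; exact ⟨hjA a, ha⟩
    · rintro ⟨hx, hc⟩
      obtain ⟨a, ha, rfl⟩ := Subgroup.mem_map.1 hx
      exact ⟨⟨a, ha⟩, hc, rfl⟩
  have hone : eu 1 ∈ X := by show IsConj d (ι _); rw [hz _ eu_one]
  have hinv : ∀ κ ∈ K22, ∀ a, (κ a ∈ X ↔ a ∈ X) := fun κ hκ a => by
    obtain ⟨c, -, e⟩ := K22_conj ι hC hι hr hz hκ
    show IsConj d (j (κ a)) ↔ IsConj d (j a)
    have hc : IsConj (j a) (j (κ a)) := isConj_iff.2 ⟨c, (e a).symm⟩
    exact ⟨fun h => h.trans hc.symm, fun h => h.trans hc⟩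
  have horb : ∀ c v, (nth uMasks c 0).testBit v = true → (eu v ∈ X ↔ eu (nth uReps c 0) ∈ X) := fun c v h => by
    obtain ⟨κ, hκ, e⟩ := mask_reach h
    rw [← e]; exact hinv κ hκ _
  have hnot1 : (1 : E22) ∉ X := fun h => by
    change IsConj d (j 1) at h
    rw [show j 1 = 1 by simp [j], isConj_one_left] at h
    rw [h, orderOf_one] at hd
    norm_num at hd
  have hclass : ∀ v < 2048, eu v ∈ X → qn v = 1 ∨
      ∃ c < 5, (nth uMasks (c + 1) 0).testBit (qn v) = true ∧ eu (nth uReps (c + 1) 0) ∈ X := by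
    intro v hv h
    have hc := allBelow_spec uCover v hv
    rw [Bool.or_eq_true, List.any_eq_true] at hc
    rcases hc with hc | ⟨c, hc, hb⟩
    · exfalso
      refine hnot1 ?_
      rwa [← eu_qn, Nat.eq_of_beq_eq_true hc, eu_zero] at h
    rw [List.mem_range] at hc
    rcases Nat.eq_zero_or_pos c with rfl | hpos
    · left
      have h1 := allBelow_spec big_ok.2 v hv
      rw [hb] at h1
      simpa using h1
    · obtain ⟨c, rfl⟩ : ∃ i, c = i + 1 := ⟨c - 1, by omega⟩
      exact Or.inr ⟨c, by omega, hb, (horb _ _ hb).1 (by rwa [eu_qn])⟩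
  have hsmall : ∀ c < 5, eu (nth uReps (c + 1) 0) ∈ X → c < 2 := by
    intro c hc h
    by_contra hlt
    obtain ⟨c', rfl⟩ : ∃ k, c = k + 2 := ⟨c - 2, by omega⟩
    obtain ⟨l, hl⟩ : ∃ l, l = (List.range 2048).filter fun v => Nat.beq (qn v) v && (nth uMasks (c' + 3) 0).testBit v :=
      ⟨_, rfl⟩
    have hb : 22 ≤ l.length := hl ▸ Nat.le_of_ble_eq_true (allBelow_spec big_ok.1 c' (by omega))
    have hlnd : l.Nodup := hl ▸ List.nodup_range.filter _
    have hmem : ∀ v ∈ l, v < 2048 ∧ qn v = v ∧ (nth uMasks (c' + 3) 0).testBit v = true := fun v hv => by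
      rw [hl] at hv
      simpa using hv
    have hsub : (fun v => eu v) '' (↑l.toFinset : Set ℕ) ⊆ X \ {eu 1} := by
      rintro _ ⟨v, hv, rfl⟩
      obtain ⟨hv1, hv2, hv3⟩ := hmem v (List.mem_toFinset.1 hv)
      refine ⟨(horb _ _ hv3).2 h, fun e => ?_⟩
      have e' := qn_eq_of_eu hv1 (by norm_num) e
      have h0 : (nth uMasks (c' + 3) 0).testBit (qn 1) = false := by
        have : ∀ k < 3, (nth uMasks (k + 3) 0).testBit (qn 1) = false := by decide +kernel
        exact this c' (by omega)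
      rw [← hv2, e'] at hv3
      rw [h0] at hv3
      exact Bool.noConfusion hv3
    have hn := Set.ncard_le_ncard hsub
    rw [Set.InjOn.ncard_image fun a ha b hb e => by
        obtain ⟨a1, a2, -⟩ := hmem a (List.mem_toFinset.1 ha)
        obtain ⟨b1, b2, -⟩ := hmem b (List.mem_toFinset.1 hb)
        rw [← a2, ← b2]; exact qn_eq_of_eu a1 b1 e,
      Set.ncard_coe_finset, List.toFinset_card_of_nodup hlnd,
      Set.ncard_sdiff_singleton_of_mem hone, hX22] at hn
    omega
  have hno2 : eu (nth uReps 2 0) ∉ X := by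
    intro h2
    obtain ⟨hrel, hfive, hcov, hall⟩ := optTwo_ok
    have hm2 : ∀ v ∈ optTwo, v < 2048 ∧ qn v = v ∧ eu v ∈ X := fun v hv => by
      have hh := List.all_eq_true.1 hall v hv
      rw [Bool.and_eq_true, Nat.beq_eq] at hh
      have hlt : ∀ v ∈ optTwo, v < 2048 := by decide +kernel
      refine ⟨hlt v hv, hh.2, ?_⟩
      have hb := hh.1
      simp only [uMem, show (List.range 5) = [0, 1, 2, 3, 4] from rfl, List.any_cons, List.any_nil,
        show Nat.testBit 2 0 = false from rfl, show Nat.testBit 2 1 = true from rfl,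
        show Nat.testBit 2 2 = false from rfl, show Nat.testBit 2 3 = false from rfl,
        show Nat.testBit 2 4 = false from rfl, Bool.false_and, Bool.true_and, Bool.or_false, Bool.false_or,
        Bool.or_eq_true, hh.2] at hb
      rcases hb with hb | hb
      · rw [(horb 0 v hb), rep_one]; exact hone
      · exact (horb 2 v hb).2 h2
    have hin : ∀ x ∈ [3, 5, 9, 1476, 1483], x ∈ optTwo := by decide +kernel
    obtain ⟨n, hn, hne⟩ := htrans (j (eu 3)) (hjA _) d (by have h := hjA (eu 1); rwa [show j (eu 1) = d from hz _ eu_one] at h)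
      (hm2 3 (hin 3 (by simp))).2.2 (IsConj.refl d)
    have himg : ∀ x ∈ [5, 9, 1476, 1483], ∃ v ∈ optTwo, n * j (eu x) * n⁻¹ = j (eu v) := by
      intro x hx
      obtain ⟨hx1, hx2, hxX⟩ := hm2 x (hin x (by simp only [List.mem_cons] at hx ⊢; tauto))
      have hmem : n * j (eu x) * n⁻¹ ∈ (E22.subgroupOf subA).map ι :=
        (Subgroup.mem_normalizer_iff.1 hn _).1 (hjA _)
      obtain ⟨a, ha, ea⟩ := Subgroup.mem_map.1 hmem
      obtain ⟨v, hv, ev⟩ := eu_surj (⟨a, ha⟩ : E22)
      have e' : n * j (eu x) * n⁻¹ = j (eu v) := by rw [← ea, ev]; rfl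
      have hX' : eu v ∈ X := by
        show IsConj d (j (eu v))
        rw [← e']
        exact (show IsConj d (j (eu x)) from hxX).trans (isConj_iff.2 ⟨n, rfl⟩)
      have hq1 : qn v ≠ 1 := fun e => by
        have e1 : j (eu v) = d := by rw [← eu_qn, e]; exact hz _ eu_one
        rw [e1] at e'
        have hd3 : j (eu x) = j (eu 3) := by
          have := e'.trans hne.symm
          simpa using this
        have := qn_eq_of_eu hx1 (by norm_num) (hj hd3)
        revert this
        simp only [List.mem_cons, List.not_mem_nil, or_false] at hx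
        rcases hx with rfl | rfl | rfl | rfl <;> decide +kernel
      refine ⟨qn v, ?_, by rw [e', eu_qn]⟩
      rcases hclass v hv hX' with h' | ⟨c, hc5, hb, hcX⟩
      · exact absurd h' hq1
      · have hc2 := hsmall c hc5 hcX
        have hu : uMem 2 v = true → qn v ∈ optTwo := fun hu => by
          have hh := allBelow_spec hcov v hv
          rw [hu] at hh
          simp only [Bool.not_true, Bool.false_or, Bool.or_eq_true, Nat.beq_eq, memB_iff] at hh
          exact hh.resolve_left hq1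
        interval_cases c
        · exfalso
          have hsub : (fun v => eu v) '' (↑optTwo.toFinset : Set ℕ) ⊆ X \ {eu 1, eu v} := by
            rintro _ ⟨w, hw, rfl⟩
            obtain ⟨w1, w2, wX⟩ := hm2 w (List.mem_toFinset.1 hw)
            refine ⟨wX, ?_⟩
            rintro (e | e)
            · have := qn_eq_of_eu w1 (by norm_num) e
              rw [w2] at this
              have h1 : ∀ w ∈ optTwo, w ≠ qn 1 := by decide +kernel
              exact h1 w (List.mem_toFinset.1 hw) this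
            · have := qn_eq_of_eu w1 hv e
              rw [w2] at this
              rw [← this] at hb
              have h1 : ∀ w ∈ optTwo, (nth uMasks 1 0).testBit w = false := by decide +kernel
              rw [h1 w (List.mem_toFinset.1 hw)] at hb
              exact Bool.noConfusion hb
          have hv1 : eu 1 ≠ eu v := fun e => hq1 (by
            have := qn_eq_of_eu (by norm_num) hv e
            rw [← this]; decide +kernel)
          have hn' := Set.ncard_le_ncard hsub
          rw [Set.InjOn.ncard_image fun a ha b hb e => by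
              obtain ⟨a1, a2, -⟩ := hm2 a (List.mem_toFinset.1 ha)
              obtain ⟨b1, b2, -⟩ := hm2 b (List.mem_toFinset.1 hb)
              rw [← a2, ← b2]; exact qn_eq_of_eu a1 b1 e,
            Set.ncard_coe_finset, Set.ncard_sdiff (by
              rintro a (rfl | rfl)
              · exact hone
              · exact hX'), Set.ncard_pair hv1, hX22] at hn'
          have h21 : optTwo.toFinset.card = 21 := by decide +kernel
          omega
        · apply hu
          rw [uMem, Bool.or_eq_true, List.any_eq_true]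
          exact Or.inr ⟨1, by simp, by rw [Bool.and_eq_true]; exact ⟨rfl, hb⟩⟩
    choose! f hf hfe using himg
    let φ : E22 →* G := (MulAut.conj n).toMonoidHom.comp (ι.comp (Subgroup.inclusion E22_le))
    have hφ : ∀ a, φ a = n * j a * n⁻¹ := fun a => rfl
    have h1 : eu (3 ^^^ 5 ^^^ 9 ^^^ 1476 ^^^ 1483) = 1 := by
      simp only [zeroB, Bool.or_eq_true, Nat.beq_eq] at hfive
      rcases hfive with h | h <;> rw [h]
      · exact eu_zero
      · exact CfsgLib.USixFusion.pr_z
    have hprod : j (eu (1 ^^^ f 5 ^^^ f 9 ^^^ f 1476 ^^^ f 1483)) = j 1 := by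
      have := congrArg φ h1
      rw [map_one] at this
      simp only [eu_xor, map_mul] at this ⊢
      rw [hφ, hφ, hφ, hφ, hφ, hne, hfe 5 (by simp), hfe 9 (by simp), hfe 1476 (by simp), hfe 1483 (by simp)] at this
      simp only [j, map_mul, map_one]
      rw [hz _ eu_one]
      exact this
    have hz0 := zeroB_of_eu (Nat.xor_lt_two_pow (n := 11) (Nat.xor_lt_two_pow (n := 11) (Nat.xor_lt_two_pow (n := 11)
      (Nat.xor_lt_two_pow (n := 11) (by norm_num) (hm2 _ (hf 5 (by simp))).1) (hm2 _ (hf 9 (by simp))).1)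
      (hm2 _ (hf 1476 (by simp))).1) (hm2 _ (hf 1483 (by simp))).1) (hj hprod)
    have hdist : ∀ x ∈ [5, 9, 1476, 1483], ∀ y ∈ [5, 9, 1476, 1483], f x = f y → x = y := by
      intro x hx y hy e
      have e2 : j (eu x) = j (eu y) := by
        have := (hfe x hx).trans ((congrArg (fun v => j (eu v)) e).trans (hfe y hy).symm)
        simpa using this
      obtain ⟨x1, x2, -⟩ := hm2 x (hin x (by simp only [List.mem_cons] at hx ⊢; tauto))
      obtain ⟨y1, y2, -⟩ := hm2 y (hin y (by simp only [List.mem_cons] at hy ⊢; tauto))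
      rw [← x2, ← y2]
      exact qn_eq_of_eu x1 y1 (hj e2)
    have hsubp : List.Subperm [f 5, f 9, f 1476, f 1483] optTwo := by
      refine List.subperm_of_subset ?_ ?_
      · simp only [List.nodup_cons, List.mem_cons, List.not_mem_nil, or_false, not_or, List.nodup_nil, and_true,
          not_false_eq_true]
        refine ⟨⟨?_, ?_, ?_⟩, ⟨?_, ?_⟩, ?_⟩ <;> intro e <;>
          exact absurd (hdist _ (by simp) _ (by simp) e) (by norm_num)
      · intro x hx
        simp only [List.mem_cons, List.not_mem_nil, or_false] at hx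
        rcases hx with rfl | rfl | rfl | rfl <;> exact hf _ (by simp)
    obtain ⟨s, hperm, hs⟩ := hsubp
    have hfold := noRel_spec 4 optTwo 1 hrel s hs (fun e => by rw [e] at hperm; simpa using hperm.length_eq)
      (le_of_eq hperm.length_eq)
    rw [hperm.foldl_eq (rcomm := ⟨fun a b c => by rw [Nat.xor_assoc, Nat.xor_comm b, ← Nat.xor_assoc]⟩)] at hfold
    simp only [List.foldl_cons, List.foldl_nil] at hfold
    rw [hfold] at hz0
    exact Bool.noConfusion hz0
  intro a
  show a ∈ X ↔ _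
  constructor
  · intro ha
    obtain ⟨v, hv, rfl⟩ := eu_surj a
    rcases hclass v hv ha with h | ⟨c, hc, hb, hcX⟩
    · refine ⟨0, by norm_num, ?_⟩
      rw [← eu_qn, h, tE, tv_zero]
    · have hc2 := hsmall c hc hcX
      interval_cases c
      · have hm : uMem 1 v = true := by
          rw [uMem, Bool.or_eq_true, List.any_eq_true]
          exact Or.inr ⟨0, by simp, by rw [Bool.and_eq_true]; exact ⟨rfl, hb⟩⟩
        have hh := allBelow_spec optOne_ok.2 v hv
        rw [hm, Bool.not_true, Bool.false_or, List.any_eq_true] at hh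
        obtain ⟨i, hi, e⟩ := hh
        refine ⟨i, List.mem_range.1 hi, ?_⟩
        rw [← eu_qn, ← Nat.eq_of_beq_eq_true e, eu_qn]
        rfl
      · exact absurd hcX hno2
  · rintro ⟨i, hi, rfl⟩
    rcases eq_or_ne i 0 with rfl | h0
    · rw [tE, tv_zero]; exact hone
    have h1 : eu (nth uReps 1 0) ∈ X := by
      by_contra hn
      have hsub : X ⊆ {eu 1} := fun b hb => by
        obtain ⟨v, hv, rfl⟩ := eu_surj b
        rcases hclass v hv hb with h | ⟨c, hc, -, hcX⟩
        · rw [Set.mem_singleton_iff, ← eu_qn, h]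
        · have := hsmall c hc hcX
          interval_cases c
          · exact absurd hcX hn
          · exact absurd hcX hno2
      have := Set.ncard_le_ncard hsub
      rw [hX22, Set.ncard_singleton] at this
      omega
    have hh := allBelow_spec optOne_orbit i hi
    rw [Bool.or_eq_true, Nat.beq_eq] at hh
    have := (horb 1 _ (hh.resolve_left h0)).2 h1
    rwa [eu_qn] at this

theorem frame_conj {i : ℕ} (hi : i < 22) : IsConj d (tG ι i) :=
  (frame_conj_all ι hd hC hι hr hz hnwc (tE i)).2 ⟨i, hi, rfl⟩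

theorem frame_mem {x : G} (hx : x ∈ (E22.subgroupOf subA).map ι) (hc : IsConj d x) :
    ∃ i < 22, x = tG ι i := by
  obtain ⟨a, ha, rfl⟩ := Subgroup.mem_map.1 hx
  obtain ⟨i, hi, e⟩ := (frame_conj_all ι hd hC hι hr hz hnwc ⟨a, ha⟩).1 hc
  refine ⟨i, hi, ?_⟩
  show ι a = ι (Subgroup.inclusion E22_le (tE i))
  rw [← e]; rfl

/-- an involution normalising the subgroup commutes with one of the twenty-two -/
theorem exists_fixed {g : G} (hg : g * g = 1)
    (hn : g ∈ Subgroup.normalizer (((E22.subgroupOf subA).map ι : Subgroup G) : Set G)) :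
    ∃ i < 22, Commute g (tG ι i) := by
  classical
  obtain ⟨-, -, -, htrans⟩ := CfsgLib.USixFusion.fusion hd hC ι hι hr hz hnwc _ rfl
  set A := (E22.subgroupOf subA).map ι with hA
  have htA : ∀ i, tG ι i ∈ A := fun i => Subgroup.mem_map_of_mem ι (tE i).2
  have htinj : Function.Injective fun i : Fin 22 => tG ι i := fun i j e =>
    Fin.ext (tE_inj i.2 j.2 (j_inj ι hd hC hι hr hz hnwc e))
  letI : MulAction (Subgroup.normalizer (A : Set G)) G :=
    MulAction.compHom G (MulAut.conj.comp (Subgroup.normalizer (A : Set G)).subtype)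
  have hsmul : ∀ (n : Subgroup.normalizer (A : Set G)) (x : G), n • x = (n : G) * x * (n : G)⁻¹ := fun _ _ => rfl
  have hinv : ∀ (n : Subgroup.normalizer (A : Set G)) (i : Fin 22), ∃ k : Fin 22, n • tG ι i = tG ι k := fun n i => by
    obtain ⟨k, hk, e⟩ := frame_mem ι hd hC hι hr hz hnwc (x := (n : G) * tG ι i * (n : G)⁻¹)
      ((Subgroup.mem_normalizer_iff.1 n.2 _).1 (htA i))
      ((frame_conj ι hd hC hι hr hz hnwc i.2).trans (isConj_iff.2 ⟨n, rfl⟩))
    exact ⟨⟨k, hk⟩, (hsmul n _).trans e⟩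
  let π := indexHom (fun i : Fin 22 => tG ι i) htinj hinv
  have hπ : ∀ n i, tG ι (π n i) = (n : G) * tG ι i * (n : G)⁻¹ := fun n i =>
    indexHom_spec (fun i : Fin 22 => tG ι i) htinj hinv n i
  let ε := Equiv.Perm.sign.comp π
  -- the stabiliser is even
  have hstab : ∀ n, π n 0 = 0 → ε n = 1 := by
    intro n h0
    have hcd : Commute (n : G) d := by
      have h := hπ n 0
      rw [h0, Fin.val_zero, tG_zero ι hz] at h
      exact eq_mul_inv_iff_mul_eq.1 h |>.symm
    obtain ⟨m, hm⟩ : (n : G) ∈ ι.range := by rw [hr]; exact (hC _).2 hcd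
    have hmA : ∀ a : E22, (m : Fi22) * a * (m : Fi22)⁻¹ ∈ E22 := fun a => by
      have h := (Subgroup.mem_normalizer_iff.1 n.2 (ι (Subgroup.inclusion E22_le a))).1
        (Subgroup.mem_map_of_mem ι a.2)
      rw [← hm, ← map_inv, ← map_mul, ← map_mul] at h
      obtain ⟨b, hb, e⟩ := Subgroup.mem_map.1 h
      have := congrArg Subtype.val (hι e)
      exact (show ((m * Subgroup.inclusion E22_le a * m⁻¹ : subA) : Fi22) ∈ E22 from this ▸ hb)
    obtain ⟨κ, hκ, hκe⟩ := K22_mk m.2 hmA
    obtain ⟨σ, hσ, hσe⟩ := K22_frame hκ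
    have : π n = σ := Equiv.ext fun i => htinj (by
      show tG ι (π n i) = tG ι (σ i)
      rw [hπ, ← hm, tG, tG, ← map_inv, ← map_mul, ← map_mul]
      exact congrArg ι (Subtype.ext ((hκe (tE i)).symm.trans (congrArg Subtype.val (hσe i)))))
    show Equiv.Perm.sign (π n) = 1
    rw [this, hσ]
  -- the stabiliser is transitive on the others
  have hCtrans : ∀ i k : Fin 22, i ≠ 0 → k ≠ 0 → ∃ c, π c 0 = 0 ∧ π c i = k := by
    intro i k h1 h2
    obtain ⟨κ, hκ, e⟩ := K22_trans i.2 k.2 (fun h => h1 (Fin.ext h)) (fun h => h2 (Fin.ext h))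
    obtain ⟨c, hc, hce⟩ := K22_conj ι hC hι hr hz hκ
    have hcN : c ∈ Subgroup.normalizer (A : Set G) := by
      rw [Subgroup.mem_normalizer_iff_map_conj_eq]
      refine Subgroup.eq_of_le_of_card_ge ?_ (le_of_eq ?_)
      · rintro - ⟨x, hx, rfl⟩
        obtain ⟨a, ha, rfl⟩ := Subgroup.mem_map.1 hx
        exact ⟨_, (κ ⟨a, ha⟩).2, hce ⟨a, ha⟩⟩
      · exact Nat.card_congr (A.equivMapOfInjective _ (MulAut.conj c).injective).toEquiv
    refine ⟨⟨c, hcN⟩, htinj ?_, htinj ?_⟩
    · show tG ι (π ⟨c, hcN⟩ 0) = tG ι (0 : Fin 22)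
      rw [hπ, Fin.val_zero, tG_zero ι hz]
      exact mul_inv_eq_iff_eq_mul.2 ((hC c).1 hc).eq
    · show tG ι (π ⟨c, hcN⟩ i) = tG ι k
      rw [hπ, tG, tG, tA, tA, ← hce, e]
  have heven : ∀ n, ε n = 1 := by
    by_contra! hex
    obtain ⟨g₀, hg₀⟩ := hex
    have hunit : ∀ n, ε n = 1 ∨ ε n = -1 := fun n => Int.units_eq_one_or _
    have hm0 : π g₀ 0 ≠ 0 := fun e => hg₀ (hstab _ e)
    have hreach : ∀ k : Fin 22, k ≠ 0 → ∃ n, ε n = -1 ∧ π n 0 = k := fun k hk => by
      obtain ⟨c, hc0, hcm⟩ := hCtrans _ k hm0 hk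
      refine ⟨c * g₀, ?_, by rw [map_mul, Equiv.Perm.mul_apply, hcm]⟩
      rw [map_mul, hstab c hc0, one_mul]
      exact (hunit _).resolve_left hg₀
    have hfix : ∀ n, ε n = 1 → π n 0 = 0 := fun n hn1 => by
      by_contra hne
      obtain ⟨m, hm, e⟩ := hreach _ hne
      have := hstab (n⁻¹ * m) (by rw [map_mul, map_inv, Equiv.Perm.mul_apply, e]; exact (π n).symm_apply_apply 0)
      rw [map_mul, map_inv, hn1, hm] at this
      revert this; decide
    obtain ⟨a, ha, ea⟩ := hreach 1 (by decide)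
    obtain ⟨b, hb, eb⟩ := hreach 2 (by decide)
    have h := hfix (a⁻¹ * b) (by rw [map_mul, map_inv, ha, hb]; decide)
    rw [map_mul, map_inv, Equiv.Perm.mul_apply, eb, Equiv.Perm.inv_eq_iff_eq, ea] at h
    revert h; decide
  obtain ⟨i, hi⟩ := sign_fixed (σ := π ⟨g, hn⟩) (by
    rw [← map_mul, show (⟨g, hn⟩ : Subgroup.normalizer (A : Set G)) * ⟨g, hn⟩ = 1 from Subtype.ext hg, map_one])
    (heven _)
  refine ⟨i, i.2, ?_⟩
  have h := hπ ⟨g, hn⟩ i
  rw [hi] at h
  exact (eq_mul_inv_iff_mul_eq.1 h).symm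

end

end CfsgLib.M22Recog
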