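import Cfsg.Agent.Lib.M22Recog.Local

/-!
Pairwise commuting members of the class and the involutions permuting them.
-/

set_option autoImplicit false
set_option linter.unusedSectionVars false

namespace CfsgLib.M22Recog

open Cfsg.Spor
open CfsgLib.Fi22Fusion (elem_map elem_comap)
open CfsgLib.TypeM22 (Pts)
open CfsgLib.ThreeTransp.Relations (nbr)
open CfsgLib.Fi22Pres (subA)

variable {G : Type*} [Group G] [Finite G] {D : Set G}

/-- a class of involutions each of whose centralizers is identified -/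
structure Hyp (D : Set G) : Prop where
  sq : ∀ x ∈ D, x * x = 1
  ne_one : ∀ x ∈ D, x ≠ 1
  conj : ∀ g : G, ∀ x ∈ D, g * x * g⁻¹ ∈ D
  loc : ∀ x ∈ D, ∃ ι : subA →* G, Loc D x ι

/-- the centralizer of a set -/
abbrev cen (Δ : Set G) : Subgroup G := Subgroup.centralizer Δ

theorem exists_sylow_fixed {C : Subgroup G} (a : MulAut C) (ha : a * a = 1) : ∃ P : Sylow 2 C, a • P = P := by
  classical
  haveI : Fact (Nat.Prime 2) := ⟨Nat.prime_two⟩
  by_contra! hne
  have : Fintype (Sylow 2 C) := Fintype.ofFinite _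
  let σ : Equiv.Perm (Sylow 2 C) := MulAction.toPerm a
  have hσ : ∀ P, σ (σ P) = P := fun P => by
    show a • a • P = P
    rw [smul_smul, ha, one_smul]
  have heven : Even (Fintype.card (Sylow 2 C)) := by
    have h2 := Equiv.Perm.sum_cycleType σ
    have hsup : σ.support = Finset.univ := Finset.eq_univ_of_forall fun P => Equiv.Perm.mem_support.2 (hne P)
    have hsq : σ ^ 2 = 1 := Equiv.ext fun P => by rw [pow_two]; exact hσ P
    rw [hsup, Finset.card_univ] at h2
    rw [← h2]
    refine Nat.even_iff.2 (Nat.mod_eq_zero_of_dvd (Multiset.dvd_sum fun n hn => ?_))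
    have := (Equiv.Perm.dvd_of_mem_cycleType hn).trans (orderOf_dvd_of_pow_eq_one hsq)
    have h2' := Equiv.Perm.two_le_of_mem_cycleType hn
    have := Nat.le_of_dvd (by norm_num) this
    rw [show n = 2 by omega]
  have hodd := not_dvd_card_sylow (p := 2) (G := C)
  rw [Nat.card_eq_fintype_card] at hodd
  exact hodd (even_iff_two_dvd.1 heven)

namespace Hyp

variable (H : Hyp D)
include H

theorem inv {x : G} (hx : x ∈ D) : x⁻¹ = x := inv_eq_of_mul_eq_one_right (H.sq x hx)

theorem exists_pts {x : G} (hx : x ∈ D) : ∃ φ, Pts D x φ := by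
  obtain ⟨ι, L⟩ := H.loc x hx
  exact L.exists_pts H.conj H.sq

theorem three {x a b : G} (hx : x ∈ D) (ha : a ∈ D) (hb : b ∈ D) (hax : Commute a x) (hbx : Commute b x) :
    Commute a b ∨ (a * b) ^ 3 = 1 := by
  obtain ⟨ι, L⟩ := H.loc x hx
  exact L.three H.conj H.sq ha hb hax hbx

theorem commute_of_perm {a b : G} (ha : a ∈ D) (hb : b ∈ D) (h : (a * b) ^ 2 = 1) : Commute a b := by
  have := inv_eq_of_mul_eq_one_right (show a * b * (a * b) = 1 by rw [← pow_two]; exact h)
  rw [mul_inv_rev, H.inv ha, H.inv hb] at this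
  exact this.symm

/-- two members in a 2-group centralising a member commute -/
theorem commute_two {x a b : G} (hx : x ∈ D) (ha : a ∈ D) (hb : b ∈ D) (hax : Commute a x) (hbx : Commute b x)
    {P : Subgroup G} (hP : IsPGroup 2 P) (haP : a ∈ P) (hbP : b ∈ P) : Commute a b := by
  rcases H.three hx ha hb hax hbx with h | h
  · exact h
  obtain ⟨k, hk⟩ := hP ⟨a * b, mul_mem haP hbP⟩
  replace hk : (a * b) ^ 2 ^ k = 1 := congrArg Subtype.val hk
  have hco : (2 ^ k).Coprime 3 := Nat.Coprime.pow_left k (by norm_num)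
  have : a * b = 1 := by
    have := Nat.dvd_gcd (orderOf_dvd_of_pow_eq_one hk) (orderOf_dvd_of_pow_eq_one h)
    rw [hco.gcd_eq_one, Nat.dvd_one, orderOf_eq_one_iff] at this
    exact this
  rw [mul_eq_one_iff_eq_inv, H.inv hb] at this
  exact this ▸ Commute.refl _

/-- pairwise commuting members lie in a frame -/
theorem exists_frame {Δ : Set G} (hΔD : Δ ⊆ D) (hc : ∀ a ∈ Δ, ∀ b ∈ Δ, Commute a b) {x : G} (hxΔ : x ∈ Δ) :
    ∃ ι, Loc D x ι ∧ ∀ y ∈ Δ, ∃ i < 22, y = tG ι i := by
  classical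
  haveI : Fact (Nat.Prime 2) := ⟨Nat.prime_two⟩
  have hx := hΔD hxΔ
  obtain ⟨ι, L⟩ := H.loc x hx
  -- the group generated
  haveI hcomm := Subgroup.isMulCommutative_closure (k := Δ) fun a ha b hb => (hc a ha b hb).eq
  have hP : IsPGroup 2 (Subgroup.closure Δ) := by
    intro g
    refine ⟨1, ?_⟩
    obtain ⟨g, hg⟩ := g
    refine Subtype.ext ?_
    show g ^ 2 ^ 1 = 1
    rw [pow_one]
    induction hg using Subgroup.closure_induction with
    | mem y hy => rw [pow_two, H.sq y (hΔD hy)]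
    | one => rw [one_pow]
    | mul a b ha hb iha ihb =>
      have hab : Commute a b := congrArg Subtype.val
        (hcomm.is_comm.comm (⟨a, ha⟩ : Subgroup.closure Δ) ⟨b, hb⟩)
      rw [hab.mul_pow, iha, ihb, one_mul]
    | inv a _ iha => rw [inv_pow, iha, inv_one]
  have hPC : Subgroup.closure Δ ≤ ι.range :=
    (Subgroup.closure_le _).2 fun y hy => (L.range y).2 (hc y hy x hxΔ)
  obtain ⟨S, hS⟩ := (hP.comap_of_injective ι.range.subtype ι.range.subtype_injective).exists_le_sylow
  obtain ⟨T, hT⟩ := ((frameGrp_pgroup L.inj).comap_of_injective ι.range.subtype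
    ι.range.subtype_injective).exists_le_sylow
  obtain ⟨c, hc'⟩ := MulAction.exists_smul_eq ι.range T S
  have L' := L.map H.conj (c : G)
  rw [show (c : G) * x * (c : G)⁻¹ = x by rw [((L.range _).1 c.2).eq, mul_inv_cancel_right]] at L'
  refine ⟨_, L', fun y hy => L'.mem_frame H.sq (hΔD hy) (hc y hy x hxΔ) fun i hi => ?_⟩
  have hyS : y ∈ (S : Subgroup ι.range).map ι.range.subtype :=
    ⟨⟨y, hPC (Subgroup.subset_closure hy)⟩, hS (Subgroup.subset_closure hy), rfl⟩
  have htS : tG ((MulAut.conj (c : G)).toMonoidHom.comp ι) i ∈ (S : Subgroup ι.range).map ι.range.subtype := by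
    rw [← hc']
    exact ⟨c * ⟨tG ι i, L.frame_le (tG_mem ι i)⟩ * c⁻¹,
      Subgroup.mem_map_of_mem (MulAut.conj c).toMonoidHom (hT (tG_mem ι i)), rfl⟩
  exact H.commute_two hx (hΔD hy) (L'.frame i hi) (hc y hy x hxΔ)
    ((L'.range _).1 ⟨_, rfl⟩) (S.2.map _) hyS htS

/-- a relation among at most five commuting members is trivial -/
theorem short {l : List G} (hn : l.Nodup) (hD : ∀ y ∈ l, y ∈ D) (hc : ∀ a ∈ l, ∀ b ∈ l, Commute a b)
    (h0 : l ≠ []) (h5 : l.length ≤ 5) : l.prod ≠ 1 := by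
  classical
  obtain ⟨x, hx⟩ := List.exists_mem_of_ne_nil _ h0
  obtain ⟨ι, L, hall⟩ := H.exists_frame (Δ := {y | y ∈ l}) hD hc hx
  choose! f hf hfe using hall
  have e : (l.map f).map (tG ι) = l := by
    rw [List.map_map]
    exact (List.map_congr_left fun y hy => (hfe y hy).symm).trans (List.map_id _)
  have hnd : (l.map f).Nodup := List.Nodup.of_map (tG ι) (e.symm ▸ hn)
  have := L.frame_prod_ne hnd (fun i hi => by
    obtain ⟨y, hy, rfl⟩ := List.mem_map.1 hi
    exact hf y hy) (by simpa using h0) (by simpa using h5)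
  rwa [e] at this

theorem three_ne {a b c : G} (ha : a ∈ D) (hb : b ∈ D) (hc : c ∈ D) (hab : Commute a b) (hac : Commute a c)
    (hbc : Commute b c) (nab : a ≠ b) (nac : a ≠ c) (nbc : b ≠ c) : a * b ≠ c := fun e =>
  H.short (l := [a, b, c]) (by simp [nab, nac, nbc]) (by simp [ha, hb, hc])
    (by simp [hab, hac, hbc, hab.symm, hac.symm, hbc.symm]) (by simp) (by simp)
    (by simp [← mul_assoc, e, H.sq c hc])

theorem four_ne {a b c e : G} (ha : a ∈ D) (hb : b ∈ D) (hc : c ∈ D) (he : e ∈ D) (hab : Commute a b)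
    (hac : Commute a c) (hae : Commute a e) (hbc : Commute b c) (hbe : Commute b e) (hce : Commute c e)
    (nab : a ≠ b) (nac : a ≠ c) (nae : a ≠ e) (nbc : b ≠ c) (nbe : b ≠ e) (nce : c ≠ e) : a * b ≠ c * e := by
  intro h
  refine H.short (l := [a, b, e, c]) (by simp [nab, nac, nae, nbc, nbe, nce.symm]) (by simp [ha, hb, hc, he])
    (by simp [hab, hac, hae, hbc, hbe, hce, hab.symm, hac.symm, hae.symm, hbc.symm, hbe.symm, hce.symm])
    (by simp) (by simp) ?_
  simp only [List.prod_cons, List.prod_nil, mul_one]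
  rw [← mul_assoc, h, mul_assoc, ← mul_assoc e e, H.sq e he, one_mul, H.sq c hc]

/-- an involution permuting commuting members centralises a member commuting with all of them -/
theorem exists_fixed {Δ : Set G} (hΔD : Δ ⊆ D) (hc : ∀ a ∈ Δ, ∀ b ∈ Δ, Commute a b) (hne : Δ.Nonempty)
    {g : G} (hg : g * g = 1) (hgΔ : ∀ a ∈ Δ, g * a * g ∈ Δ) :
    ∃ z ∈ D, Commute g z ∧ ∀ a ∈ Δ, Commute a z := by
  classical
  haveI : Fact (Nat.Prime 2) := ⟨Nat.prime_two⟩
  obtain ⟨x, hxΔ⟩ := hne
  obtain ⟨ι, L, hall⟩ := H.exists_frame hΔD hc hxΔ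
  have hginv : g⁻¹ = g := inv_eq_of_mul_eq_one_right hg
  let C := cen Δ
  have hC : ∀ {c}, c ∈ C ↔ ∀ a ∈ Δ, Commute a c := fun {c} => Subgroup.mem_centralizer_iff
  have hgC : ∀ c ∈ C, g * c * g ∈ C := fun c hc' => hC.2 fun a ha => by
    have := ((hC.1 hc') _ (hgΔ a ha)).map (MulAut.conj g)
    simp only [MulAut.conj_apply, hginv] at this
    rwa [show g * (g * a * g) * g = g * g * a * (g * g) by group, hg, one_mul, mul_one] at this
  have hmap : C.map (MulAut.conj g).toMonoidHom = C := by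
    refine le_antisymm ?_ fun c hc' => ⟨g * c * g, hgC c hc', ?_⟩
    · rintro - ⟨c, hc', rfl⟩
      show g * c * g⁻¹ ∈ C
      rw [hginv]; exact hgC c hc'
    · show g * (g * c * g) * g⁻¹ = c
      rw [hginv, show g * (g * c * g) * g = g * g * c * (g * g) by group, hg, one_mul, mul_one]
  let a : MulAut C := (C.equivMapOfInjective (MulAut.conj g).toMonoidHom (MulAut.conj g).injective).trans
    (MulEquiv.subgroupCongr hmap)
  have ha : ∀ c : C, (a c : G) = g * c * g := fun c => by
    show g * (c : G) * g⁻¹ = _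
    rw [hginv]
  have ha2 : a * a = 1 := MulEquiv.ext fun c => Subtype.ext (by
    show ((a (a c) : C) : G) = c
    rw [ha, ha, show g * (g * (c : G) * g) * g = g * g * c * (g * g) by group, hg, one_mul, mul_one])
  obtain ⟨P, hP⟩ := exists_sylow_fixed a ha2
  -- move the frame into the fixed Sylow subgroup
  have hAC : frameGrp ι ≤ C := fun b hb => hC.2 fun y hy => by
    obtain ⟨i, hi, rfl⟩ := hall y hy
    exact frameGrp_comm (tG_mem ι i) hb
  obtain ⟨T, hT⟩ := ((frameGrp_pgroup L.inj).comap_of_injective C.subtype C.subtype_injective).exists_le_sylow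
  obtain ⟨c, hc'⟩ := MulAction.exists_smul_eq C T P
  have L' := L.map H.conj (c : G)
  have hcy : ∀ y ∈ Δ, (c : G) * y * (c : G)⁻¹ = y := fun y hy => by
    rw [← ((hC.1 c.2) y hy).eq, mul_inv_cancel_right]
  rw [hcy x hxΔ] at L'
  set κ := (MulAut.conj (c : G)).toMonoidHom.comp ι
  let S := (P : Subgroup C).map C.subtype
  have hAS : frameGrp κ ≤ S := frameGrp_le fun i _ => by
    show _ ∈ (P : Subgroup C).map C.subtype
    rw [← hc']
    exact ⟨c * ⟨tG ι i, hAC (tG_mem ι i)⟩ * c⁻¹,
      Subgroup.mem_map_of_mem (MulAut.conj c).toMonoidHom (hT (tG_mem ι i)), rfl⟩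
  have hSg : ∀ b ∈ S, g * b * g ∈ S := by
    rintro - ⟨b, hb, rfl⟩
    refine ⟨a b, ?_, ha b⟩
    rw [← hP]
    exact Subgroup.mem_map_of_mem _ hb
  have hSr : S ≤ κ.range := by
    rintro - ⟨b, hb, rfl⟩
    exact (L'.range _).2 (((hC.1 b.2) x hxΔ).symm)
  have himg : (frameGrp κ).map (MulAut.conj g).toMonoidHom ≤ S := by
    rintro - ⟨b, hb, rfl⟩
    show g * b * g⁻¹ ∈ S
    rw [hginv]; exact hSg b (hAS hb)
  obtain ⟨-, h2⟩ := CfsgLib.USixFusion.max_in κ L'.inj (P.2.map C.subtype) hSr himg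
    (elem_map _ (frameGrp_elem κ)) hAS (frameGrp_elem κ)
  have heq := h2 ((Nat.card_congr ((frameGrp κ).equivMapOfInjective _ (MulAut.conj g).injective).toEquiv).symm.trans
    (frameGrp_card L'.inj)) (frameGrp_card L'.inj)
  obtain ⟨i, hi, hgi⟩ := L'.fixed g hg (Subgroup.mem_normalizer_iff_map_conj_eq.2 heq)
  refine ⟨_, L'.frame i hi, hgi, fun y hy => ?_⟩
  obtain ⟨j, -, e⟩ := hall y hy
  have : y = tG κ j := by
    show y = (c : G) * tG ι j * (c : G)⁻¹
    rw [← e, hcy y hy]
  rw [this]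
  exact frameGrp_comm (tG_mem κ j) (tG_mem κ i)

/-- no member exchanges two commuting ones -/
theorem no_exchange {x y : G} (hx : x ∈ D) (hy : y ∈ D) (hc : Commute x (y * x * y)) : Commute x y := by
  by_contra hne
  have hyy := H.sq y hy
  have hx' : y * x * y ∈ D := by
    have := H.conj y x hx
    rwa [H.inv hy] at this
  obtain ⟨z, hz, hyz, hΔ⟩ := H.exists_fixed (Δ := {x, y * x * y})
    (by rintro a (rfl | rfl) <;> assumption)
    (by rintro a (rfl | rfl) b (rfl | rfl) <;> first | exact Commute.refl _ | exact hc | exact hc.symm)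
    ⟨x, Or.inl rfl⟩ hyy (by
      rintro a (rfl | rfl)
      · exact Or.inr rfl
      · left
        rw [show y * (y * x * y) * y = y * y * x * (y * y) by group, hyy, one_mul, mul_one])
  rcases H.three hz hx hy (hΔ x (Or.inl rfl)) hyz with h | h
  · exact hne h
  have e1 : (x * y) ^ 4 = 1 := by
    have h2 : x * (y * x * y) * (x * (y * x * y)) = 1 := by
      nth_rw 2 [hc.eq]
      rw [show x * (y * x * y) * (y * x * y * x) = x * (y * x * (y * y) * x * y) * x by group, hyy, mul_one,
        mul_assoc y x, H.sq x hx, mul_one, hyy, mul_one, H.sq x hx]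
    rw [show (x * y) ^ 4 = x * (y * x * y) * (x * (y * x * y)) by simp [pow_succ, mul_assoc]]
    exact h2
  rw [pow_succ, h, one_mul] at e1
  rw [mul_eq_one_iff_eq_inv, H.inv hy] at e1
  exact hne (e1 ▸ Commute.refl _)

/-- members whose product has 2-power order commute -/
theorem commute_pow_two : ∀ (k : ℕ) {x y : G}, x ∈ D → y ∈ D → (x * y) ^ 2 ^ k = 1 → Commute x y := by
  intro k
  induction k with
  | zero =>
    intro x y hx hy h
    exact H.commute_of_perm hx hy (by rw [pow_two]; simp only [pow_zero, pow_one] at h; rw [h, one_mul])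
  | succ k ih =>
    intro x y hx hy h
    have hx' : y * x * y ∈ D := by
      have := H.conj y x hx
      rwa [H.inv hy] at this
    refine H.no_exchange hx hy (ih hx hx' ?_)
    rw [show x * (y * x * y) = (x * y) ^ 2 by rw [pow_two]; group, ← pow_mul, ← pow_succ', h]

end Hyp

end CfsgLib.M22Recog
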