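import Cfsg.Agent.Lib.M22Recog.FrameGroup
import Cfsg.Agent.Lib.TypeM22.Facts
import Cfsg.Agent.Lib.TypeM22.Classes

/-!
A member of a class whose centralizer is identified with the centralizer of a transposition of Fi22.
-/

set_option autoImplicit false
set_option linter.unusedSectionVars false
set_option maxRecDepth 10000

namespace CfsgLib.M22Recog

open Cfsg.Spor
open CfsgLib.ThreeTransp CfsgLib.ThreeTransp.Relations CfsgLib.TypeM22
open CfsgLib.CosetEnum (prodW)
open CfsgLib.Fi22Fusion (elem_map elem_comap)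
open CfsgLib.USixFusion (E22 E22_le E22_elem E22_card E22_comm invol_into exists_pts22)
open CfsgLib.Fi22USix (transClass transClass_three comm_central)
open CfsgLib.Fi22Pres (gen subA)

variable {G : Type*} [Group G] [Finite G] {D : Set G}

/-- the subgroup of order 2^10 -/
noncomputable def frameGrp (ι : subA →* G) : Subgroup G := (E22.subgroupOf subA).map ι

/-- an identification of the centralizer of a member -/
structure Loc (D : Set G) (x : G) (ι : subA →* G) : Prop where
  inj : Function.Injective ι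
  range : ∀ c, c ∈ ι.range ↔ Commute c x
  zero : ∀ y : subA, (y : Fi22) = gen 0 → ι y = x
  frame : ∀ i < 22, tG ι i ∈ D
  frame_mem : ∀ y ∈ frameGrp ι, y ∈ D → ∃ i < 22, y = tG ι i
  fixed : ∀ g : G, g * g = 1 → g ∈ Subgroup.normalizer (frameGrp ι : Set G) → ∃ i < 22, Commute g (tG ι i)

theorem tA_zero : (tA 0 : Fi22) = gen 0 := tE_zero

theorem tG_mem (ι : subA →* G) (i : ℕ) : tG ι i ∈ frameGrp ι := Subgroup.mem_map_of_mem ι (tE i).2

theorem frameGrp_elem (ι : subA →* G) : Cfsg.IsElementaryAbelian 2 (frameGrp ι) :=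
  elem_map ι (elem_comap subA.subtype_injective E22_elem)

theorem frameGrp_card {ι : subA →* G} (hι : Function.Injective ι) : Nat.card (frameGrp ι) = 1024 := by
  rw [frameGrp, ← Nat.card_congr ((E22.subgroupOf subA).equivMapOfInjective ι hι).toEquiv,
    Nat.card_congr (Subgroup.subgroupOfEquivOfLe E22_le).toEquiv, E22_card]

theorem frameGrp_comm {ι : subA →* G} {a b : G} (ha : a ∈ frameGrp ι) (hb : b ∈ frameGrp ι) : Commute a b :=
  congrArg Subtype.val ((frameGrp_elem ι).1.is_comm.comm (⟨a, ha⟩ : frameGrp ι) ⟨b, hb⟩)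

theorem frameGrp_pgroup {ι : subA →* G} (hι : Function.Injective ι) : IsPGroup 2 (frameGrp ι) :=
  IsPGroup.of_card (n := 10) ((frameGrp_card hι).trans (by norm_num))

/-- the frame generates -/
theorem frameGrp_le {ι : subA →* G} {H : Subgroup G} (h : ∀ i < 22, tG ι i ∈ H) : frameGrp ι ≤ H := by
  rintro - ⟨a, ha, rfl⟩
  obtain ⟨l, -, hl, -, e⟩ := exists_decomp ⟨a, ha⟩
  have : a = ((l.map tE).map (Subgroup.inclusion E22_le)).prod := by
    rw [List.map_map, ← List.map_map, ← map_list_prod, ← e]; rfl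
  rw [this, map_list_prod, List.map_map, List.map_map]
  exact list_prod_mem fun z hz => by
    obtain ⟨i, hi, rfl⟩ := List.mem_map.1 hz
    exact h i (hl i hi)

theorem tG_prod (ι : subA →* G) (l : List ℕ) :
    (l.map (tG ι)).prod = ι (Subgroup.inclusion E22_le (l.map tE).prod) := by
  rw [map_list_prod, map_list_prod, List.map_map, List.map_map]
  rfl

theorem class22_inv {x : Fi22} (hx : x ∈ transClass) : x * x = 1 :=
  mul_self_eq_one transClass_three.1 hx

theorem class22_conj' (g : Fi22) {x : Fi22} (hx : x ∈ transClass) : g * x * g⁻¹ ∈ transClass :=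
  class22_conj g hx

theorem point_conj {a : Fi22} {φ : ℕ → Fi22} (P : Pts transClass a φ) {i : ℕ} (hi : i < 693) :
    ∃ w, (∀ m ∈ w, m < 693) ∧ prodW φ w * φ i * (prodW φ w)⁻¹ = φ 0 := by
  have h0 : leaves (pathTree.take 1) [[]] = [[0]] ∧ treeChk (pathTree.take 1) [[]] = true := by decide +kernel
  obtain ⟨w, hw, hmem⟩ := norm (pre := []) h0.2 (List.mem_singleton_self _) (vs := [i]) (by simp [hi])
    (by simp [fits, fitB, show (pathTree.take 1).map Prod.fst = [[]] by decide +kernel])
  rw [h0.1, List.mem_singleton] at hmem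
  simp only [List.nil_append, List.map_cons, List.map_nil, List.cons.injEq, and_true] at hmem
  exact ⟨w, hw, by rw [← P.conj_act hw hi, hmem]⟩

namespace Loc

variable {x : G} {ι : subA →* G} (L : Loc D x ι)
include L

theorem map (hD : ∀ g : G, ∀ y ∈ D, g * y * g⁻¹ ∈ D) (g : G) :
    Loc D (g * x * g⁻¹) ((MulAut.conj g).toMonoidHom.comp ι) := by
  have hA : frameGrp ((MulAut.conj g).toMonoidHom.comp ι) = (frameGrp ι).map (MulAut.conj g).toMonoidHom := by
    rw [frameGrp, frameGrp, Subgroup.map_map]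
  refine ⟨(MulAut.conj g).injective.comp L.inj, fun c => ?_, fun y hy => ?_, fun i hi => hD g _ (L.frame i hi),
    fun y hy hyD => ?_, fun u hu hn => ?_⟩
  · rw [MonoidHom.range_comp, Subgroup.mem_map_equiv, L.range]
    refine ⟨fun h => ?_, fun h => ?_⟩
    · have := h.map (MulAut.conj g)
      simpa [mul_assoc] using this
    · have := h.map (MulAut.conj g).symm
      simpa [mul_assoc] using this
  · show g * ι y * g⁻¹ = _
    rw [L.zero y hy]
  · rw [hA, Subgroup.mem_map_equiv] at hy
    obtain ⟨i, hi, e⟩ := L.frame_mem _ hy (by simpa using hD g⁻¹ y hyD)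
    refine ⟨i, hi, ?_⟩
    show y = g * tG ι i * g⁻¹
    rw [← e]
    exact ((MulAut.conj g).apply_symm_apply y).symm
  · obtain ⟨i, hi, hc⟩ := L.fixed (g⁻¹ * u * g)
      (by rw [show g⁻¹ * u * g * (g⁻¹ * u * g) = g⁻¹ * (u * u) * g by group, hu]; group) (by
        rw [Subgroup.mem_normalizer_iff] at hn ⊢
        intro a
        have := hn (g * a * g⁻¹)
        rw [hA, Subgroup.mem_map_equiv, Subgroup.mem_map_equiv] at this
        simpa [mul_assoc] using this)
    refine ⟨i, hi, ?_⟩
    have := hc.map (MulAut.conj g)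
    simpa [tG, mul_assoc] using this

theorem frame_zero : tG ι 0 = x := L.zero _ tA_zero

theorem commute_x {c : G} (h : c ∈ ι.range) : Commute c x := (L.range c).1 h

theorem frame_inj {i j : ℕ} (hi : i < 22) (hj : j < 22) (h : tG ι i = tG ι j) : i = j :=
  tE_inj hi hj (Subgroup.inclusion_injective _ (L.inj h))

theorem frame_prod_ne {l : List ℕ} (hn : l.Nodup) (hl : ∀ i ∈ l, i < 22) (h0 : l ≠ []) (h5 : l.length ≤ 5) :
    (l.map (tG ι)).prod ≠ 1 := fun h => short hn hl h0 h5 (Subgroup.inclusion_injective _ (L.inj (by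
    rw [map_one, map_one, ← tG_prod]; exact h)))

theorem frame_le : frameGrp ι ≤ ι.range := by
  rintro - ⟨a, -, rfl⟩; exact ⟨a, rfl⟩

theorem sq_one (hD : ∀ g : G, ∀ y ∈ D, g * y * g⁻¹ ∈ D) {u : subA} (h : (u : Fi22) ∈ transClass) :
    ι u * ι u = 1 := by
  rw [← map_mul, show u * u = 1 from Subtype.ext (class22_inv h), map_one]

/-- the members commuting with `x` -/
theorem perp_iff (hD : ∀ g : G, ∀ y ∈ D, g * y * g⁻¹ ∈ D) (hsq : ∀ y ∈ D, y * y = 1) {y : G} :
    y ∈ nbr D x ↔ ∃ u : subA, (u : Fi22) ∈ nbr transClass (gen 0) ∧ ι u = y := by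
  obtain ⟨φ, -, P, -, -⟩ := exists_pts22
  have hsub : ∀ {i}, i < 693 → φ i ∈ subA := fun hi =>
    perp22_le (Subgroup.subset_closure (P.mem hi))
  have hW : ∀ {w : List ℕ}, (∀ m ∈ w, m < 693) → prodW φ w ∈ subA := fun {w} hw => by
    induction w with
    | nil => exact one_mem _
    | cons m w ih =>
      rw [CfsgLib.CosetEnum.prodW_cons]
      exact mul_mem (hsub (hw m (List.mem_cons_self ..))) (ih fun n hn => hw n (List.mem_cons_of_mem _ hn))
  constructor
  · rintro ⟨hyD, hyx, hc⟩
    obtain ⟨u, rfl⟩ := (L.range y).2 hc.symm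
    refine ⟨u, ?_, rfl⟩
    obtain ⟨g, hg⟩ := invol_into (x := u) (L.inj (by rw [map_mul, map_one]; exact hsq _ hyD))
    have hm : ι (g * u * g⁻¹) ∈ frameGrp ι := Subgroup.mem_map_of_mem ι hg
    have hmD : ι (g * u * g⁻¹) ∈ D := by rw [map_mul, map_mul, map_inv]; exact hD _ _ hyD
    obtain ⟨i, hi, e⟩ := L.frame_mem _ hm hmD
    have e' : g * u * g⁻¹ = tA i := L.inj e
    rcases eq_or_ne i 0 with rfl | h0
    · exfalso
      refine hyx (L.zero u ?_)
      have hg0 : Commute (g : Fi22) (gen 0) := comm_central _ g.2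
      rw [show u = g⁻¹ * tA 0 * g by rw [← e']; group, Subgroup.coe_mul, Subgroup.coe_mul, Subgroup.coe_inv,
        tA_zero, mul_assoc, ← hg0.eq, inv_mul_cancel_left]
    · rw [show u = g⁻¹ * tA i * g by rw [← e']; group]
      have := conj_mem_nbr (fun a b hb => class22_conj a hb)
        (g := ((g⁻¹ : subA) : Fi22)) (comm_central _ (g⁻¹).2) (tE_nbr hi h0)
      simpa [tA] using this
  · rintro ⟨u, hu, rfl⟩
    have h1 := tE_nbr (i := 1) (by norm_num) (by norm_num)
    obtain ⟨p, hp, ep⟩ := P.surj hu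
    obtain ⟨q, hq, eq⟩ := P.surj h1
    obtain ⟨w, hw, ew⟩ := point_conj P hp
    obtain ⟨v, hv, ev⟩ := point_conj P hq
    obtain ⟨c, hc⟩ : ∃ c : subA, (c : Fi22) = (prodW φ w)⁻¹ * prodW φ v :=
      ⟨⟨_, mul_mem (inv_mem (hW hw)) (hW hv)⟩, rfl⟩
    have e : u = c * tA 1 * c⁻¹ := Subtype.ext (by
      rw [Subgroup.coe_mul, Subgroup.coe_mul, Subgroup.coe_inv, hc, show (tA 1 : Fi22) = φ q from eq.symm, ← ep]
      have h := ew.trans ev.symm
      rw [show (prodW φ w)⁻¹ * prodW φ v * φ q * ((prodW φ w)⁻¹ * prodW φ v)⁻¹ =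
        (prodW φ w)⁻¹ * (prodW φ v * φ q * (prodW φ v)⁻¹) * prodW φ w by group, ← h]
      group)
    refine ⟨?_, fun h => hu.2.1 ?_, ((L.range _).1 ⟨u, rfl⟩).symm⟩
    · rw [e, map_mul, map_mul, map_inv]
      exact hD _ _ (L.frame 1 (by norm_num))
    · rw [← tA_zero]
      exact congrArg Subtype.val (L.inj (h.trans L.frame_zero.symm))

/-- the members commuting with `x` are numbered by the points -/
theorem exists_pts (hD : ∀ g : G, ∀ y ∈ D, g * y * g⁻¹ ∈ D) (hsq : ∀ y ∈ D, y * y = 1) :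
    ∃ φ, Pts D x φ := by
  obtain ⟨φ, -, P, -, -⟩ := exists_pts22
  have hsub : ∀ {i}, i < 693 → φ i ∈ subA := fun hi =>
    perp22_le (Subgroup.subset_closure (P.mem hi))
  refine ⟨fun i => if h : i < 693 then ι ⟨φ i, hsub h⟩ else 1, fun hi => ?_, fun hi hj e => ?_, fun {y} hy => ?_,
    fun {i j} hi hj => ?_, fun {i j} hi hj => ?_⟩
  · rw [dif_pos hi]
    exact (L.perp_iff hD hsq).2 ⟨_, P.mem hi, rfl⟩
  · rw [dif_pos hi, dif_pos hj] at e
    exact P.inj hi hj (congrArg Subtype.val (L.inj e))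
  · obtain ⟨u, hu, rfl⟩ := (L.perp_iff hD hsq).1 hy
    obtain ⟨i, hi, e⟩ := P.surj hu
    exact ⟨i, hi, by rw [dif_pos hi]; exact congrArg ι (Subtype.ext e)⟩
  · rw [dif_pos hi, dif_pos hj, ← P.comm hi hj]
    exact ⟨fun h => (congrArg Subtype.val (L.inj (a₁ := ⟨φ i, hsub hi⟩ * ⟨φ j, hsub hj⟩)
        (a₂ := ⟨φ j, hsub hj⟩ * ⟨φ i, hsub hi⟩) (by rw [map_mul, map_mul]; exact h.eq)) :),
      fun h => (show Commute (⟨φ i, hsub hi⟩ : subA) ⟨φ j, hsub hj⟩ from Subtype.ext h.eq).map ι⟩
  · rw [dif_pos hi, dif_pos hj, dif_pos (R_lt hi hj), ← map_inv, ← map_mul, ← map_mul]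
    exact congrArg ι (Subtype.ext (P.conj hi hj))

/-- the centralizer is generated by the members commuting with `x` -/
theorem closure_perp (hD : ∀ g : G, ∀ y ∈ D, g * y * g⁻¹ ∈ D) (hsq : ∀ y ∈ D, y * y = 1) :
    Subgroup.closure (nbr D x) = ι.range := by
  have e : Subgroup.closure ({u : subA | (u : Fi22) ∈ nbr transClass (gen 0)}) = ⊤ := by
    refine Subgroup.map_injective subA.subtype_injective ?_
    rw [MonoidHom.map_closure, ← MonoidHom.range_eq_map, Subgroup.range_subtype]
    refine Eq.trans ?_ perp22_eq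
    congr 1
    ext y
    exact ⟨fun ⟨u, hu, h⟩ => h ▸ hu, fun hy => ⟨⟨y, perp22_le (Subgroup.subset_closure hy)⟩, hy, rfl⟩⟩
  rw [MonoidHom.range_eq_map, ← e, MonoidHom.map_closure]
  congr 1
  ext y
  rw [L.perp_iff hD hsq]
  rfl

/-- only the two central elements commute with all members commuting with `x` -/
theorem central_of_commute (hD : ∀ g : G, ∀ y ∈ D, g * y * g⁻¹ ∈ D) (hsq : ∀ y ∈ D, y * y = 1) {c : G}
    (hc : Commute c x) (h : ∀ y ∈ nbr D x, Commute c y) : c = 1 ∨ c = x := by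
  obtain ⟨u, rfl⟩ := (L.range c).2 hc
  have hle : ι.range ≤ Subgroup.centralizer {ι u} := by
    rw [← L.closure_perp hD hsq, Subgroup.closure_le]
    exact fun y hy => Subgroup.mem_centralizer_singleton_iff.2 (h y hy).symm.eq
  have hcen : u ∈ Subgroup.center subA := Subgroup.mem_center_iff.2 fun v => L.inj (by
    rw [map_mul, map_mul]
    exact Subgroup.mem_centralizer_singleton_iff.1 (hle ⟨v, rfl⟩))
  rw [center_subA, Subgroup.mem_subgroupOf, Subgroup.mem_zpowers_iff] at hcen
  obtain ⟨k, hk⟩ := hcen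
  have h2 : gen 0 ^ (2 : ℤ) = 1 := by
    rw [zpow_two, class22_inv (IsConj.refl (gen 0))]
  rcases Int.even_or_odd' k with ⟨m, rfl | rfl⟩
  · left
    rw [zpow_mul, h2, one_zpow] at hk
    rw [show u = 1 from Subtype.ext hk.symm, map_one]
  · right
    rw [zpow_add_one, zpow_mul, h2, one_zpow, one_mul] at hk
    exact L.zero u hk.symm

/-- two members commuting with `x` commute, or their product has order three -/
theorem three (hD : ∀ g : G, ∀ y ∈ D, g * y * g⁻¹ ∈ D) (hsq : ∀ y ∈ D, y * y = 1) {a b : G}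
    (ha : a ∈ D) (hb : b ∈ D) (hax : Commute a x) (hbx : Commute b x) : Commute a b ∨ (a * b) ^ 3 = 1 := by
  rcases eq_or_ne a x with rfl | ha'
  · exact Or.inl hbx.symm
  rcases eq_or_ne b x with rfl | hb'
  · exact Or.inl hax
  obtain ⟨u, hu, rfl⟩ := (L.perp_iff hD hsq).1 ⟨ha, ha', hax.symm⟩
  obtain ⟨v, hv, rfl⟩ := (L.perp_iff hD hsq).1 ⟨hb, hb', hbx.symm⟩
  by_cases hc : Commute (u : Fi22) (v : Fi22)
  · exact Or.inl ((show Commute u v from Subtype.ext hc.eq).map ι)
  · right
    rw [← map_mul, ← map_pow, show (u * v) ^ 3 = 1 from Subtype.ext (by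
      rw [SubmonoidClass.coe_pow, Subgroup.coe_mul]
      exact mul_pow_three_of_not_commute transClass_three.1 hu.1 hv.1 hc), map_one]

/-- a member commuting with `x` and all of the frame is in it -/
theorem mem_frame (hsq : ∀ y ∈ D, y * y = 1) {y : G} (hy : y ∈ D) (hyx : Commute y x)
    (h : ∀ i < 22, Commute y (tG ι i)) : ∃ i < 22, y = tG ι i := by
  refine L.frame_mem y ?_ hy
  haveI : Fact (Nat.Prime 2) := ⟨Nat.prime_two⟩
  have hle : frameGrp ι ≤ Subgroup.centralizer {y} :=
    frameGrp_le fun i hi => Subgroup.mem_centralizer_singleton_iff.2 (h i hi).symm.eq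
  have hc : ∀ a ∈ frameGrp ι, Commute a y := fun a ha => Subgroup.mem_centralizer_singleton_iff.1 (hle ha)
  let B : Subgroup G :=
    { carrier := {g | g ∈ frameGrp ι ∨ g * y ∈ frameGrp ι}
      one_mem' := Or.inl (one_mem _)
      mul_mem' := fun {a b} ha hb => by
        have hy2 := hsq y hy
        have hay : ∀ {b}, b * y ∈ frameGrp ι → Commute b y := fun {b} hb => by
          simpa using (hc _ hb).mul_left ((Commute.refl y).inv_left)
        rcases ha with ha | ha <;> rcases hb with hb | hb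
        · exact Or.inl (mul_mem ha hb)
        · exact Or.inr (by rw [mul_assoc]; exact mul_mem ha hb)
        · refine Or.inr ?_
          rw [mul_assoc, (hc b hb).eq, ← mul_assoc]
          exact mul_mem ha hb
        · refine Or.inl ?_
          have e : a * b = a * y * (b * y) := by
            rw [(hay hb).eq, mul_assoc, ← mul_assoc y, hy2, one_mul]
          rw [e]
          exact mul_mem ha hb
      inv_mem' := fun {a} ha => by
        rcases ha with ha | ha
        · exact Or.inl (inv_mem ha)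
        · refine Or.inr ?_
          have hay : Commute a y := by simpa using (hc _ ha).mul_left ((Commute.refl y).inv_left)
          have := inv_mem ha
          rw [mul_inv_rev, ← (hay.inv_inv).eq, inv_eq_of_mul_eq_one_right (hsq y hy)] at this
          exact this }
  have hyB : y ∈ B := Or.inr (by rw [hsq y hy]; exact one_mem _)
  have hBc : ∀ g ∈ B, Commute g y ∧ ∀ a ∈ frameGrp ι, Commute g a := by
    intro g hg
    rcases hg with hg | hg
    · exact ⟨hc g hg, fun a ha => frameGrp_comm hg ha⟩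
    · have e : g = g * y * y⁻¹ := by group
      refine ⟨e ▸ (hc _ hg).mul_left ((Commute.refl y).inv_left), fun a ha => ?_⟩
      rw [e]
      exact (frameGrp_comm hg ha).mul_left ((hc a ha).symm.inv_left)
  have hBe : Cfsg.IsElementaryAbelian 2 B := by
    refine ⟨⟨⟨fun a b => Subtype.ext ?_⟩⟩, fun a ha => ?_⟩
    · show Commute (a : G) b
      rcases b.2 with hb | hb
      · exact (hBc a a.2).2 _ hb
      · have e : (b : G) = b * y * y⁻¹ := by group
        rw [e]
        exact ((hBc a a.2).2 _ hb).mul_right ((hBc a a.2).1.inv_right)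
    · rcases ha with ha | ha
      · exact (frameGrp_elem ι).2 a ha
      · have e : a = a * y * y := by rw [mul_assoc, hsq y hy, mul_one]
        rw [e, (hc _ ha).mul_pow, (frameGrp_elem ι).2 _ ha, one_mul, pow_two, hsq y hy]
  have hBr : B ≤ ι.range := by
    intro g hg
    have hyr : y ∈ ι.range := (L.range y).2 hyx
    rcases hg with hg | hg
    · exact L.frame_le hg
    · have := mul_mem (L.frame_le hg) (inv_mem hyr)
      simpa using this
  have hBp : IsPGroup 2 B := fun g => ⟨1, Subtype.ext (by simpa using hBe.2 g g.2)⟩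
  have hle' : frameGrp ι ≤ B := fun a ha => Or.inl ha
  obtain ⟨h1, h2⟩ := CfsgLib.USixFusion.max_in ι L.inj hBp hBr le_rfl hBe hle' (frameGrp_elem ι)
  have hcard : Nat.card B = 1024 :=
    le_antisymm h1 ((frameGrp_card L.inj).symm.le.trans (Subgroup.card_le_of_le hle'))
  exact h2 hcard (frameGrp_card L.inj) ▸ hyB

end Loc

end CfsgLib.M22Recog
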