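import Cfsg.Agent.Lib.M22Recog.PointData
import Cfsg.Agent.Lib.TypeM22.ConfigChecks

/-!
Checks on the 693 points for the recognition of the type M(22).
-/

set_option autoImplicit false
set_option Elab.async false
set_option maxRecDepth 100000
set_option maxHeartbeats 4000000

namespace CfsgLib.M22Recog

open CfsgLib.TypeM22 (perpB R act common finals)

/-- different members of a list -/
def distB : List ℕ → Bool
  | [] => true
  | x :: l => (l.all fun y => !(Nat.beq x y)) && distB l

/-- pairwise orthogonal -/
def cliqueB : List ℕ → Bool
  | [] => true
  | x :: l => (l.all fun y => perpB x y) && cliqueB l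

/-- the action is trivial -/
def fixAllB (w : List ℕ) : Bool := (List.range 693).all fun z => Nat.beq (act w z) z

/-- the image under the product of the transvections of the points 0 and 2 -/
def img02 (i : ℕ) : ℕ := R 0 (R 2 i)

/-- the points moved to orthogonal ones -/
def swapCand : List ℕ := (List.range 693).filter fun i => !(Nat.beq (img02 i) i) && perpB i (img02 i)

/-- the tree of the orbits -/
def swapTreeB : List (ℕ × ℕ × ℕ) → Bool
  | [] => true
  | (y, m, x) :: rest =>
    Nat.blt m 693 && perpB m 0 && perpB m 2 && Nat.blt x 693 && Nat.beq (R m x) y &&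
      (swapReps.any (Nat.beq x) || rest.any fun p => Nat.beq x p.1) && swapTreeB rest

/-- no two triangles exchanged by the pair have one product -/
def swapB (f a b : ℕ) : Bool :=
  !(perpB f b && perpB a b && perpB f (img02 b) && perpB a (img02 b) &&
      distB [f, a, b, img02 f, img02 a, img02 b] && cliqueB [f, a, b, img02 f, img02 a, img02 b]) ||
    (List.range 693).any fun z => !(Nat.beq (act [f, a, b] z) (act [img02 f, img02 a, img02 b] z))

theorem sig_ok : ((List.range 693).all fun h => perpB h 0 || !(common.all fun k => perpB h k) ||
    Nat.beq h 1 || Nat.beq h (R 0 1)) = true := by decide +kernel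

theorem wprime_ok : (common.all fun e => (List.range 693).any fun k =>
    perpB k e && perpB k 1 && !(perpB k 0) && !(Nat.beq k 1) && !(Nat.beq k e)) = true := by decide +kernel

theorem final_meet_ok : (finals.all fun c => (List.range 693).all fun z => c.2.any fun j => perpB j z) = true := by
  decide +kernel

theorem swapCand_ok : swapTreeB swapTree = true ∧ (swapCand.all fun f =>
    swapReps.any (Nat.beq f) || swapTree.any fun p => Nat.beq f p.1) = true := by decide +kernel

theorem swap_ok : (swapReps.all fun f => swapCand.all fun a =>
    !(perpB f a && perpB f (img02 a) && !(Nat.beq f a)) || swapCand.all fun b => swapB f a b) = true := by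
  decide +kernel

/-- a word carries a set to a set -/
def carryB (w L L' : List ℕ) : Bool :=
  (w.all fun m => Nat.blt m 693) && (L.all fun i => L'.any (Nat.beq (act w i))) &&
    (L'.all fun j => L.any fun i => Nat.beq (act w i) j)

theorem finalWords_ok : finals.length = 6 ∧ finalWords.length = 6 ∧ ((List.range 6).all fun i =>
    Nat.blt (finalWords.getD i (0, [])).1 3 &&
      carryB (finalWords.getD i (0, [])).2 (finals.getD (finalWords.getD i (0, [])).1 ([], [])).2
        (finals.getD i ([], [])).2) = true := by decide +kernel

/-- two sextets with three common members -/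
def apartB (p : (ℕ × ℕ) × List ℕ × List ℕ × List ℕ) : Bool :=
  match p with
  | ((i, j), s, a, b) =>
    distB (s ++ a ++ b) && cliqueB (s ++ a ++ b) && fixAllB (s ++ a) && fixAllB (s ++ b) &&
      Nat.beq s.length 3 && Nat.beq a.length 3 && Nat.beq b.length 3 &&
      ((s ++ a).all fun x => (finals.getD i ([], [])).2.any (Nat.beq x)) &&
      ((s ++ b).all fun x => (finals.getD j ([], [])).2.any (Nat.beq x))

theorem finalApart_ok : finalApart.map Prod.fst = [(0, 1), (0, 2), (1, 2)] ∧ finalApart.all apartB = true := by
  decide +kernel

end CfsgLib.M22Recog
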