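import Cfsg.Agent.Lib.M22Recog.Hyp
import Cfsg.Agent.Lib.M22Recog.PointChecks
import Cfsg.Agent.Lib.TypeM22.Spider

/-!
Numberings with two given points first.
-/

set_option autoImplicit false
set_option linter.unusedSectionVars false

namespace CfsgLib.M22Recog

open CfsgLib.TypeM22
open CfsgLib.CosetEnum (prodW)
open CfsgLib.ThreeTransp.Relations (nbr)

variable {G : Type*} [Group G] [Finite G] {D : Set G} {a : G} {φ : ℕ → G}

theorem perp_ne {i j : ℕ} (hj : j < 693) (h : perpB i j = false) : i ≠ j := by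
  rintro rfl; rw [perpB_self hj] at h; exact Bool.noConfusion h

theorem mem_common {k : ℕ} : k ∈ common ↔ k < 693 ∧ perpB k 0 = true ∧ perpB k 1 = true := by
  simp [common]

/-- the numbering may start with any two noncommuting members -/
theorem Hyp.pts_two (H : Hyp D) {x y z : G} (hx : x ∈ D) (hy : y ∈ nbr D x) (hz : z ∈ nbr D x)
    (hyz : ¬ Commute y z) : ∃ ψ, Pts D x ψ ∧ ψ 0 = y ∧ ψ 1 = z := by
  obtain ⟨ψ, P⟩ := H.exists_pts hx
  obtain ⟨p, hp, rfl⟩ := P.surj hy
  obtain ⟨q, hq, rfl⟩ := P.surj hz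
  have hqp : perpB q p = false := Bool.eq_false_iff.2 fun h => hyz ((P.comm hq hp).2 h).symm
  have hne : q ≠ p := fun e => hyz (e ▸ Commute.refl _)
  have hfit : fits ((pathTree.take 2).map Prod.fst) [] [p, q] = true := by
    show fits [[], [true]] [] [p, q] = true
    simp [fits, fitB, hqp]
    exact Bool.eq_false_iff.2 fun e => hne (Nat.eq_of_beq_eq_true e)
  obtain ⟨w, hw, hmem⟩ := norm (pre := []) two_leaves.2 (List.mem_singleton_self _)
    (by simp [hp, hq]) hfit
  rw [two_leaves.1, List.mem_singleton] at hmem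
  simp only [List.nil_append, List.map_cons, List.map_nil, List.cons.injEq, and_true] at hmem
  obtain ⟨g, hg⟩ : ∃ g, g = prodW ψ w := ⟨_, rfl⟩
  refine ⟨fun i => g⁻¹ * ψ i * g⁻¹⁻¹, ?_, ?_, ?_⟩
  · have e : g⁻¹ * x * g⁻¹⁻¹ = x := by rw [hg, (P.commute_prodW hw).inv_left.eq, mul_inv_cancel_right]
    have := P.map H.conj g⁻¹
    rwa [e] at this
  · show g⁻¹ * ψ 0 * g⁻¹⁻¹ = ψ p
    rw [← hmem.1, P.conj_act hw hp, ← hg]; group
  · show g⁻¹ * ψ 1 * g⁻¹⁻¹ = ψ q
    rw [← hmem.2, P.conj_act hw hq, ← hg]; group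

/-- an element centralising a member with the same neighbours up to its reflection -/
theorem sig_point {h : ℕ} (hh : h < 693) (h0 : perpB h 0 = false) (hall : ∀ k ∈ common, perpB h k = true) :
    h = 1 ∨ h = R 0 1 := by
  have h' := List.all_eq_true.1 sig_ok h (List.mem_range.2 hh)
  rw [h0, Bool.false_or, Bool.or_eq_true, Bool.or_eq_true, Nat.beq_eq, Nat.beq_eq, Bool.not_eq_true',
    List.all_eq_false] at h'
  rcases h' with (⟨k, hk, hf⟩ | h') | h'
  · exact absurd (hall k hk) hf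
  · exact Or.inl h'
  · exact Or.inr h'

theorem wprime_point {e : ℕ} (he : e ∈ common) : ∃ k < 693,
    perpB k e = true ∧ perpB k 1 = true ∧ perpB k 0 = false ∧ k ≠ 1 ∧ k ≠ e := by
  have h := List.all_eq_true.1 wprime_ok e he
  simp only [List.any_eq_true, List.mem_range, Bool.and_eq_true, Bool.not_eq_true'] at h
  obtain ⟨k, hk, ⟨⟨⟨h1, h2⟩, h3⟩, h4⟩, h5⟩ := h
  exact ⟨k, hk, h1, h2, h3, Nat.ne_of_beq_eq_false h4, Nat.ne_of_beq_eq_false h5⟩

end CfsgLib.M22Recog
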