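import Cfsg.Agent.Lib.ZStar.Main

/-!
An involution isolated modulo a central subgroup of order two.
-/

set_option autoImplicit false

namespace CfsgLib.M22Recog

open Cfsg

variable {X : Type*} [Group X] [Finite X]

theorem le_core {N : Subgroup X} (hN : N.Normal) (ho : Odd (Nat.card N)) : N ≤ oddCore X :=
  le_sSup ⟨hN, Nat.coprime_two_right.mpr ho⟩

/-- a normal subgroup which is odd modulo a central subgroup of order two lies in the core extended by it -/
theorem central_split {w : X} (hw : orderOf w = 2) (hc : ∀ x : X, Commute x w) (M : Subgroup X) [hM : M.Normal]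
    (hwM : w ∈ M) (ho : Odd (((Subgroup.zpowers w).subgroupOf M).index)) {m : X} (hm : m ∈ M) :
    m ∈ oddCore X ∨ m * w ∈ oddCore X := by
  classical
  haveI : Fact (Nat.Prime 2) := ⟨Nat.prime_two⟩
  let wM : M := ⟨w, hwM⟩
  have hZ : (Subgroup.zpowers w).subgroupOf M ≤ Subgroup.center M := fun y hy => Subgroup.mem_center_iff.2 fun g => by
    obtain ⟨k, hk⟩ := Subgroup.mem_subgroupOf.1 hy
    refine Subtype.ext ?_
    show (g : X) * y = y * g
    rw [← hk]
    exact ((hc _).zpow_right k).eq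
  haveI : ((Subgroup.zpowers w).subgroupOf M).Normal :=
    ⟨fun n hn g => by rwa [(Subgroup.mem_center_iff.1 (hZ hn) g), mul_inv_cancel_right]⟩
  set r := ((Subgroup.zpowers w).subgroupOf M).index
  obtain ⟨s, hs⟩ : (Subgroup.center M).index ∣ r := Subgroup.index_dvd_of_le hZ
  letI : CommGroup (Subgroup.center M) :=
    { (inferInstance : Group (Subgroup.center M)) with
      mul_comm := fun a b => Subtype.ext (Subgroup.mem_center_iff.1 b.2 a) }
  let φ : M →* M := (Subgroup.center M).subtype.comp ((powMonoidHom s).comp (MonoidHom.transferCenterPow M))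
  have hφ : ∀ y : M, φ y = y ^ r := fun y => by
    show ((MonoidHom.transferCenterPow M y : Subgroup.center M) : M) ^ s = _
    rw [MonoidHom.transferCenterPow_apply, ← pow_mul, ← hs]
  have hpow : ∀ y : M, (y : X) ^ r = 1 ∨ (y : X) ^ r = w := fun y => by
    have h : y ^ r ∈ (Subgroup.zpowers w).subgroupOf M := Subgroup.pow_index_mem _ y
    obtain ⟨k, hk⟩ := Subgroup.mem_subgroupOf.1 h
    have h2 : w ^ (2 : ℤ) = 1 := by
      rw [zpow_two, ← pow_two, ← hw, pow_orderOf_eq_one]
    rw [SubmonoidClass.coe_pow] at hk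
    rw [← hk]
    rcases Int.even_or_odd' k with ⟨j, rfl | rfl⟩
    · left; show w ^ (2 * j) = 1; rw [zpow_mul, h2, one_zpow]
    · right; show w ^ (2 * j + 1) = w; rw [zpow_add_one, zpow_mul, h2, one_zpow, one_mul]
  let E : Subgroup X := φ.ker.map M.subtype
  have hE : ∀ {y : X}, y ∈ E ↔ y ∈ M ∧ y ^ r = 1 := by
    intro y
    constructor
    · rintro ⟨u, hu, rfl⟩
      refine ⟨u.2, ?_⟩
      rw [SetLike.mem_coe, MonoidHom.mem_ker, hφ] at hu
      exact congrArg Subtype.val hu
    · rintro ⟨hy, e⟩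
      exact ⟨⟨y, hy⟩, (MonoidHom.mem_ker).2 (by rw [hφ]; exact Subtype.ext e), rfl⟩
  have hEn : E.Normal := ⟨fun y hy g => by
    rw [hE] at hy ⊢
    exact ⟨hM.conj_mem y hy.1 g, by rw [conj_pow, hy.2, mul_one, mul_inv_cancel]⟩⟩
  have hEo : Odd (Nat.card E) := by
    rw [← Nat.not_even_iff_odd]
    intro he
    obtain ⟨t, ht⟩ := exists_prime_orderOf_dvd_card' 2 (even_iff_two_dvd.1 he)
    have htr : (t : X) ^ r = 1 := (hE.1 t.2).2
    have hd : orderOf (t : X) ∣ r := orderOf_dvd_of_pow_eq_one htr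
    rw [Subgroup.orderOf_coe, ht] at hd
    exact Nat.not_even_iff_odd.2 ho (even_iff_two_dvd.2 hd)
  have hle := le_core hEn hEo
  rcases hpow ⟨m, hm⟩ with e | e
  · exact Or.inl (hle (hE.2 ⟨hm, e⟩))
  · refine Or.inr (hle (hE.2 ⟨mul_mem hm hwM, ?_⟩))
    have hwr : w ^ r = w := by
      obtain ⟨j, hj⟩ := ho
      rw [show r = 2 * j + 1 from hj, pow_succ, pow_mul,
        show w ^ 2 = 1 by rw [← hw, pow_orderOf_eq_one], one_pow, one_mul]
    have hw2 : w * w = 1 := by rw [← pow_two, ← hw, pow_orderOf_eq_one]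
    show (m * w) ^ r = 1
    rw [(hc m).mul_pow, show m ^ r = w from e, hwr, hw2]

/-- Glauberman's theorem modulo a central subgroup of order two -/
theorem central_zstar {w d : X} (hw : orderOf w = 2) (hc : ∀ x : X, Commute x w) (hd : orderOf d = 2)
    (hdw : d ≠ w) (hiso : ∀ g : X, (d * (g * d * g⁻¹)) ^ 4 = 1 → g * d * g⁻¹ = d ∨ g * d * g⁻¹ = d * w) (g : X) :
    g * d * g⁻¹ * d ∈ oddCore X ∨ g * d * g⁻¹ * d * w ∈ oddCore X := by
  classical
  set Z := Subgroup.zpowers w with hZ
  have hw2 : w * w = 1 := by rw [← pow_two, ← hw, pow_orderOf_eq_one]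
  have hd2 : d * d = 1 := by rw [← pow_two, ← hd, pow_orderOf_eq_one]
  haveI hZn : Z.Normal := ⟨fun n hn g => by
    obtain ⟨k, rfl⟩ := Subgroup.mem_zpowers_iff.1 hn
    rw [((hc g).zpow_right k).eq, mul_inv_cancel_right]
    exact hn⟩
  have hmem : ∀ {x : X}, x ∈ Z → x = 1 ∨ x = w := fun {x} hx => by
    obtain ⟨k, rfl⟩ := Subgroup.mem_zpowers_iff.1 hx
    have h2 : w ^ (2 : ℤ) = 1 := by rw [zpow_two, hw2]
    rcases Int.even_or_odd' k with ⟨j, rfl | rfl⟩
    · left; rw [zpow_mul, h2, one_zpow]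
    · right; rw [zpow_add_one, zpow_mul, h2, one_zpow, one_mul]
  have hwZ : w ∈ Z := Subgroup.mem_zpowers w
  let q := QuotientGroup.mk' Z
  have hI : IsIsolatedInvolution (q d) := by
    refine ⟨orderOf_eq_prime (by rw [← map_pow, pow_two, hd2, map_one]) fun e => ?_, fun b hb => ?_⟩
    · rcases hmem ((QuotientGroup.eq_one_iff d).1 e) with h | h
      · rw [h, orderOf_one] at hd; norm_num at hd
      · exact hdw h
    obtain ⟨a, rfl⟩ := QuotientGroup.mk'_surjective Z b
    set f := a * d * a⁻¹ with hf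
    have hqf : q a * q d * (q a)⁻¹ = q f := by rw [hf, map_mul, map_mul, map_inv]
    rw [hqf] at hb ⊢
    have hf2 : f * f = 1 := by rw [hf, show a * d * a⁻¹ * (a * d * a⁻¹) = a * (d * d) * a⁻¹ by group, hd2]; group
    have hsq : q ((d * f) ^ 2) = 1 := by
      rw [map_pow, map_mul, hb.mul_pow, ← map_pow, ← map_pow, pow_two, pow_two, hd2, hf2, map_one, one_mul]
    have h4 : (d * f) ^ 4 = 1 := by
      rw [show (4 : ℕ) = 2 * 2 from rfl, pow_mul]
      rcases hmem ((QuotientGroup.eq_one_iff _).1 hsq) with h | h <;> rw [h, pow_two]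
      · exact one_mul 1
      · exact hw2
    rcases hiso a h4 with h | h
    · show q f = q d
      rw [show f = d from h]
    · show q f = q d
      rw [show f = d * w from h, map_mul, show q w = 1 from (QuotientGroup.eq_one_iff w).2 hwZ, mul_one]
  have hcore := CfsgLib.ZStar.commutatorsInCore_of_isolated hI (q g)
  set M := (oddCore (X ⧸ Z)).comap q with hM
  haveI : (oddCore (X ⧸ Z)).Normal := CfsgLib.Transfer.pPrimeCore_normal 2 (X ⧸ Z)
  haveI : M.Normal := inferInstanceAs ((oddCore (X ⧸ Z)).comap q).Normal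
  have hwM : w ∈ M := by
    show q w ∈ oddCore (X ⧸ Z)
    rw [show q w = 1 from (QuotientGroup.eq_one_iff w).2 hwZ]
    exact one_mem _
  have ho : Odd ((Z.subgroupOf M).index) := by
    have e : (Z.subgroupOf M).index = Z.relIndex M := rfl
    have hk : q.ker = Z := QuotientGroup.ker_mk' Z
    rw [e, ← hk, hM, Subgroup.relIndex_ker, Subgroup.map_comap_eq_self_of_surjective
      (QuotientGroup.mk'_surjective Z)]
    exact CfsgLib.ZStar.odd_card_core
  have hmem' : g * d * g⁻¹ * d ∈ M := by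
    show q (g * d * g⁻¹ * d) ∈ oddCore (X ⧸ Z)
    have hinv : (q d)⁻¹ = q d := inv_eq_of_mul_eq_one_right (by rw [← map_mul, hd2, map_one])
    have := inv_mem hcore
    rw [mul_inv_rev, mul_inv_rev, mul_inv_rev, inv_inv, inv_inv, hinv] at this
    simpa [map_mul, map_inv, mul_assoc] using this
  exact central_split hw hc M hwM ho hmem'

end CfsgLib.M22Recog
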