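import Cfsg.Agent.Lib.M22Recog.Numbering
import Cfsg.Agent.Lib.M22Recog.Split

/-!
The product of two commuting members determines them.
-/

set_option autoImplicit false
set_option linter.unusedSectionVars false
set_option maxHeartbeats 1000000

namespace CfsgLib.M22Recog

open Cfsg
open CfsgLib.TypeM22 (Pts perpB R R_lt common)
open CfsgLib.ThreeTransp.Relations (nbr)
open CfsgLib.Fi22Pres (subA)

variable {G : Type*} [Group G] [Finite G] {D : Set G}

theorem aba_eq {a b : G} (ha : a * a = 1) (hb : b * b = 1) (h : (a * b) ^ 3 = 1) : a * b * a = b * a * b := by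
  have h' : a * b * a * (b * a * b) = 1 := by
    rw [← h]; simp only [pow_succ, pow_zero, one_mul, mul_assoc]
  have e : (b * a * b)⁻¹ = b * a * b := by
    refine inv_eq_of_mul_eq_one_right ?_
    rw [show b * a * b * (b * a * b) = b * a * (b * b) * a * b by group, hb, mul_one, mul_assoc b a, ha, mul_one, hb]
  rw [mul_eq_one_iff_eq_inv.1 h', e]

/-- the odd core of the centralizer of an element -/
noncomputable def centCore (w : G) : Subgroup G :=
  (oddCore ↥(Subgroup.centralizer ({w} : Set G))).map (Subgroup.centralizer ({w} : Set G)).subtype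

theorem mem_cent {w n : G} : n ∈ Subgroup.centralizer ({w} : Set G) ↔ Commute n w :=
  Subgroup.mem_centralizer_singleton_iff

theorem centCore_comm {w n : G} (hn : n ∈ centCore w) : Commute n w := by
  obtain ⟨u, -, rfl⟩ := Subgroup.mem_map.1 hn
  exact mem_cent.1 u.2

theorem centCore_conj {w n g : G} (hn : n ∈ centCore w) (hg : Commute g w) : g * n * g⁻¹ ∈ centCore w := by
  obtain ⟨u, hu, rfl⟩ := Subgroup.mem_map.1 hn
  haveI : (oddCore ↥(Subgroup.centralizer ({w} : Set G))).Normal := CfsgLib.Transfer.pPrimeCore_normal 2 _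
  exact Subgroup.mem_map.2 ⟨_, (inferInstance : (oddCore _).Normal).conj_mem u hu ⟨g, mem_cent.2 hg⟩, rfl⟩

theorem centCore_odd (w : G) : Odd (Nat.card (centCore w)) := by
  rw [centCore, ← Nat.card_congr ((oddCore ↥(Subgroup.centralizer ({w} : Set G))).equivMapOfInjective _
    (Subgroup.subtype_injective _)).toEquiv]
  exact CfsgLib.ZStar.odd_card_core

theorem odd_of_mem {K : Subgroup G} (hK : Odd (Nat.card K)) {n : G} (hn : n ∈ K) : Odd (orderOf n) :=
  hK.of_dvd_nat (by rw [← Subgroup.orderOf_mk n hn]; exact orderOf_dvd_natCard _)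

theorem eq_one_of_odd {n : G} (h : Odd (orderOf n)) (h2 : n * n = 1) : n = 1 := by
  have hd : orderOf n ∣ 2 := orderOf_dvd_of_pow_eq_one (by rw [pow_two, h2])
  rcases (Nat.dvd_prime Nat.prime_two).1 hd with e | e
  · exact orderOf_eq_one_iff.1 e
  · rw [e] at h; exact absurd h (by decide)

/-- an involution without fixed points inverts -/
theorem inverts_of_fixed_free {K : Subgroup G} {d : G} (hd : d * d = 1) (hn : ∀ n ∈ K, d * n * d⁻¹ ∈ K)
    (h1 : ∀ n ∈ K, Commute n d → n = 1) : ∀ n ∈ K, d * n * d⁻¹ = n⁻¹ := by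
  intro n hnK
  let φ : K →* K :=
    { toFun := fun u => ⟨d * u * d⁻¹, hn u u.2⟩
      map_one' := Subtype.ext (by simp)
      map_mul' := fun u v => Subtype.ext (by simp [mul_assoc]) }
  have hfp : MonoidHom.FixedPointFree φ := fun u hu => Subtype.ext (h1 u u.2 (by
    have e : d * (u : G) * d⁻¹ = u := congrArg Subtype.val hu
    exact (mul_inv_eq_iff_eq_mul.1 e).symm))
  have hinv : Function.Involutive φ := fun u => Subtype.ext (by
    show d * (d * (u : G) * d⁻¹) * d⁻¹ = u
    rw [show d * (d * (u : G) * d⁻¹) * d⁻¹ = d * d * u * (d * d)⁻¹ by group, hd]; group)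
  exact congrArg Subtype.val (congrFun (hfp.coe_eq_inv_of_involutive hinv) ⟨n, hnK⟩)

namespace Hyp

variable (H : Hyp D)
include H

theorem conj' {g : G} {x : G} (hx : x ∈ D) (hg : g * g = 1) : g * x * g ∈ D := by
  have := H.conj g x hx
  rwa [inv_eq_of_mul_eq_one_right hg] at this

/-- inside one centralizer: commuting with the product of two commuting members means with both -/
theorem comm_both_local {x a b c : G} (hx : x ∈ D) (ha : a ∈ D) (hb : b ∈ D) (hc : c ∈ D) (hax : Commute a x)
    (hbx : Commute b x) (hcx : Commute c x) (hab : Commute a b) (hne : a ≠ b) (h : Commute c (a * b)) :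
    Commute c a := by
  by_contra hca
  have hc2 := H.sq c hc
  have ha2 := H.sq a ha
  have h3 : (c * a) ^ 3 = 1 := (H.three hx hc ha hcx hax).resolve_left hca
  have hcac : c * a * c = a * c * a := aba_eq hc2 ha2 h3
  set s := c * a * c with hs
  set k := c * b * c with hk
  have hsD : s ∈ D := H.conj' ha hc2
  have hkD : k ∈ D := H.conj' hb hc2
  have hsx : Commute s x := (hcx.mul_left hax).mul_left hcx
  have hkx : Commute k x := (hcx.mul_left hbx).mul_left hcx
  have hsk : s * k = a * b := by
    rw [hs, hk, show c * a * c * (c * b * c) = c * a * (c * c) * b * c by group, hc2, mul_one, mul_assoc c a b,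
      h.eq, mul_assoc, hc2, mul_one]
  have hsas : s * a * s = c := by
    have e : a * c * a * a * (a * c * a) = a * (c * a * c) * a := by
      rw [show a * c * a * a * (a * c * a) = a * c * (a * a) * a * c * a by group, ha2, mul_one]; group
    rw [hcac, e]
    show a * s * a = c
    rw [hcac, show a * (a * c * a) * a = a * a * c * (a * a) by group, ha2, one_mul, mul_one]
  have hnsa : ¬ Commute a s := fun e => by
    refine hca ?_
    rw [← hsas, ← e.eq, mul_assoc, H.sq s hsD, mul_one]
  have hask : Commute a (s * k) := hsk ▸ (Commute.refl a).mul_right hab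
  have hnka : ¬ Commute a k := fun e => hnsa (by
    have := hask.mul_right e
    rwa [mul_assoc, H.sq k hkD, mul_one] at this)
  have h3k : (a * k) ^ 3 = 1 := (H.three hx ha hkD hax hkx).resolve_left hnka
  have hkak : k * a * k = c := by
    rw [← hsas]
    calc k * a * k = s * (s * k * a) * k := by
          rw [show s * (s * k * a) * k = s * s * (k * a * k) by group, H.sq s hsD, one_mul]
      _ = s * (a * (s * k)) * k := by rw [hask.eq]
      _ = s * a * s * (k * k) := by group
      _ = s * a * s := by rw [H.sq k hkD, mul_one]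
  have hk' : k = s := by
    have e : a * k * a = k * a * k := aba_eq ha2 (H.sq k hkD) h3k
    rw [hkak] at e
    calc k = a * a * k * (a * a) := by rw [ha2, one_mul, mul_one]
      _ = a * (a * k * a) * a := by group
      _ = a * c * a := by rw [e]
      _ = s := hcac.symm
  rw [hk', H.sq s hsD] at hsk
  exact hne (by rw [mul_eq_one_iff_eq_inv.1 hsk.symm, H.inv hb])

section Core

variable {d e : G} (hd : d ∈ D) (he : e ∈ D) (hde : Commute d e) (hne : d ≠ e)
include hd he hde hne

theorem core_fixed {n : G} (hn : n ∈ centCore (d * e)) (hc : Commute n d) : n = 1 := by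
  set w := d * e with hw
  have hd2 := H.sq d hd
  let K := centCore w ⊓ Subgroup.centralizer ({d} : Set G)
  have hKo : Odd (Nat.card K) := (centCore_odd w).of_dvd_nat (Subgroup.card_dvd_of_le inf_le_left)
  have hKd : ∀ {k}, k ∈ K → Commute k d := fun hk => mem_cent.1 hk.2
  have hKe : ∀ {k}, k ∈ K → Commute k e := fun {k} hk => by
    have := (hKd hk).mul_right (centCore_comm hk.1)
    rwa [hw, ← mul_assoc, hd2, one_mul] at this
  have hKn : ∀ {k g}, k ∈ K → Commute g d → Commute g e → g * k * g⁻¹ ∈ K := fun {k g} hk hgd hge => by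
    refine ⟨centCore_conj hk.1 (hgd.mul_right hge), mem_cent.2 ?_⟩
    exact ((hgd.mul_left (hKd hk)).mul_left hgd.inv_left)
  have hfix : ∀ f ∈ D, f ≠ d → f ≠ e → Commute f d → Commute f e → ∀ k ∈ K, Commute k f := by
    intro f hf hfd' hfe' hfd hfe k hk
    set f' := k * f * k⁻¹ with hf'
    have hf'D := H.conj k f hf
    have hf'd : Commute f' d := ((hKd hk).mul_left hfd).mul_left (hKd hk).inv_left
    have hf'e : Commute f' e := ((hKe hk).mul_left hfe).mul_left (hKe hk).inv_left
    have hmem : f * f' ∈ K := by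
      have h1 := hKn hk hfd hfe
      have := mul_mem h1 (inv_mem hk)
      rw [H.inv hf] at this
      rwa [show f * k * f * k⁻¹ = f * (k * f * k⁻¹) by group] at this
    by_cases hff : Commute f f'
    · have h1 : f * f' = 1 := eq_one_of_odd (odd_of_mem hKo hmem)
        (by rw [hff.symm.mul_mul_mul_comm, H.sq f hf, H.sq f' hf'D, one_mul])
      rw [mul_eq_one_iff_inv_eq, H.inv hf, hf'] at h1
      exact (eq_mul_inv_iff_mul_eq.1 h1).symm
    exfalso
    have hf'e' : f' ≠ e := fun h => hff (h ▸ hfe)
    have hf'd' : f' ≠ d := fun h => hff (h ▸ hfd)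
    obtain ⟨ψ, P, h0, h1⟩ := H.pts_two hd (y := f) (z := f') ⟨hf, hfd', hfd.symm⟩ ⟨hf'D, hf'd', hf'd.symm⟩ hff
    obtain ⟨p, hp, ep⟩ := P.surj (y := e) ⟨he, hne.symm, hde⟩
    have hpc : p ∈ common := mem_common.2 ⟨hp, (P.comm hp (by norm_num)).1 (by rw [ep, h0]; exact hfe.symm),
      (P.comm hp (by norm_num)).1 (by rw [ep, h1]; exact hf'e.symm)⟩
    obtain ⟨m, hm, hme, hm1, hm0, hmne1, hmnep⟩ := wprime_point hpc
    obtain ⟨hvD, -, hvd⟩ := P.mem hm
    set v := ψ m with hv
    have hv2 := H.sq v hvD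
    have hve : Commute v e := ep ▸ (P.comm hm hp).2 hme
    have hvf' : Commute v f' := h1 ▸ (P.comm hm (by norm_num)).2 hm1
    have hnvf : ¬ Commute f v := fun h => by
      have := (P.comm (i := m) (j := 0) hm (by norm_num)).1 (h0 ▸ h.symm)
      rw [hm0] at this
      exact Bool.noConfusion this
    have hg : v * (f * f') * v⁻¹ ∈ K := hKn hmem hvd.symm hve
    have hzz : f * v * (f * v) ∈ K := by
      have h := mul_mem hmem (inv_mem hg)
      rw [mul_inv_rev, mul_inv_rev, mul_inv_rev, inv_inv, H.inv hf, H.inv hf'D, H.inv hvD] at h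
      have e2 : f * f' * (v * (f' * f * v)) = f * v * (f * v) := by
        rw [show f * f' * (v * (f' * f * v)) = f * (f' * v * f') * (f * v) by group, ← hvf'.eq,
          mul_assoc v f' f', H.sq f' hf'D, mul_one]
      rwa [e2] at h
    have h3 : (f * v) ^ 3 = 1 := (H.three hd hf hvD hfd hvd.symm).resolve_left hnvf
    have hfv : f * v ∈ K := by
      have e3 : f * v = (f * v * (f * v)) * (f * v * (f * v)) := by
        conv_lhs => rw [← one_mul (f * v), ← h3]
        simp only [pow_succ, pow_zero, one_mul, mul_assoc]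
      rw [e3]; exact mul_mem hzz hzz
    have hfinal : f' * v ∈ K := by
      have h := mul_mem (inv_mem hmem) hfv
      rwa [mul_inv_rev, H.inv hf, H.inv hf'D, mul_assoc, ← mul_assoc f f, H.sq f hf, one_mul] at h
    have h1' : f' * v = 1 := eq_one_of_odd (odd_of_mem hKo hfinal)
      (by rw [hvf'.mul_mul_mul_comm, H.sq f' hf'D, hv2, one_mul])
    rw [mul_eq_one_iff_inv_eq, H.inv hf'D] at h1'
    exact hmne1 (P.inj hm (by norm_num) (h1'.symm.trans h1.symm))
  have hnK : n ∈ K := ⟨hn, mem_cent.2 hc⟩
  obtain ⟨ι, L⟩ := H.loc d hd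
  rcases L.central_of_commute H.conj H.sq hc (fun h hh => by
      obtain ⟨hhD, hhd, hch⟩ := hh
      rcases eq_or_ne h e with rfl | hhe
      · exact hKe hnK
      by_cases hce : Commute h e
      · exact hfix h hhD hhd hhe hch.symm hce n hnK
      obtain ⟨ψ, P, h0, h1⟩ := H.pts_two hd (y := e) (z := h) ⟨he, hne.symm, hde⟩ ⟨hhD, hhd, hch⟩
        fun h' => hce h'.symm
      have hne' : Commute n e := hKe hnK
      have hh'd : Commute (n * h * n⁻¹) d := (hc.mul_left hch.symm).mul_left hc.inv_left
      obtain ⟨q, hq, eq⟩ := P.surj (y := n * h * n⁻¹) ⟨H.conj n h hhD, fun e' => hhd (by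
        calc h = n⁻¹ * (n * h * n⁻¹) * n := by group
          _ = n⁻¹ * (n * d) := by rw [e', mul_assoc, ← hc.eq]
          _ = d := by group), hh'd.symm⟩
      have hq0 : perpB q 0 = false := Bool.eq_false_iff.2 fun hp => hce (by
        have hcm := (P.comm hq (by norm_num)).2 hp
        rw [eq, h0] at hcm
        have := (hne'.inv_left.mul_left hcm).mul_left hne'
        rwa [show n⁻¹ * (n * h * n⁻¹) * n = h by group] at this)
      have hall : ∀ k ∈ common, perpB q k = true := fun k hk => by
        obtain ⟨hk1, hk2, hk3⟩ := mem_common.1 hk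
        obtain ⟨hgD, hgd, hgc⟩ := P.mem hk1
        have hge : Commute (ψ k) e := h0 ▸ (P.comm hk1 (by norm_num)).2 hk2
        have hgh : Commute (ψ k) h := h1 ▸ (P.comm hk1 (by norm_num)).2 hk3
        have hkn : Commute n (ψ k) := by
          rcases eq_or_ne (ψ k) e with e' | e'
          · rw [e']; exact hne'
          · exact hfix _ hgD hgd e' hgc.symm hge n hnK
        refine (P.comm hq hk1).1 ?_
        rw [eq]
        exact (hkn.mul_left hgh.symm).mul_left hkn.inv_left
      rcases sig_point hq hq0 hall with rfl | rfl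
      · exact eq_mul_inv_iff_mul_eq.1 (h1.symm.trans eq) |>.symm
      · have hR : n * h * n⁻¹ = e * h * e⁻¹ := by
          rw [← eq, ← P.conj (by norm_num) (by norm_num), h0, h1]
        have h2 : n * (n * h * n⁻¹) * n⁻¹ = h := by
          rw [hR, show n * (e * h * e⁻¹) * n⁻¹ = n * e * h * (n * e)⁻¹ by group, hne'.eq,
            show e * n * h * (e * n)⁻¹ = e * (n * h * n⁻¹) * e⁻¹ by group, hR, H.inv he,
            show e * (e * h * e) * e = e * e * h * (e * e) by group, H.sq e he, one_mul, mul_one]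
        have hc2 : Commute (n ^ 2) h := mul_inv_eq_iff_eq_mul.1
          (show n ^ 2 * h * (n ^ 2)⁻¹ = h by rw [pow_two]; conv_rhs => rw [← h2]
                                             group)
        obtain ⟨j, hj⟩ := odd_of_mem hKo hnK
        have e4 : (n ^ 2) ^ (j + 1) = n := by
          rw [← pow_mul, show 2 * (j + 1) = (2 * j + 1) + 1 by ring, pow_succ, ← hj, pow_orderOf_eq_one, one_mul]
        exact e4 ▸ hc2.pow_left _) with h | h
  · exact h
  · exfalso
    have := odd_of_mem hKo hnK
    rw [h] at this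
    exact H.ne_one d hd (eq_one_of_odd this (H.sq d hd))

theorem core_inverts : ∀ n ∈ centCore (d * e), d * n * d⁻¹ = n⁻¹ :=
  inverts_of_fixed_free (H.sq d hd) (fun n hn => centCore_conj hn ((Commute.refl d).mul_right hde))
    fun n hn hc => H.core_fixed hd he hde hne hn hc

theorem core_inverts' : ∀ n ∈ centCore (d * e), e * n * e⁻¹ = n⁻¹ := by
  rw [hde.eq]
  exact H.core_inverts he hd hde.symm hne.symm

theorem core_inverts_nbr {g : G} (hg : g ∈ D) (hgd : Commute g d) (hge : Commute g e) :
    ∀ n ∈ centCore (d * e), g * n * g⁻¹ = n⁻¹ := by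
  refine inverts_of_fixed_free (H.sq g hg) (fun n hn => centCore_conj hn (hgd.mul_right hge)) fun n hn hc => ?_
  have hdi := H.core_inverts hd he hde hne n hn
  have hnw := centCore_comm hn
  set f := n * d * n⁻¹ with hf
  have hfD := H.conj n d hd
  have hfg : Commute f g := (hc.mul_left hgd.symm).mul_left hc.inv_left
  have hfw : Commute f (d * e) :=
    (hnw.mul_left ((Commute.refl d).mul_right hde)).mul_left hnw.inv_left
  have hfd : Commute f d := H.comm_both_local hg hd he hfD hgd.symm hge.symm hfg hde hne hfw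
  have hnn : f * d = n * n := by
    calc f * d = n * (d * n⁻¹ * d⁻¹) * (d * d) := by rw [hf]; group
      _ = n * n := by
        rw [show d * n⁻¹ * d⁻¹ = (d * n * d⁻¹)⁻¹ by group, hdi, inv_inv, H.sq d hd, mul_one]
  have ho : Odd (orderOf (n * n)) := odd_of_mem (centCore_odd _) (mul_mem hn hn)
  exact eq_one_of_odd (odd_of_mem (centCore_odd _) hn)
    (eq_one_of_odd ho (by rw [← hnn, hfd.symm.mul_mul_mul_comm, H.sq f hfD, H.sq d hd, one_mul]))

/-- Glauberman's theorem in the centralizer of the product -/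
theorem zstar {g : G} (hg : Commute g (d * e)) :
    ∃ o ∈ centCore (d * e), g * d * g⁻¹ = o * d ∨ g * d * g⁻¹ = o * e := by
  set w := d * e with hw
  have hd2 := H.sq d hd
  have hw2 : w * w = 1 := by rw [hw, hde.symm.mul_mul_mul_comm, hd2, H.sq e he, one_mul]
  have hwne : w ≠ 1 := fun h => hne (by rw [mul_eq_one_iff_eq_inv.1 (show d * e = 1 from h), H.inv he])
  let X := Subgroup.centralizer ({w} : Set G)
  have hdw : Commute d w := (Commute.refl d).mul_right hde
  let wX : X := ⟨w, mem_cent.2 (Commute.refl w)⟩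
  let dX : X := ⟨d, mem_cent.2 hdw⟩
  have hdwne : dX ≠ wX := fun h => H.ne_one e he (mul_eq_left.1 (congrArg Subtype.val h : d = d * e).symm)
  have hiso : ∀ a : X, (dX * (a * dX * a⁻¹)) ^ 4 = 1 → a * dX * a⁻¹ = dX ∨ a * dX * a⁻¹ = dX * wX := by
    intro a h4
    have haw : Commute (a : G) w := mem_cent.1 a.2
    set f := (a : G) * d * (a : G)⁻¹ with hf
    have hfD := H.conj a d hd
    have h4' : (d * f) ^ 2 ^ 2 = 1 := congrArg Subtype.val h4
    have hfd : Commute d f := H.commute_pow_two 2 hd hfD h4'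
    have hfw : Commute f w := (haw.mul_left hdw).mul_left haw.inv_left
    have hfe : Commute f e := by
      have := hfd.symm.mul_right hfw
      rwa [hw, ← mul_assoc, hd2, one_mul] at this
    by_cases h1 : f = d
    · exact Or.inl (Subtype.ext h1)
    by_cases h2 : f = e
    · refine Or.inr (Subtype.ext ?_)
      show f = d * w
      rw [h2, hw, ← mul_assoc, hd2, one_mul]
    exfalso
    set e' := (a : G) * e * (a : G)⁻¹ with he'
    have he'D := H.conj a e he
    have hfe'w : f * e' = w := by
      rw [hf, he', show (a : G) * d * (a : G)⁻¹ * ((a : G) * e * (a : G)⁻¹) = (a : G) * w * (a : G)⁻¹ by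
        rw [hw]; group, haw.eq, mul_inv_cancel_right]
    have he'eq : e' = f * w := by rw [← hfe'w, ← mul_assoc, H.sq f hfD, one_mul]
    have hew : Commute e w := hde.symm.mul_right (Commute.refl e)
    refine H.four_ne hd he hfD (e := e') he'D hde hfd (by rw [he'eq]; exact hfd.mul_right hdw) hfe.symm
      (by rw [he'eq]; exact hfe.symm.mul_right hew)
      (by rw [he'eq]; exact (Commute.refl f).mul_right hfw) hne (Ne.symm h1) (fun h => ?_) (Ne.symm h2) (fun h => ?_)
      (fun h => ?_) hfe'w.symm
    · refine h2 ?_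
      calc f = f * e' * e' := by rw [mul_assoc, H.sq e' he'D, mul_one]
        _ = d * e * d := by rw [hfe'w, ← h]
        _ = e := by rw [hde.eq, mul_assoc, hd2, mul_one]
    · refine h1 ?_
      calc f = f * e' * e' := by rw [mul_assoc, H.sq e' he'D, mul_one]
        _ = d * e * e := by rw [hfe'w, ← h]
        _ = d := by rw [mul_assoc, H.sq e he, mul_one]
    · rw [← h, H.sq f hfD] at hfe'w
      exact hwne hfe'w.symm
  have hcen : ∀ x : X, Commute x wX := fun x => Subtype.ext (mem_cent.1 x.2).eq
  have ho2 : ∀ u : X, (u : G) * u = 1 → u ≠ 1 → orderOf u = 2 := fun u h2 h1 =>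
    orderOf_eq_prime (by rw [pow_two]; exact Subtype.ext h2) h1
  have := central_zstar (w := wX) (d := dX) (ho2 _ hw2 fun h => hwne (congrArg Subtype.val h)) hcen
    (ho2 _ hd2 fun h => H.ne_one d hd (congrArg Subtype.val h)) hdwne hiso ⟨g, mem_cent.2 hg⟩
  rcases this with h | h
  · refine ⟨_, Subgroup.mem_map_of_mem _ h, Or.inl ?_⟩
    show g * d * g⁻¹ = g * d * g⁻¹ * d * d
    rw [mul_assoc _ d d, hd2, mul_one]
  · refine ⟨_, Subgroup.mem_map_of_mem _ h, Or.inr ?_⟩
    show g * d * g⁻¹ = g * d * g⁻¹ * d * w * e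
    rw [mul_assoc _ w e, hw, mul_assoc d e e, H.sq e he, mul_one, mul_assoc _ d d, hd2, mul_one]

end Core

theorem core_le {d e g : G} (hd : d ∈ D) (he : e ∈ D) (hg : g ∈ D) (hde : Commute d e) (hdg : Commute d g)
    (heg : Commute e g) (hne : d ≠ e) (hdg' : d ≠ g) : centCore (d * g) ≤ centCore (d * e) := by
  intro n hn
  have hdi := H.core_inverts hd hg hdg hdg' n hn
  have hei := H.core_inverts_nbr hd hg hdg hdg' he hde.symm heg n hn
  have hew : Commute n (d * e) := by
    have : d * e * n * (d * e)⁻¹ = n := by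
      rw [show d * e * n * (d * e)⁻¹ = d * (e * n * e⁻¹) * d⁻¹ by group, hei,
        show d * n⁻¹ * d⁻¹ = (d * n * d⁻¹)⁻¹ by group, hdi, inv_inv]
    exact (mul_inv_eq_iff_eq_mul.1 this).symm
  obtain ⟨o, ho, h⟩ := H.zstar hd he hde hne (g := n) hew
  have hnn : n * n = n * d * n⁻¹ * d := by
    calc n * n = n * (d * n * d⁻¹)⁻¹ := by rw [hdi, inv_inv]
      _ = n * d * n⁻¹ * d⁻¹ := by group
      _ = _ := by rw [H.inv hd]
  obtain ⟨j, hj⟩ := odd_of_mem (centCore_odd _) hn
  have e4 : (n * n) ^ (j + 1) = n := by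
    rw [← pow_two, ← pow_mul, show 2 * (j + 1) = (2 * j + 1) + 1 by ring, pow_succ, ← hj, pow_orderOf_eq_one,
      one_mul]
  have hnn' : n * n ∈ centCore (d * e) := by
    rcases h with h | h
    · rw [hnn, h, mul_assoc, H.sq d hd, mul_one]; exact ho
    · exfalso
      rw [h, mul_assoc, hde.symm.eq] at hnn
      have hoc : Commute o (d * e) := centCore_comm ho
      obtain ⟨a, ha⟩ := odd_of_mem (centCore_odd _) (mul_mem hn hn)
      obtain ⟨b, hb⟩ := odd_of_mem (centCore_odd _) ho
      have hw2 : (d * e) ^ 2 = 1 := by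
        rw [pow_two, hde.symm.mul_mul_mul_comm, H.sq d hd, H.sq e he, one_mul]
      have hpow : (d * e) = o⁻¹ * (n * n) := by rw [hnn, inv_mul_cancel_left]
      have hcm : Commute o⁻¹ (n * n) := by rw [hnn]; exact ((Commute.refl o).mul_right hoc).inv_left
      have h1 : (d * e) ^ ((2 * b + 1) * (2 * a + 1)) = 1 := by
        rw [hpow, hcm.mul_pow]
        rw [show (o⁻¹) ^ ((2 * b + 1) * (2 * a + 1)) = 1 by
            rw [inv_pow, pow_mul, ← hb, pow_orderOf_eq_one, one_pow, inv_one],
          show (n * n) ^ ((2 * b + 1) * (2 * a + 1)) = 1 by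
            rw [mul_comm, pow_mul, ← ha, pow_orderOf_eq_one, one_pow], one_mul]
      rw [show (2 * b + 1) * (2 * a + 1) = 2 * (2 * a * b + a + b) + 1 by ring, pow_succ, pow_mul, hw2, one_pow,
        one_mul, mul_eq_one_iff_eq_inv, H.inv he] at h1
      exact hne h1
  exact e4 ▸ pow_mem hnn' _

theorem core_bot {d e : G} (hd : d ∈ D) (he : e ∈ D) (hde : Commute d e) (hne : d ≠ e) :
    ∀ n ∈ centCore (d * e), n = 1 := by
  -- the core is the same for all members commuting with `d`
  have hsame : ∀ g ∈ nbr D d, centCore (d * g) = centCore (d * e) := by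
    rintro g ⟨hg, hgd', hgd⟩
    rcases eq_or_ne g e with rfl | hge'
    · rfl
    by_cases hge : Commute e g
    · exact le_antisymm (H.core_le hd he hg hde hgd hge hne hgd'.symm)
        (H.core_le hd hg he hgd hde hge.symm hgd'.symm hne)
    obtain ⟨ψ, P, h0, h1⟩ := H.pts_two hd (y := e) (z := g) ⟨he, hne.symm, hde⟩ ⟨hg, hgd', hgd⟩ hge
    obtain ⟨k, hk⟩ := List.exists_mem_of_ne_nil common (fun h => by
      have := congrArg List.length h
      rw [CfsgLib.TypeM22.common_card] at this
      simp at this)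
    obtain ⟨hk1, hk2, hk3⟩ := mem_common.1 hk
    obtain ⟨hhD, hhd, hch⟩ := P.mem hk1
    have hhe : Commute (ψ k) e := h0 ▸ (P.comm hk1 (by norm_num)).2 hk2
    have hhg : Commute (ψ k) g := h1 ▸ (P.comm hk1 (by norm_num)).2 hk3
    refine le_antisymm ((H.core_le hd hhD hg hch hgd hhg hhd.symm hgd'.symm).trans
      (H.core_le hd he hhD hde hch hhe.symm hne hhd.symm))
      ((H.core_le hd hhD he hch hde hhe hhd.symm hne).trans (H.core_le hd hg hhD hgd hch hhg.symm hgd'.symm hhd.symm))
  intro n hn
  obtain ⟨ι, L⟩ := H.loc d hd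
  let K := centCore (d * e)
  -- so it is inverted by every generator of a perfect group
  have hinv : ∀ g ∈ nbr D d, ∀ m ∈ K, g * m * g⁻¹ = m⁻¹ := fun g hg m hm =>
    H.core_inverts' hd hg.1 hg.2.2 hg.2.1.symm m (hsame g hg ▸ hm)
  let Gp : Subgroup G :=
    { carrier := {c | (∀ m ∈ K, c * m * c⁻¹ = m) ∨ (∀ m ∈ K, c * m * c⁻¹ = m⁻¹)}
      one_mem' := Or.inl fun m _ => by simp
      mul_mem' := fun {a b} ha hb => by
        have e : ∀ m, a * b * m * (a * b)⁻¹ = a * (b * m * b⁻¹) * a⁻¹ := fun m => by group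
        rcases ha with ha | ha <;> rcases hb with hb | hb
        · exact Or.inl fun m hm => by rw [e, hb m hm, ha m hm]
        · exact Or.inr fun m hm => by rw [e, hb m hm, ha _ (inv_mem hm)]
        · exact Or.inr fun m hm => by rw [e, hb m hm, ha m hm]
        · exact Or.inl fun m hm => by rw [e, hb m hm, ha _ (inv_mem hm), inv_inv]
      inv_mem' := fun {a} ha => by
        rcases ha with ha | ha
        · exact Or.inl fun m hm => by
            conv_lhs => rw [← ha m hm]
            group
        · refine Or.inr fun m hm => ?_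
          have := ha _ (inv_mem hm)
          rw [inv_inv] at this
          conv_lhs => rw [← this]
          group }
  have hmemGp : ∀ u : subA, ι u ∈ Gp := fun u => by
    have : ι.range ≤ Gp := by
      rw [← L.closure_perp H.conj H.sq, Subgroup.closure_le]
      exact fun g hg => Or.inr (hinv g hg)
    exact this ⟨u, rfl⟩
  let Kc : Subgroup CfsgLib.Fi22Pres.subA :=
    { carrier := {u | ∀ m ∈ K, ι u * m * (ι u)⁻¹ = m}
      one_mem' := fun m _ => by simp
      mul_mem' := fun {a b} ha hb m hm => by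
        rw [map_mul, show ι a * ι b * m * (ι a * ι b)⁻¹ = ι a * (ι b * m * (ι b)⁻¹) * (ι a)⁻¹ by group, hb m hm,
          ha m hm]
      inv_mem' := fun {a} ha m hm => by
        conv_lhs => rw [← ha m hm]
        rw [map_inv]; group }
  have hcomm : commutator CfsgLib.Fi22Pres.subA ≤ Kc := by
    rw [commutator_def, Subgroup.commutator_le]
    intro a _ b _ m hm
    have act : ∀ u, ∃ s : Bool, ∀ m ∈ K, ι u * m * (ι u)⁻¹ = bif s then m⁻¹ else m := fun u => by
      rcases hmemGp u with h | h
      · exact ⟨false, h⟩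
      · exact ⟨true, h⟩
    obtain ⟨s, hs⟩ := act a
    obtain ⟨t, ht⟩ := act b
    have inv' : ∀ {u : subA} {r : Bool}, (∀ m ∈ K, ι u * m * (ι u)⁻¹ = bif r then m⁻¹ else m) →
        ∀ m ∈ K, (ι u)⁻¹ * m * ι u = bif r then m⁻¹ else m := fun {u r} hu m hm => by
      cases r
      · have := hu m hm
        simp only [cond_false] at this ⊢
        conv_lhs => rw [← this]
        group
      · have := hu _ (inv_mem hm)
        simp only [cond_true, inv_inv] at this ⊢
        conv_lhs => rw [← this]
        group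
    have hK : ∀ (r : Bool), ∀ m ∈ K, (bif r then m⁻¹ else m) ∈ K := fun r m hm => by
      cases r
      · exact hm
      · exact inv_mem hm
    rw [commutatorElement_def, map_mul, map_mul, map_mul, map_inv, map_inv,
      show ι a * ι b * (ι a)⁻¹ * (ι b)⁻¹ * m * (ι a * ι b * (ι a)⁻¹ * (ι b)⁻¹)⁻¹ =
        ι a * (ι b * ((ι a)⁻¹ * ((ι b)⁻¹ * m * ι b) * ι a) * (ι b)⁻¹) * (ι a)⁻¹ by group,
      inv' ht m hm, inv' hs _ (hK t m hm), ht _ (hK s _ (hK t m hm)), hs _ (hK t _ (hK s _ (hK t m hm)))]
    cases s <;> cases t <;> simp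
  have hperf : commutator CfsgLib.Fi22Pres.subA = ⊤ := CfsgLib.TypeM22.subA_perfect.1
  have hdm : d * n * d⁻¹ = n := by
    have := hcomm (hperf ▸ Subgroup.mem_top (⟨_, CfsgLib.TypeM22.gen0_mem⟩ : CfsgLib.Fi22Pres.subA)) n hn
    rwa [L.zero ⟨_, CfsgLib.TypeM22.gen0_mem⟩ rfl] at this
  exact H.core_fixed hd he hde hne hn (mul_inv_eq_iff_eq_mul.1 hdm).symm

/-- the members commuting with the product of two commuting members -/
theorem comm_pair {d e f : G} (hd : d ∈ D) (he : e ∈ D) (hde : Commute d e) (hne : d ≠ e) (hf : f ∈ D)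
    (h : Commute f (d * e)) : Commute f d ∧ Commute f e := by
  have key : Commute f d := by
    obtain ⟨o, ho, h'⟩ := H.zstar hd he hde hne (g := f) h
    rw [H.core_bot hd he hde hne o ho, one_mul, one_mul, H.inv hf] at h'
    rcases h' with h' | h'
    · calc f * d = f * d * (f * f) := by rw [H.sq f hf, mul_one]
        _ = f * d * f * f := by group
        _ = d * f := by rw [h']
    · refine H.commute_pow_two 2 hf hd ?_
      have hw2 : d * e * (d * e) = 1 := by rw [hde.symm.mul_mul_mul_comm, H.sq d hd, H.sq e he, one_mul]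
      rw [show (2 : ℕ) ^ 2 = 2 * 2 from rfl, pow_mul, pow_two (f * d),
        show f * d * (f * d) = f * d * f * d by group, h', ← hde.eq, pow_two, hw2]
  refine ⟨key, ?_⟩
  have := key.mul_right h
  rwa [← mul_assoc, H.sq d hd, one_mul] at this

/-- two commuting members are determined by their product -/
theorem pair_unique {a b d e : G} (ha : a ∈ D) (hb : b ∈ D) (hd : d ∈ D) (he : e ∈ D) (hab : Commute a b)
    (hde : Commute d e) (hne : d ≠ e) (h : a * b = d * e) : (a = d ∧ b = e) ∨ (a = e ∧ b = d) := by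
  have hab' : a ≠ b := fun e' => hne (by
    rw [e', H.sq b hb] at h
    rw [mul_eq_one_iff_eq_inv.1 h.symm, H.inv he])
  have haw : Commute a (d * e) := h ▸ (Commute.refl a).mul_right hab
  have hbw : Commute b (d * e) := h ▸ hab.symm.mul_right (Commute.refl b)
  obtain ⟨had, hae⟩ := H.comm_pair hd he hde hne ha haw
  obtain ⟨hbd, hbe⟩ := H.comm_pair hd he hde hne hb hbw
  by_cases h1 : a = d
  · left; refine ⟨h1, ?_⟩; rw [h1] at h; exact mul_left_cancel h
  by_cases h2 : a = e
  · right; refine ⟨h2, ?_⟩; rw [h2, hde.eq] at h; exact mul_left_cancel h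
  by_cases h3 : b = d
  · rw [h3, had.eq] at h; exact absurd (mul_left_cancel h) h2
  by_cases h4 : b = e
  · rw [h4] at h; exact absurd (mul_right_cancel h) h1
  exact absurd h (H.four_ne ha hb hd he hab had hae hbd hbe hde hab' h1 h2 h3 h4 hne)

/-- an element commuting with the product permutes the two -/
theorem pair_map {d e g : G} (hd : d ∈ D) (he : e ∈ D) (hde : Commute d e) (hne : d ≠ e)
    (hg : Commute g (d * e)) : (g * d * g⁻¹ = d ∧ g * e * g⁻¹ = e) ∨ (g * d * g⁻¹ = e ∧ g * e * g⁻¹ = d) :=
  H.pair_unique (H.conj g d hd) (H.conj g e he) hd he (hde.map (MulAut.conj g)) hde hne (by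
    rw [show g * d * g⁻¹ * (g * e * g⁻¹) = g * (d * e) * g⁻¹ by group, hg.eq, mul_inv_cancel_right])

end Hyp

end CfsgLib.M22Recog
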