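import Cfsg.Agent.Lib.M22Recog.Pair

/-!
The orders of products of members and the involutions commuting with a member.
-/

set_option autoImplicit false
set_option linter.unusedSectionVars false

namespace CfsgLib.M22Recog

open CfsgLib.USixFusion (invol_into E22)

variable {G : Type*} [Group G] [Finite G] {D : Set G}

/-- three pairwise commuting different members -/
structure Triad (D : Set G) (a b c : G) : Prop where
  ma : a ∈ D
  mb : b ∈ D
  mc : c ∈ D
  ab : Commute a b
  ac : Commute a c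
  bc : Commute b c
  nab : a ≠ b
  nac : a ≠ c
  nbc : b ≠ c

namespace Hyp

variable (H : Hyp D)
include H

theorem conj_odd {x y : G} (hx : x ∈ D) (hy : y ∈ D) : ∀ t : ℕ, x * (x * y) ^ (2 * t + 1) ∈ D
  | 0 => by rw [pow_one, ← mul_assoc, H.sq x hx, one_mul]; exact hy
  | t + 1 => by
    have h := H.conj (x * y)⁻¹ _ (conj_odd hx hy t)
    have e : (x * y)⁻¹ * x = x * (x * y) := by
      rw [mul_inv_rev, H.inv hx, H.inv hy, mul_assoc, H.sq x hx, mul_one, ← mul_assoc, H.sq x hx, one_mul]
    rw [inv_inv] at h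
    generalize x * y = u at h e ⊢
    have e' : u⁻¹ * (x * u ^ (2 * t + 1)) * u = x * u ^ (2 * (t + 1) + 1) := by
      rw [← mul_assoc u⁻¹ x, e, mul_assoc, mul_assoc, ← pow_succ, ← pow_succ',
        show 2 * t + 1 + 1 + 1 = 2 * (t + 1) + 1 by ring]
    rwa [e'] at h

/-- two members commute or have product of odd order -/
theorem commute_or_odd {x y : G} (hx : x ∈ D) (hy : y ∈ D) : Commute x y ∨ Odd (orderOf (x * y)) := by
  set n := orderOf (x * y)
  obtain ⟨k, s, hs, hn⟩ := Nat.exists_eq_two_pow_mul_odd (n := n) (orderOf_pos _).ne'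
  rcases Nat.eq_zero_or_pos k with rfl | hk
  · exact Or.inr (by rw [hn, pow_zero, one_mul]; exact hs)
  left
  obtain ⟨t, rfl⟩ := hs
  have hz := H.conj_odd hx hy t
  set z := x * (x * y) ^ (2 * t + 1) with hzdef
  have hxz : x * z = (x * y) ^ (2 * t + 1) := by rw [hzdef, ← mul_assoc, H.sq x hx, one_mul]
  have hord : (x * z) ^ 2 ^ k = 1 := by
    rw [hxz, ← pow_mul, mul_comm, ← hn, pow_orderOf_eq_one]
  have hc : Commute x z := H.commute_pow_two k hx hz hord
  by_cases hxe : x = z
  · -- the order is odd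
    exfalso
    have h1 : (x * y) ^ (2 * t + 1) = 1 := by rw [← hxz, ← hxe, H.sq x hx]
    have hd := Nat.le_of_dvd (by omega) (orderOf_dvd_of_pow_eq_one h1)
    have h2k : 2 ≤ 2 ^ k := by
      calc 2 = 2 ^ 1 := rfl
        _ ≤ 2 ^ k := Nat.pow_le_pow_right (by norm_num) hk
    have := Nat.mul_le_mul_right (2 * t + 1) h2k
    change n ≤ 2 * t + 1 at hd
    omega
  have hj : Commute y (x * z) := by
    have h2 : (x * z) * (x * z) = 1 := by rw [hc.symm.mul_mul_mul_comm, H.sq x hx, H.sq z hz, one_mul]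
    have hu : Commute (x * y) (x * z) := hxz ▸ (Commute.refl (x * y)).pow_right _
    have hxj : Commute x (x * z) := (Commute.refl x).mul_right hc
    have := hxj.inv_left.mul_left hu
    rwa [inv_mul_cancel_left] at this
  exact (H.comm_pair hx hz hc hxe hy hj).1.symm

theorem odd_of_not_commute {x y : G} (hx : x ∈ D) (hy : y ∈ D) (h : ¬ Commute x y) : Odd (orderOf (x * y)) :=
  (H.commute_or_odd hx hy).resolve_left h

/-- an involution commuting with a member is a product of at most three commuting members -/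
theorem invol_cases {i x : G} (hi : i * i = 1) (hi1 : i ≠ 1) (hx : x ∈ D) (hc : Commute i x) :
    (i ∈ D) ∨
    (∃ a b, a ∈ D ∧ b ∈ D ∧ Commute a b ∧ a ≠ b ∧ Commute a x ∧ Commute b x ∧ i = a * b) ∨
    (∃ a b c, Triad D a b c ∧ Commute a x ∧ Commute b x ∧ Commute c x ∧ i = a * b * c) := by
  obtain ⟨ι, L⟩ := H.loc x hx
  obtain ⟨u, rfl⟩ := (L.range i).2 hc
  obtain ⟨g, hg⟩ := invol_into (x := u) (L.inj (by rw [map_mul, map_one]; exact hi))
  have hgx : Commute (ι g) x := (L.range _).1 ⟨g, rfl⟩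
  obtain ⟨l, hnd, hl, hlen, hprod⟩ := exists_decomp ⟨_, hg⟩
  have e : ι g * ι u * (ι g)⁻¹ = (l.map (tG ι)).prod := by
    rw [tG_prod, ← hprod, ← map_inv, ← map_mul, ← map_mul]
    rfl
  let t : ℕ → G := fun k => (ι g)⁻¹ * tG ι k * ι g
  have htD : ∀ k < 22, t k ∈ D := fun k hk => by
    have := H.conj (ι g)⁻¹ _ (L.frame k hk)
    rwa [inv_inv] at this
  have htx : ∀ k < 22, Commute (t k) x := fun k hk =>
    (hgx.inv_left.mul_left ((L.range _).1 ⟨tA k, rfl⟩)).mul_left hgx
  have htc : ∀ k < 22, ∀ m < 22, Commute (t k) (t m) := fun k hk m hm => by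
    have := (frameGrp_comm (tG_mem ι k) (tG_mem ι m)).map (MulAut.conj (ι g)⁻¹)
    simpa [t] using this
  have htne : ∀ k < 22, ∀ m < 22, k ≠ m → t k ≠ t m := fun k hk m hm h e' =>
    h (L.frame_inj hk hm (by simpa [t] using e'))
  have hu : ι u = (ι g)⁻¹ * (l.map (tG ι)).prod * ι g := by rw [← e]; group
  match l, hlen, hnd, hl, hu with
  | [], _, _, _, hu => exact absurd (by simpa using hu) hi1
  | [a], _, _, hl, hu =>
    refine Or.inl ?_
    rw [show ι u = t a by simpa [t] using hu]
    exact htD a (hl a (by simp))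
  | [a, b], _, hnd, hl, hu =>
    refine Or.inr (Or.inl ⟨t a, t b, htD a (hl a (by simp)), htD b (hl b (by simp)),
      htc a (hl a (by simp)) b (hl b (by simp)),
      htne a (hl a (by simp)) b (hl b (by simp)) (by simpa using hnd), htx a (hl a (by simp)),
      htx b (hl b (by simp)), ?_⟩)
    rw [hu]; simp [t, mul_assoc]
  | [a, b, c], _, hnd, hl, hu =>
    simp only [List.nodup_cons, List.mem_cons, List.not_mem_nil, or_false, not_or] at hnd
    have ha := hl a (by simp)
    have hb := hl b (by simp)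
    have hc := hl c (by simp)
    refine Or.inr (Or.inr ⟨t a, t b, t c, ⟨htD a ha, htD b hb, htD c hc, htc a ha b hb, htc a ha c hc,
      htc b hb c hc, htne a ha b hb hnd.1.1, htne a ha c hc hnd.1.2, htne b hb c hc hnd.2.1⟩,
      htx a ha, htx b hb, htx c hc, ?_⟩)
    rw [hu]; simp [t, mul_assoc]
  | _ :: _ :: _ :: _ :: _, hlen, _, _, _ => simp only [List.length_cons] at hlen; omega

end Hyp

end CfsgLib.M22Recog
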