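import Cfsg.Agent.Lib.M22Recog.Products
import Cfsg.Agent.Lib.TypeM22.InvolChecks

/-!
Two commuting members do not exchange the two triads of a six.
-/

set_option autoImplicit false
set_option linter.unusedSectionVars false

namespace CfsgLib.M22Recog

open CfsgLib.TypeM22
open CfsgLib.CosetEnum (prodW prodW_nil prodW_cons prodW_append)
open CfsgLib.ThreeTransp.Relations (nbr)

variable {G : Type*} [Group G] [Finite G] {D : Set G} {z : G} {φ : ℕ → G}

theorem swapTree_word : ∀ (l : List (ℕ × ℕ × ℕ)), swapTreeB l = true → ∀ p ∈ l, ∃ (w : List ℕ) (x : ℕ),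
    (∀ m ∈ w, m < 693 ∧ perpB m 0 = true ∧ perpB m 2 = true) ∧ x ∈ swapReps ∧ x < 693 ∧ act w x = p.1 := by
  intro l
  induction l with
  | nil => simp
  | cons q rest ih =>
    obtain ⟨y, m, x⟩ := q
    intro h p hp
    simp only [swapTreeB, Bool.and_eq_true, Bool.or_eq_true, Nat.blt_eq, Nat.beq_eq, List.any_eq_true] at h
    obtain ⟨⟨⟨⟨⟨⟨hm, hm0⟩, hm2⟩, hx⟩, hR⟩, hsrc⟩, hrest⟩ := h
    rcases List.mem_cons.1 hp with rfl | hp
    · rcases hsrc with ⟨u, hu, e⟩ | ⟨u, hu, e⟩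
      · subst e
        exact ⟨[m], x, by simp [hm, hm0, hm2], hu, hx, hR⟩
      · obtain ⟨w, x', hw, hx', hx'', e'⟩ := ih hrest u hu
        refine ⟨m :: w, x', ?_, hx', hx'', ?_⟩
        · intro k hk
          rcases List.mem_cons.1 hk with rfl | hk
          · exact ⟨hm, hm0, hm2⟩
          · exact hw k hk
        · rw [act_cons, e', ← e]
          exact hR
    · exact ih hrest p hp

theorem distB_iff : ∀ {l : List ℕ}, distB l = true ↔ l.Nodup
  | [] => by simp [distB]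
  | x :: l => by
    rw [distB, Bool.and_eq_true, List.all_eq_true, List.nodup_cons, distB_iff]
    refine and_congr_left fun _ => ⟨fun h hx => by simpa using h x hx, fun h y hy => ?_⟩
    rw [Bool.not_eq_true', Bool.eq_false_iff]
    exact fun e => h (Nat.eq_of_beq_eq_true e ▸ hy)

theorem cliqueB_of : ∀ {l : List ℕ}, (∀ x ∈ l, ∀ y ∈ l, perpB x y = true) → cliqueB l = true
  | [], _ => rfl
  | x :: l, h => by
    rw [cliqueB, Bool.and_eq_true, List.all_eq_true]
    exact ⟨fun y hy => h x (List.mem_cons_self ..) y (List.mem_cons_of_mem _ hy),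
      cliqueB_of fun a ha b hb => h a (List.mem_cons_of_mem _ ha) b (List.mem_cons_of_mem _ hb)⟩

theorem act_congr_of_prod (P : Pts D z φ) {u v : List ℕ} (hu : ∀ m ∈ u, m < 693) (hv : ∀ m ∈ v, m < 693)
    (h : prodW φ u = prodW φ v) {x : ℕ} (hx : x < 693) : act u x = act v x :=
  P.inj (act_lt hu hx) (act_lt hv hx) (by rw [P.conj_act hu hx, P.conj_act hv hx, h])

namespace Hyp

variable (H : Hyp D)
include H

/-- the numbering may start with any two commuting members as 0 and 2 -/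
theorem pts_commuting {x y t : G} (hx : x ∈ D) (hy : y ∈ nbr D x) (ht : t ∈ nbr D x) (hyt : Commute y t)
    (hne : y ≠ t) : ∃ ψ, Pts D x ψ ∧ ψ 0 = y ∧ ψ 2 = t := by
  obtain ⟨ψ, P⟩ := H.exists_pts hx
  obtain ⟨p, hp, rfl⟩ := P.surj hy
  obtain ⟨q, hq, rfl⟩ := P.surj ht
  have e : (triTree.take 2).map Prod.fst = [[], [false]] := by decide +kernel
  have h1 : Nat.beq q p = false := Bool.eq_false_iff.2 fun e => hne (congrArg ψ (Nat.eq_of_beq_eq_true e)).symm
  obtain ⟨w, hw, hmem⟩ := norm (pre := []) triTree_take.2.2.1 (List.mem_singleton_self _) (vs := [p, q])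
    (by simp [hp, hq]) (by rw [e]; simp [fits, fitB, h1, (P.comm hq hp).1 hyt.symm])
  rw [triTree_take.2.2.2, List.mem_singleton] at hmem
  simp only [List.nil_append, List.map_cons, List.map_nil, List.cons.injEq, and_true] at hmem
  obtain ⟨g, hg⟩ : ∃ g, g = prodW ψ w := ⟨_, rfl⟩
  refine ⟨fun i => g⁻¹ * ψ i * g⁻¹⁻¹, ?_, ?_, ?_⟩
  · have e : g⁻¹ * x * g⁻¹⁻¹ = x := by rw [hg, (P.commute_prodW hw).inv_left.eq, mul_inv_cancel_right]
    have := P.map H.conj g⁻¹
    rwa [e] at this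
  · show g⁻¹ * ψ 0 * g⁻¹⁻¹ = ψ p
    rw [← hmem.1, P.conj_act hw hp, ← hg]; group
  · show g⁻¹ * ψ 2 * g⁻¹⁻¹ = ψ q
    rw [← hmem.2, P.conj_act hw hq, ← hg]; group

/-- no such exchange -/
theorem no_swap {r s f a b : G} (hz : z ∈ D) (hr : r ∈ nbr D z) (hs : s ∈ nbr D z) (hrs : Commute r s)
    (hne : r ≠ s) (hf : f ∈ nbr D z) (ha : a ∈ nbr D z) (hb : b ∈ nbr D z)
    (hnd : [f, a, b, r * s * f * (r * s), r * s * a * (r * s), r * s * b * (r * s)].Nodup)
    (hc : ∀ x ∈ [f, a, b, r * s * f * (r * s), r * s * a * (r * s), r * s * b * (r * s)],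
      ∀ y ∈ [f, a, b, r * s * f * (r * s), r * s * a * (r * s), r * s * b * (r * s)], Commute x y)
    (hprod : f * a * b = (r * s * f * (r * s)) * (r * s * a * (r * s)) * (r * s * b * (r * s))) : False := by
  obtain ⟨ψ₀, P₀, h00, h02⟩ := H.pts_commuting hz hr hs hrs hne
  have h0 : (0 : ℕ) < 693 := by norm_num
  have h2 : (2 : ℕ) < 693 := by norm_num
  have hi2 : r * s * (r * s) = 1 := by rw [hrs.symm.mul_mul_mul_comm, H.sq r hr.1, H.sq s hs.1, one_mul]
  -- the image of a point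
  have himg : ∀ {ψ : ℕ → G}, Pts D z ψ → ψ 0 = r → ψ 2 = s → ∀ i < 693,
      img02 i < 693 ∧ ψ (img02 i) = r * s * ψ i * (r * s) := fun {ψ} P e0 e2 i hi => by
    refine ⟨R_lt h0 (R_lt h2 hi), ?_⟩
    rw [img02, ← P.conj h0 (R_lt h2 hi), ← P.conj h2 hi, e0, e2, H.inv hr.1, H.inv hs.1]
    nth_rw 2 [hrs.eq]
    group
  have hcand : ∀ {ψ : ℕ → G}, Pts D z ψ → ψ 0 = r → ψ 2 = s → ∀ x ∈ [f, a, b], ∀ i < 693, ψ i = x →
      i ∈ swapCand := fun {ψ} P e0 e2 x hx i hi ei => by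
    obtain ⟨hj, ej⟩ := himg P e0 e2 i hi
    rw [ei] at ej
    simp only [swapCand, List.mem_filter, List.mem_range, Bool.and_eq_true, Bool.not_eq_true']
    refine ⟨hi, Bool.eq_false_iff.2 fun e => ?_, ?_⟩
    · rw [Nat.eq_of_beq_eq_true e, ei] at ej
      simp only [List.nodup_cons, List.mem_cons, List.not_mem_nil, or_false, not_or] at hnd
      simp only [List.mem_cons, List.not_mem_nil, or_false] at hx
      rcases hx with rfl | rfl | rfl
      · exact hnd.1.2.2.1 ej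
      · exact hnd.2.1.2.2.1 ej
      · exact hnd.2.2.1.2.2 ej
    · refine (P.comm hi hj).1 ?_
      rw [ei, ej]
      simp only [List.mem_cons, List.not_mem_nil, or_false] at hx
      rcases hx with rfl | rfl | rfl <;> exact hc _ (by simp) _ (by simp)
  -- move the first to a representative
  obtain ⟨pf, hpf, epf⟩ := P₀.surj hf
  have hin := hcand P₀ h00 h02 f (by simp) pf hpf epf
  have hsrc := List.all_eq_true.1 swapCand_ok.2 pf hin
  obtain ⟨w, x, hw, hxr, hx, ex⟩ : ∃ (w : List ℕ) (x : ℕ), (∀ m ∈ w, m < 693 ∧ perpB m 0 = true ∧ perpB m 2 = true) ∧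
      x ∈ swapReps ∧ x < 693 ∧ act w x = pf := by
    rw [Bool.or_eq_true, List.any_eq_true, List.any_eq_true] at hsrc
    rcases hsrc with ⟨u, hu, e⟩ | ⟨u, hu, e⟩
    · exact ⟨[], pf, by simp, Nat.eq_of_beq_eq_true e ▸ hu, hpf, rfl⟩
    · obtain ⟨w, x, hw, hxr, hx, ex⟩ := swapTree_word _ swapCand_ok.1 u hu
      exact ⟨w, x, hw, hxr, hx, ex.trans (Nat.eq_of_beq_eq_true e).symm⟩
  have hwlt : ∀ m ∈ w, m < 693 := fun m hm => (hw m hm).1
  set g := prodW ψ₀ w with hg
  have hgz : Commute g z := P₀.commute_prodW hwlt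
  have hgc : ∀ {i : ℕ}, i < 693 → (∀ m ∈ w, perpB m i = true) → Commute g (ψ₀ i) := by
    intro i hi hall
    rw [hg]
    clear hg hgz g ex hw
    induction w with
    | nil => rw [prodW_nil]; exact Commute.one_left _
    | cons m w ih =>
      rw [prodW_cons]
      exact ((P₀.comm (hwlt m (List.mem_cons_self ..)) hi).2 (hall m (List.mem_cons_self ..))).mul_left
        (ih (fun k hk => hwlt k (List.mem_cons_of_mem _ hk)) fun k hk => hall k (List.mem_cons_of_mem _ hk))
  have P : Pts D z fun i => g * ψ₀ i * g⁻¹ := by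
    have := P₀.map H.conj g
    rwa [hgz.eq, mul_inv_cancel_right] at this
  set ψ := fun i => g * ψ₀ i * g⁻¹ with hψ
  have e0 : ψ 0 = r := by
    show g * ψ₀ 0 * g⁻¹ = r
    rw [(hgc h0 fun m hm => (hw m hm).2.1).eq, mul_inv_cancel_right, h00]
  have e2 : ψ 2 = s := by
    show g * ψ₀ 2 * g⁻¹ = s
    rw [(hgc h2 fun m hm => (hw m hm).2.2).eq, mul_inv_cancel_right, h02]
  have ef : ψ x = f := by
    show g * ψ₀ x * g⁻¹ = f
    rw [hg, ← P₀.conj_act hwlt hx, ex, epf]
  obtain ⟨pa, hpa, ea⟩ := P.surj ha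
  obtain ⟨pb, hpb, eb⟩ := P.surj hb
  obtain ⟨hjf, ejf⟩ := himg P e0 e2 x hx
  obtain ⟨hja, eja⟩ := himg P e0 e2 pa hpa
  obtain ⟨hjb, ejb⟩ := himg P e0 e2 pb hpb
  rw [ef] at ejf
  rw [ea] at eja
  rw [eb] at ejb
  have hlt : ∀ i ∈ [x, pa, pb, img02 x, img02 pa, img02 pb], i < 693 := by simp [hx, hpa, hpb, hjf, hja, hjb]
  have hmap : [x, pa, pb, img02 x, img02 pa, img02 pb].map ψ =
      [f, a, b, r * s * f * (r * s), r * s * a * (r * s), r * s * b * (r * s)] := by
    simp only [List.map_cons, List.map_nil, ef, ea, eb, ejf, eja, ejb]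
  have hnd' : [x, pa, pb, img02 x, img02 pa, img02 pb].Nodup := List.Nodup.of_map ψ (hmap.symm ▸ hnd)
  have hperp : ∀ i ∈ [x, pa, pb, img02 x, img02 pa, img02 pb], ∀ j ∈ [x, pa, pb, img02 x, img02 pa, img02 pb],
      perpB i j = true := fun i hi j hj =>
    (P.comm (hlt i hi) (hlt j hj)).1 (hc _ (hmap ▸ List.mem_map_of_mem hi) _ (hmap ▸ List.mem_map_of_mem hj))
  have hchk := List.all_eq_true.1 (List.all_eq_true.1 swap_ok x hxr) pa (hcand P e0 e2 a (by simp) pa hpa ea)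
  have hne' : Nat.beq x pa = false := Bool.eq_false_iff.2 fun e => by
    rw [Nat.eq_of_beq_eq_true e] at hnd'
    simp at hnd'
  rw [hperp x (by simp) pa (by simp), hperp x (by simp) (img02 pa) (by simp), hne'] at hchk
  simp only [Bool.not_false, Bool.and_self, Bool.not_true, Bool.false_or, List.all_eq_true] at hchk
  have hB := hchk pb (hcand P e0 e2 b (by simp) pb hpb eb)
  rw [swapB, hperp x (by simp) pb (by simp), hperp pa (by simp) pb (by simp), hperp x (by simp) (img02 pb) (by simp),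
    hperp pa (by simp) (img02 pb) (by simp), distB_iff.2 hnd', cliqueB_of hperp] at hB
  simp only [Bool.and_self, Bool.not_true, Bool.false_or, List.any_eq_true, List.mem_range, Bool.not_eq_true'] at hB
  obtain ⟨u, hu, hne''⟩ := hB
  refine Nat.ne_of_beq_eq_false hne'' (act_congr_of_prod P (by simp [hx, hpa, hpb]) (by simp [hjf, hja, hjb]) ?_ hu)
  simp only [prodW_cons, prodW_nil, mul_one, ef, ea, eb, ejf, eja, ejb, ← mul_assoc]
  rw [hprod]
  simp only [mul_assoc]

end Hyp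

end CfsgLib.M22Recog
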